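/-
Two elements of trace one of SL_2(p), p ≥ 5: whole group or exceptional trace of the product.
Main results: `slTwo_le_or_exc5`.
-/
import Cfsg.Agent.Lib.C6Three.PairDickson

set_option autoImplicit false
set_option linter.unusedSectionVars false

namespace Cfsg.Agent.C6NineOdd

open Matrix Subgroup
open scoped commutatorElement
open Cfsg.Agent Cfsg.Agent.C6Three

variable {F : Type*} [Field F] [Fintype F] {p : ℕ} [Fact p.Prime]

local notation "π" => QuotientGroup.mk' (Subgroup.center (PSL2.SL2 F))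

theorem small_products {X : Type*} [Group X]
    (h : Nonempty (X ≃* alternatingGroup (Fin 4)) ∨ Nonempty (X ≃* Equiv.Perm (Fin 4)))
    (a b : X) (ha : a ^ 3 = 1) (hb : b ^ 3 = 1) :
    a * b = 1 ∨ (a * b) ^ 2 = 1 ∨ (a * b) ^ 3 = 1 := by
  have a4 : ∀ a : alternatingGroup (Fin 4), a ^ 3 = 1 → ∀ b : alternatingGroup (Fin 4),
      b ^ 3 = 1 → a * b = 1 ∨ (a * b) ^ 2 = 1 ∨ (a * b) ^ 3 = 1 := by decide +kernel
  have s4 : ∀ a : Equiv.Perm (Fin 4), a ^ 3 = 1 → ∀ b : Equiv.Perm (Fin 4),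
      b ^ 3 = 1 → a * b = 1 ∨ (a * b) ^ 2 = 1 ∨ (a * b) ^ 3 = 1 := by decide +kernel
  rcases h with ⟨⟨e⟩⟩ | ⟨⟨e⟩⟩
  · simpa only [← map_mul, ← map_pow, map_eq_one_iff e e.injective] using
      a4 (e a) (by rw [← map_pow, ha, map_one]) (e b) (by rw [← map_pow, hb, map_one])
  · simpa only [← map_mul, ← map_pow, map_eq_one_iff e e.injective] using
      s4 (e a) (by rw [← map_pow, ha, map_one]) (e b) (by rw [← map_pow, hb, map_one])

/-- For five elements. -/
theorem slTwo_le_of_five (hF : Fintype.card F = p) (hp : p = 5) {H : Subgroup (GL (Fin 2) F)}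
    (hsc : C6Two.HasScalars H) {s t : PSL2.SL2 F} (hs : s ∈ C6Two.slPart H)
    (ht : t ∈ C6Two.slPart H) (hs1 : PSL2.tr s = 1) (ht1 : PSL2.tr t = 1) (τ : F)
    (hτ : PSL2.tr (s * t) = τ) (hc : τ ^ 2 - τ ≠ 2 ∧ τ ^ 2 - τ ≠ -2)
    (hne : τ ≠ 0 ∧ τ ^ 2 - 1 ≠ 0) : ∀ u : PSL2.SL2 F, u ∈ C6Two.slPart H := by
  have hct : PSL2.tr ⁅s, t⁆ = τ ^ 2 - τ := by rw [tr_comm, hs1, ht1, hτ]; ring
  rcases C6Two.sl_or_exceptional hF (by omega) hsc hs ht (cube_of_tr_one hs1) (cube_of_tr_one ht1)
    ⟨hct ▸ hc.1, hct ▸ hc.2⟩ with h | ⟨hnp, h⟩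
  · exact h
  exfalso
  have h' : Nonempty ((C6Two.slPart H).map π ≃* alternatingGroup (Fin 4)) ∨
      Nonempty ((C6Two.slPart H).map π ≃* Equiv.Perm (Fin 4)) := by
    rcases h with h | h | ⟨⟨e⟩⟩
    · exact Or.inl h
    · exact Or.inr h
    · refine absurd ?_ hnp
      rw [hp, Nat.card_congr e.toEquiv, nat_card_alternatingGroup]
      simp [Nat.factorial]
  set g := s * t with hg
  have hx := small_products h' ⟨π s, ⟨s, hs, rfl⟩⟩ ⟨π t, ⟨t, ht, rfl⟩⟩
    (Subtype.ext (by simpa using cube_of_tr_one hs1)) (Subtype.ext (by simpa using cube_of_tr_one ht1))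
  simp only [Subtype.ext_iff, SubmonoidClass.coe_pow, OneMemClass.coe_one, MulMemClass.coe_mul,
    ← map_mul, ← hg] at hx
  have key : ∀ n : ℕ, ∀ a b : F, g.1 ^ n = PSL2.lin g a b → π g ^ n = 1 → b = 0 := by
    intro n a b hab hn
    rw [← map_pow] at hn
    by_contra hb
    have hgn : g ∈ Subgroup.center (PSL2.SL2 F) := by
      obtain ⟨c, hc'⟩ : ∃ c : F, PSL2.lin g a b = c • 1 := by
        rcases PSL2.mem_center_iff'.1 ((QuotientGroup.eq_one_iff _).1 hn) with e | e
        · exact ⟨1, by rw [← hab, ← C6Two.coe_pow', e, one_smul]; rfl⟩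
        · exact ⟨-1, by rw [← hab, ← C6Two.coe_pow', e]; simp⟩
      have hg' : g.1 = ((c - a) / b) • (1 : Matrix (Fin 2) (Fin 2) F) := by
        rw [PSL2.lin] at hc'
        rw [div_eq_inv_mul, mul_smul, sub_smul, ← hc', add_sub_cancel_left, smul_smul,
          inv_mul_cancel₀ hb, one_smul]
      rw [Subgroup.mem_center_iff]
      intro u
      refine Subtype.ext ?_
      show u.1 * g.1 = g.1 * u.1
      rw [hg']
      simp
    have : Commute s t := by
      rw [show t = s⁻¹ * g by rw [hg, inv_mul_cancel_left]]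
      exact ((Commute.refl s).inv_right).mul_right (Subgroup.mem_center_iff.1 hgn s)
    exact hc.1 (by rw [← hct, commutatorElement_eq_one_iff_commute.2 this, PSL2.tr_one])
  have one' : g.1 = PSL2.lin g 0 1 := by simp [PSL2.lin]
  have p2 : g.1 ^ 2 = PSL2.lin g (-1) τ := by
    rw [pow_two, PSL2.coe_sq, hτ, PSL2.lin]; module
  have p3 : g.1 ^ 3 = PSL2.lin g (-τ) (τ ^ 2 - 1) := by
    rw [pow_succ, p2]
    refine (congrArg (_ * ·) one').trans ?_
    show PSL2.lin g _ _ * PSL2.lin g 0 1 = _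
    rw [PSL2.lin_mul_lin, hτ]; congr 1 <;> ring
  obtain ⟨h0, h1⟩ := hne
  rcases hx with e | e | e
  · exact one_ne_zero (key 1 0 1 (by rw [pow_one]; exact one') (by rw [pow_one]; exact e))
  · exact h0 (key 2 _ _ p2 e)
  · exact h1 (key 3 _ _ p3 e)

/-- The exceptional values of the trace. -/
theorem slTwo_le_or_exc5 (hF : Fintype.card F = p) (hp5 : 5 ≤ p) {H : Subgroup (GL (Fin 2) F)}
    (hsc : C6Two.HasScalars H) {s t : PSL2.SL2 F} (hs : s ∈ C6Two.slPart H)
    (ht : t ∈ C6Two.slPart H) (hs1 : PSL2.tr s = 1) (ht1 : PSL2.tr t = 1) (x : F)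
    (hx : PSL2.tr (s * t) = x) (hx1 : x ≠ -1) (hx2 : x ≠ 2) :
    (∀ u : PSL2.SL2 F, u ∈ C6Two.slPart H) ∨ (Exc x ∧ ((5 : F) = 0 → x * (x - 1) = 0)) := by
  haveI := C6Two.charP_of_card hF
  have hsmall : ∀ n : ℕ, n ≠ 0 → n < 5 → ((n : ℕ) : F) ≠ 0 := fun n h0 h5 e => by
    have := Nat.le_of_dvd (by omega) ((CharP.cast_eq_zero_iff F p n).1 e)
    omega
  have h2 : (2 : F) ≠ 0 := mod_cast hsmall 2 (by norm_num) (by norm_num)
  have h3 : (3 : F) ≠ 0 := mod_cast hsmall 3 (by norm_num) (by norm_num)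
  have h4 : (4 : F) ≠ 0 := mod_cast hsmall 4 (by norm_num) (by norm_num)
  have f2 : x ^ 2 - x ≠ 2 := fun e => by
    rcases mul_eq_zero.1 (show (x + 1) * (x - 2) = 0 by linear_combination e) with h | h
    · exact hx1 (by linear_combination h)
    · exact hx2 (by linear_combination h)
  by_cases h5 : (5 : F) = 0
  · have hp : p = 5 := by
      have : p ∣ 5 := (CharP.cast_eq_zero_iff F p 5).1 (by exact_mod_cast h5)
      exact (Nat.prime_dvd_prime_iff_eq Fact.out (by norm_num)).1 this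
    by_cases hxx : x * (x - 1) = 0
    · refine Or.inr ⟨?_, fun _ => hxx⟩
      show x * (x - 1) * (x ^ 2 - x - 1) = 0
      rw [hxx, zero_mul]
    left
    simp only [mul_eq_zero, not_or, sub_eq_zero] at hxx
    refine slTwo_le_of_five hF hp hsc hs ht hs1 ht1 x hx ⟨f2, fun e => ?_⟩ ⟨hxx.1, fun e => ?_⟩
    · have hex : ∀ y : ZMod 5, y ^ 2 - y ≠ -2 := by decide
      subst hp
      obtain ⟨y, hy⟩ := (ZMod.castHom_bijective F hF).2 x
      refine hex y ((ZMod.castHom_bijective F hF).1 ?_)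
      rw [← hy] at e
      rw [map_sub, map_pow, map_neg, map_ofNat]
      exact e
    · rcases mul_eq_zero.1 (show (x - 1) * (x + 1) = 0 by linear_combination e) with h | h
      · exact hxx.2 (by linear_combination h)
      · exact hx1 (by linear_combination h)
  by_cases f1 : x ^ 2 - x = -2
  · left
    have e1 : PSL2.tr (t * s * t⁻¹) = 1 := by rw [PSL2.tr_conj, hs1]
    have hss : PSL2.tr (s * s) = -1 := by
      have := tr_mul_add s s
      rw [mul_inv_cancel, PSL2.tr_one, hs1] at this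
      linear_combination this
    have hsst : PSL2.tr (s * s * t) = x - 1 := by
      have hd := tr_mul_add (s * t) s
      rw [hx, hs1] at hd
      have e2 : PSL2.tr (s * t * s) = PSL2.tr (s * s * t) := by
        rw [PSL2.tr_mul_comm (s * t) s, ← mul_assoc]
      have e3 : PSL2.tr (s * t * s⁻¹) = 1 := by rw [PSL2.tr_conj, ht1]
      rw [e2, e3] at hd
      linear_combination hd
    have hstst : PSL2.tr (s * t * (s * t)) = x ^ 2 - 2 := by
      have := tr_mul_add (s * t) (s * t)
      rw [mul_inv_cancel, PSL2.tr_one, hx] at this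
      linear_combination this
    have hx' : PSL2.tr (s * (t * s * t⁻¹)) = 3 := by
      have hd := tr_mul_add (s * t * s) t
      rw [ht1, mul_one] at hd
      have e2 : PSL2.tr (s * t * s * t) = x ^ 2 - 2 := by rw [← hstst, mul_assoc (s * t)]
      have e3 : PSL2.tr (s * t * s) = x - 1 := by
        rw [← hsst, PSL2.tr_mul_comm (s * t) s, ← mul_assoc]
      rw [e2, e3] at hd
      rw [← mul_assoc, ← mul_assoc]
      linear_combination hd - f1
    have hy' : PSL2.tr (s * (t * s * t⁻¹)⁻¹) = -2 := by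
      have := tr_mul_add s (t * s * t⁻¹)
      rw [hx', hs1, e1] at this
      linear_combination this
    exact C6Three.slTwo_le_of_cubes hF hp5 hsc hs (inv_mem (mul_mem (mul_mem ht hs) (inv_mem ht))) hs1
      (by rw [PSL2.tr_inv, e1]) (-2) hy'
      ⟨fun e => h4 (by linear_combination e),
        fun e => by
          rcases mul_eq_zero.1 (show (2 : F) * 4 = 0 by linear_combination e) with h | h
          exacts [h2 h, h4 h]⟩
      ⟨neg_ne_zero.2 h2, fun e => h3 (by linear_combination e), fun e => h5 (by linear_combination e)⟩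
  by_cases g1 : x ≠ 0 ∧ x ^ 2 - 1 ≠ 0 ∧ x ^ 4 - 3 * x ^ 2 + 1 ≠ 0
  · exact Or.inl (C6Three.slTwo_le_of_cubes hF hp5 hsc hs ht hs1 ht1 x hx ⟨f2, f1⟩ g1)
  have hy : PSL2.tr (s * t⁻¹) = 1 - x := by
    have := tr_mul_add s t
    rw [hx, hs1, ht1] at this
    linear_combination this
  by_cases g2 : 1 - x ≠ 0 ∧ (1 - x) ^ 2 - 1 ≠ 0 ∧ (1 - x) ^ 4 - 3 * (1 - x) ^ 2 + 1 ≠ 0
  · exact Or.inl (C6Three.slTwo_le_of_cubes hF hp5 hsc hs (inv_mem ht) hs1
      (by rw [PSL2.tr_inv, ht1]) (1 - x) hy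
      ⟨fun e => f2 (by linear_combination e), fun e => f1 (by linear_combination e)⟩ g2)
  right
  refine ⟨?_, fun h => absurd h h5⟩
  show x * (x - 1) * (x ^ 2 - x - 1) = 0
  by_contra hne
  simp only [mul_eq_zero, not_or, sub_eq_zero] at hne
  obtain ⟨⟨n0, n1⟩, n2⟩ := hne
  have a1 : x ^ 2 + x - 1 = 0 := by
    simp only [not_and_or, not_not] at g1
    rcases g1 with h | h | h
    · exact absurd h n0
    · rcases mul_eq_zero.1 (show (x - 1) * (x + 1) = 0 by linear_combination h) with h | h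
      · exact absurd (sub_eq_zero.1 h) n1
      · exact absurd (by linear_combination h) hx1
    · rcases mul_eq_zero.1 (show (x ^ 2 - x - 1) * (x ^ 2 + x - 1) = 0 by linear_combination h) with h | h
      · exact absurd (by linear_combination h) n2
      · exact h
  have a2 : x ^ 2 - 3 * x + 1 = 0 := by
    simp only [not_and_or, not_not] at g2
    rcases g2 with h | h | h
    · exact absurd (by linear_combination -h) n1
    · rcases mul_eq_zero.1 (show x * (x - 2) = 0 by linear_combination h) with h | h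
      · exact absurd h n0
      · exact absurd (by linear_combination h) hx2
    · rcases mul_eq_zero.1 (show (x ^ 2 - x - 1) * (x ^ 2 - 3 * x + 1) = 0 by linear_combination h) with h | h
      · exact absurd (by linear_combination h) n2
      · exact h
  have hh : (1 : F) = 0 := by
    have e : (2 : F) * x = 1 := mul_left_cancel₀ h2 (by linear_combination a1 - a2)
    linear_combination (-4 : F) * a1 + (2 * x + 3) * e
  exact one_ne_zero hh

end Cfsg.Agent.C6NineOdd
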