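/-
The hermitian form Σ x_i y_i^p, the standing data, isometries and groups without transvections.
Main results: `Fld`, `hq`, `hq_isHerm`, `IsI`, `IGrp`, `NoTv`, `hom_herm`, `tau_fixed`.
-/
import Cfsg.Agent.Lib.C6NineOdd.Hom
import Cfsg.Agent.Lib.Unitary.Form
import Cfsg.Agent.Lib.C6Two.SlotDickson

set_option autoImplicit false
set_option linter.unusedSectionVars false

namespace Cfsg.Agent.C6NineOdd

open Matrix Cfsg.Agent.Transvect
open scoped Matrix

variable {ι : Type} [Fintype ι] [DecidableEq ι] {F : Type*} [Field F] [Fintype F]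

/-- The standing hypotheses: the field with p^2 elements, p ≥ 5 prime and 2 mod 3, and a cube root of one. -/
structure Fld (F : Type*) [Field F] [Fintype F] where
  /-- the primitive cube root of unity -/
  ω : F
  rel : ω ^ 2 + ω + 1 = 0
  /-- the characteristic -/
  p : ℕ
  prime : p.Prime
  mod3 : p % 3 = 2
  five : 5 ≤ p
  card : Fintype.card F = p ^ 2

/-- The standard hermitian form. -/
def hq (p : ℕ) (x y : ι → F) : F := ∑ i, x i * y i ^ p

theorem hq_eq_hermForm (p n : ℕ) (x y : Fin n → F) : hq p x y = Cfsg.hermForm n F p x y := rfl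

variable (κ : Fld F)
include κ

theorem Fld.fact : Fact κ.p.Prime := ⟨κ.prime⟩

theorem Fld.charP : CharP F κ.p := by
  obtain ⟨r, hr⟩ := CharP.exists F
  obtain ⟨k, hr1, hk⟩ := FiniteField.card F r
  rw [κ.card] at hk
  rwa [(Nat.prime_dvd_prime_iff_eq κ.prime hr1).1 (κ.prime.dvd_of_dvd_pow (hk ▸ dvd_pow_self κ.p two_ne_zero))]

theorem Fld.cast_ne (n : ℕ) (h : ¬ κ.p ∣ n) : (n : F) ≠ 0 := fun e => by
  haveI := κ.charP
  exact h ((CharP.cast_eq_zero_iff F _ n).1 e)

theorem Fld.cast_ne_small (n : ℕ) (h0 : n ≠ 0) (h : n < 5) : (n : F) ≠ 0 :=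
  κ.cast_ne n fun hd => by have := Nat.le_of_dvd (by omega) hd; have := κ.five; omega

theorem Fld.two : (2 : F) ≠ 0 := mod_cast κ.cast_ne_small 2 (by norm_num) (by norm_num)

theorem Fld.three : (3 : F) ≠ 0 := mod_cast κ.cast_ne_small 3 (by norm_num) (by norm_num)

theorem Fld.ω_ne : κ.ω ≠ 0 := fun h => by simpa [h] using κ.rel

theorem Fld.cube : κ.ω ^ 3 = 1 := by linear_combination (κ.ω - 1) * κ.rel

theorem Fld.ω_ne_one : κ.ω ≠ 1 := fun h => κ.three (by have := κ.rel; rw [h] at this; linear_combination this)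

theorem Fld.inv : κ.ω⁻¹ = κ.ω ^ 2 :=
  inv_eq_of_mul_eq_one_right (by linear_combination κ.cube)

theorem Fld.sq_ne_one : κ.ω ^ 2 ≠ 1 := fun h => κ.ω_ne_one (by linear_combination κ.cube - κ.ω * h)

theorem Fld.d1 : κ.ω - 1 ≠ 0 := sub_ne_zero.2 κ.ω_ne_one

theorem Fld.d2 : κ.ω ^ 2 - 1 ≠ 0 := sub_ne_zero.2 κ.sq_ne_one

theorem Fld.p0 : κ.p ≠ 0 := κ.prime.ne_zero

theorem Fld.conj : κ.ω ^ κ.p = κ.ω ^ 2 := by
  rw [← pow_mul_pow_sub κ.ω (show 2 ≤ κ.p by have := κ.five; omega),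
    show κ.p - 2 = 3 * (κ.p / 3) by have := κ.mod3; omega, pow_mul, κ.cube, one_pow, mul_one]

theorem hq_isHerm : Unitary.IsHerm κ.p (hq (ι := ι) (F := F) κ.p) where
  add_left x y z := by simp [hq, add_mul, Finset.sum_add_distrib]
  smul_left c x z := by simp [hq, Finset.mul_sum, mul_assoc]
  conj_symm x y := by
    haveI := κ.charP
    haveI := κ.fact
    rw [hq, hq, sum_pow_char]
    refine Finset.sum_congr rfl fun i _ => ?_
    rw [mul_pow, ← pow_mul, ← pow_two, ← κ.card, FiniteField.pow_card, mul_comm]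

theorem hq_single (x : ι → F) (i : ι) : hq κ.p x (Pi.single i 1) = x i := by
  rw [hq, Finset.sum_eq_single i]
  · simp
  · intro b _ hb
    simp [hb, zero_pow κ.p0]
  · simp

omit κ in
/-- An isometry of the standard form. -/
def IsI (p : ℕ) (g : GL ι F) : Prop := ∀ x y, hq p (app g x) (app g y) = hq p x y

omit κ in
/-- The isometry group of the standard form. -/
def IGrp (p : ℕ) : Subgroup (GL ι F) where
  carrier := {g | IsI p g}
  one_mem' := fun x y => by simp
  mul_mem' := fun {a b} ha hb x y => by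
    simp only [map_mul, LinearEquiv.mul_apply]
    rw [ha, hb]
  inv_mem' := fun {a} ha x y => by
    conv_rhs => rw [← app_app_inv a x, ← app_app_inv a y, ha]

omit κ in
theorem mem_IGrp {p : ℕ} {g : GL ι F} : g ∈ IGrp p ↔ IsI p g := Iff.rfl

/-- A group of isometries without transvections. -/
structure NoTv (A : Subgroup (GL ι F)) : Prop where
  iso : A ≤ IGrp κ.p
  notv : ∀ (v : ι → F) (φ : (ι → F) →ₗ[F] F), φ v = 0 → tv v φ ∈ A → tv v φ = 1

/-- The functional of an isometric homology. -/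
theorem hom_herm {u : ι → F} {φ : (ι → F) →ₗ[F] F} (h : φ u = 1)
    (hi : IsI κ.p (hom κ.ω u φ)) : hq κ.p u u ≠ 0 ∧ ∀ x, φ x * hq κ.p u u = hq κ.p x u := by
  have H := hq_isHerm (ι := ι) κ
  have key : ∀ x, φ x * hq κ.p u u = hq κ.p x u := fun x => by
    have e := hi x u
    rw [hom_apply h κ.ω_ne, hom_apply h κ.ω_ne, h, mul_one,
      show u + (κ.ω - 1) • u = κ.ω • u by module, H.add_left, H.smul_left, H.smul_right,
      H.smul_right, κ.conj] at e
    have h12 : 1 - κ.ω ^ 2 ≠ 0 := fun e0 => κ.d2 (by linear_combination -e0)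
    refine mul_left_cancel₀ h12 ?_
    linear_combination e - φ x * hq κ.p u u * κ.cube
  refine ⟨fun h0 => ?_, key⟩
  have hu : u = 0 := funext fun i => by
    have := key (Pi.single i 1)
    rw [h0, mul_zero, H.conj_symm u (Pi.single i 1), hq_single, eq_comm] at this
    exact (pow_eq_zero_iff κ.p0).1 this
  simp [hu] at h

/-- The product of the two cross values lies in the prime field. -/
theorem tau_fixed {u₁ u₂ : ι → F} {φ₁ φ₂ : (ι → F) →ₗ[F] F} (h₁ : φ₁ u₁ = 1) (h₂ : φ₂ u₂ = 1)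
    (i₁ : IsI κ.p (hom κ.ω u₁ φ₁)) (i₂ : IsI κ.p (hom κ.ω u₂ φ₂)) :
    (φ₁ u₂ * φ₂ u₁) ^ κ.p = φ₁ u₂ * φ₂ u₁ := by
  have H := hq_isHerm (ι := ι) κ
  obtain ⟨n1, k1⟩ := hom_herm κ h₁ i₁
  obtain ⟨n2, k2⟩ := hom_herm κ h₂ i₂
  rw [eq_div_of_mul_eq n1 (k1 u₂), eq_div_of_mul_eq n2 (k2 u₁), div_mul_div_comm, div_pow, mul_pow,
    mul_pow, H.self_fixed, H.self_fixed, ← H.conj_symm, ← H.conj_symm, mul_comm (hq κ.p u₁ u₂)]

/-- An element fixed by Frobenius is a natural number. -/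
theorem exists_nat {x : F} (h : x ^ κ.p = x) : ∃ n : ℕ, (n : F) = x := by
  haveI := κ.charP
  haveI := κ.fact
  obtain ⟨a, ha⟩ := (bot_le : (⊥ : Subfield F) ≤ (ZMod.castHom (dvd_refl κ.p) F).fieldRange)
    ((Subfield.mem_bot_iff_pow_eq_self F κ.p).2 h)
  obtain ⟨n, rfl⟩ := ZMod.natCast_zmod_surjective (n := κ.p) a
  exact ⟨n, by rw [← ha, map_natCast]⟩

end Cfsg.Agent.C6NineOdd
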