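/-
Two elements of trace one of SL_2 whose product has trace in the prime field come from SL_2 of it.
Main results: `exists_conic`, `descend`.
-/
import Cfsg.Agent.Lib.C6NineOdd.Herm
import Cfsg.Agent.Lib.C6NineOdd.Dickson

set_option autoImplicit false
set_option linter.unusedSectionVars false

namespace Cfsg.Agent.C6NineOdd

open Matrix
open scoped Matrix Polynomial
open Cfsg.Agent

/-- A point of the conic over the prime field. -/
theorem exists_conic (p : ℕ) [Fact p.Prime] (hp : 5 ≤ p) (x : ZMod p) :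
    ∃ α γ : ZMod p, α ^ 2 + α * γ + γ ^ 2 - α + γ * (x - 1) + 1 = 0 := by
  have hne : ∀ n : ℕ, n ≠ 0 → n < 5 → ((n : ℕ) : ZMod p) ≠ 0 := fun n h0 h5 e => by
    have := Nat.le_of_dvd (by omega) ((ZMod.natCast_eq_zero_iff n p).1 e)
    omega
  have h2 : (2 : ZMod p) ≠ 0 := mod_cast hne 2 (by norm_num) (by norm_num)
  have h3 : (3 : ZMod p) ≠ 0 := mod_cast hne 3 (by norm_num) (by norm_num)
  obtain ⟨y, γ, h⟩ := FiniteField.exists_root_sum_quadratic (R := ZMod p)
    (f := Polynomial.C 1 * Polynomial.X ^ 2 + Polynomial.C 0 * Polynomial.X + Polynomial.C 0)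
    (g := Polynomial.C 3 * Polynomial.X ^ 2 + Polynomial.C (4 * x - 2) * Polynomial.X + Polynomial.C 3)
    (Polynomial.degree_quadratic one_ne_zero) (Polynomial.degree_quadratic h3)
    (by rw [ZMod.card]; exact Nat.odd_iff.1 ((Fact.out : p.Prime).odd_of_ne_two (by omega)))
  simp at h
  refine ⟨(1 - γ + y) / 2, γ, ?_⟩
  field_simp
  linear_combination h

variable {F : Type*} [Field F] [Fintype F] (κ : Fld F)
include κ

/-- The embedding of the prime field. -/
def Fld.emb : ZMod κ.p →+* F :=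
  letI := κ.charP
  ZMod.castHom (dvd_refl κ.p) F

omit κ in
theorem anti_comm (s t : Matrix (Fin 2) (Fin 2) F) : s * t + t * s =
    s.trace • t + t.trace • s + ((s * t).trace - s.trace * t.trace) • (1 : Matrix (Fin 2) (Fin 2) F) := by
  ext i j
  fin_cases i <;> fin_cases j <;> simp [Matrix.trace, Matrix.mul_apply, Fin.sum_univ_two] <;> ring

/-- Descent to the prime field. -/
theorem descend [Fact κ.p.Prime] {s t : PSL2.SL2 F} (hs1 : PSL2.tr s = 1) (ht1 : PSL2.tr t = 1) {x0 : ZMod κ.p}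
    (hx : PSL2.tr (s * t) = κ.emb x0) (hx1 : κ.emb x0 ≠ -1) (hx2 : κ.emb x0 ≠ 2) :
    ∃ (P : GL (Fin 2) F) (s0 t0 : PSL2.SL2 (ZMod κ.p)), PSL2.tr s0 = 1 ∧ PSL2.tr t0 = 1 ∧
      PSL2.tr (s0 * t0) = x0 ∧
      Matrix.SpecialLinearGroup.toGL s =
        P * Matrix.GeneralLinearGroup.map κ.emb (Matrix.SpecialLinearGroup.toGL s0) * P⁻¹ ∧
      Matrix.SpecialLinearGroup.toGL t =
        P * Matrix.GeneralLinearGroup.map κ.emb (Matrix.SpecialLinearGroup.toGL t0) * P⁻¹ := by
  obtain ⟨α, γ, hc⟩ := exists_conic κ.p κ.five x0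
  set e := κ.emb
  set β := x0 - 1 + α + γ with hβ
  let s0 : PSL2.SL2 (ZMod κ.p) := ⟨!![0, -1; 1, 1], by simp [Matrix.det_fin_two]⟩
  let t0 : PSL2.SL2 (ZMod κ.p) := ⟨!![α, β; γ, 1 - α], by
    rw [Matrix.det_fin_two_of, hβ]; linear_combination -hc⟩
  have hc' := congrArg e hc
  simp only [map_add, map_sub, map_mul, map_pow, map_one, map_zero] at hc'
  set S : Matrix (Fin 2) (Fin 2) F := s.1 with hS
  set T : Matrix (Fin 2) (Fin 2) F := t.1 with hT
  set x := e x0 with hxdef
  have hdS : S 0 0 * S 1 1 - S 0 1 * S 1 0 = 1 := by rw [← Matrix.det_fin_two]; exact s.2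
  have hdT : T 0 0 * T 1 1 - T 0 1 * T 1 0 = 1 := by rw [← Matrix.det_fin_two]; exact t.2
  have htS : S 0 0 + S 1 1 = 1 := by rw [← hs1]; simp [PSL2.tr, hS]
  have htT : T 0 0 + T 1 1 = 1 := by rw [← ht1]; simp [PSL2.tr, hT]
  have hxe : S 0 0 * T 0 0 + S 0 1 * T 1 0 + (S 1 0 * T 0 1 + S 1 1 * T 1 1) = x := by
    rw [← hx]; simp [PSL2.tr, hS, hT, Matrix.SpecialLinearGroup.coe_mul, Matrix.mul_apply, Fin.sum_univ_two]
  have hdet : (T - e α • 1 - e γ • S).det = 0 := by
    simp [Matrix.det_fin_two]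
    linear_combination hdT + (e γ) ^ 2 * hdS - (e α) * htT + (e α * e γ) * htS + hc' -
      e γ * (T 0 0 + T 1 1) * htS - e γ * htT + e γ * hxe
  obtain ⟨v, hv, hMv⟩ := Matrix.exists_mulVec_eq_zero_iff.2 hdet
  have e2 : T *ᵥ v = e α • v + e γ • (S *ᵥ v) := by
    rw [Matrix.sub_mulVec, Matrix.sub_mulVec, Matrix.smul_mulVec, Matrix.one_mulVec,
      Matrix.smul_mulVec] at hMv
    rw [← sub_eq_zero, ← hMv]; abel
  have hSS : S * S = S - 1 := by
    ext i j
    fin_cases i <;> fin_cases j <;> simp [Matrix.mul_apply, Fin.sum_univ_two]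
    · linear_combination S 0 0 * htS - hdS
    · linear_combination S 0 1 * htS
    · linear_combination S 1 0 * htS
    · linear_combination S 1 1 * htS - hdS
  have e1 : S *ᵥ (S *ᵥ v) = S *ᵥ v - v := by
    rw [Matrix.mulVec_mulVec, hSS, Matrix.sub_mulVec, Matrix.one_mulVec]
  have e3 : T *ᵥ (S *ᵥ v) = e β • v + (1 - e α) • (S *ᵥ v) := by
    have hac : (S * T + T * S) *ᵥ v = (T + S + (x - 1) • (1 : Matrix (Fin 2) (Fin 2) F)) *ᵥ v := by
      rw [anti_comm, show S.trace = 1 from (Matrix.trace_fin_two _).trans hs1,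
        show T.trace = 1 from (Matrix.trace_fin_two _).trans ht1,
        show (S * T).trace = x by rw [← hx]; simp [PSL2.tr, Matrix.trace_fin_two, hS, hT],
        one_smul, one_smul, one_mul]
    rw [Matrix.add_mulVec, ← Matrix.mulVec_mulVec, ← Matrix.mulVec_mulVec, e2, Matrix.mulVec_add,
      Matrix.mulVec_smul, Matrix.mulVec_smul, e1, Matrix.add_mulVec, Matrix.add_mulVec, e2,
      Matrix.smul_mulVec, Matrix.one_mulVec] at hac
    rw [hβ, map_add, map_add, map_sub, map_one, ← hxdef]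
    rw [← eq_sub_iff_add_eq'] at hac
    rw [hac]; module
  have hP : (Matrix.of ![![v 0, (S *ᵥ v) 0], ![v 1, (S *ᵥ v) 1]]).det ≠ 0 := by
    intro h0
    simp [Matrix.det_fin_two] at h0
    obtain ⟨l, hl⟩ : ∃ l : F, S *ᵥ v = l • v := by
      by_cases hv0 : v 0 = 0
      · have hv1 : v 1 ≠ 0 := fun e1 => hv (funext fun i => by fin_cases i <;> assumption)
        refine ⟨(S *ᵥ v) 1 / v 1, funext fun i => ?_⟩
        fin_cases i
        · simp [hv0] at h0 ⊢; simpa [hv1] using h0
        · simp [hv1]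
      · refine ⟨(S *ᵥ v) 0 / v 0, funext fun i => ?_⟩
        fin_cases i
        · simp [hv0]
        · simp; field_simp; linear_combination h0
    obtain ⟨i, hi⟩ : ∃ i, v i ≠ 0 := Function.ne_iff.1 hv
    have a1 : (l * l - l + 1) * v i = 0 := by
      have := congrFun e1 i
      rw [hl, Matrix.mulVec_smul, hl] at this
      simp at this
      linear_combination this
    have a2 : T *ᵥ v = (e α + e γ * l) • v := by rw [e2, hl]; module
    have a3 : ((e α + e γ * l) * l - (e β + (1 - e α) * l)) * v i = 0 := by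
      have := congrFun e3 i
      rw [hl, Matrix.mulVec_smul, a2] at this
      simp at this
      linear_combination this
    have b1 := (mul_eq_zero.1 a1).resolve_right hi
    have b3 := (mul_eq_zero.1 a3).resolve_right hi
    rw [hβ, map_add, map_add, map_sub, map_one, ← hxdef] at b3
    set μ := e α + e γ * l with hμ
    have bμ : μ * μ - μ + 1 = 0 := by rw [hμ]; linear_combination hc' + e γ * b3 + 0 * b1
    rcases mul_eq_zero.1 (show (μ - l) * (μ + l - 1) = 0 by linear_combination bμ - b1) with h | h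
    · refine hx1 ?_
      linear_combination -b3 + (2 - e γ) * b1 + (2 * l - 1) * h
    · refine hx2 ?_
      linear_combination -b3 - (2 + e γ) * b1 + (2 * l - 1) * h
  let P : GL (Fin 2) F := Matrix.GeneralLinearGroup.mkOfDetNeZero _ hP
  have fin : ∀ (A : Matrix (Fin 2) (Fin 2) F) (a b c d : F), A *ᵥ v = a • v + c • (S *ᵥ v) →
      A *ᵥ (S *ᵥ v) = b • v + d • (S *ᵥ v) →
        A * Matrix.of ![![v 0, (S *ᵥ v) 0], ![v 1, (S *ᵥ v) 1]] =
          Matrix.of ![![v 0, (S *ᵥ v) 0], ![v 1, (S *ᵥ v) 1]] * !![a, b; c, d] := by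
    intro A a b c d h1 h2
    ext i j
    have r1 := congrFun h1 i
    have r2 := congrFun h2 i
    simp only [Matrix.mulVec, dotProduct, Fin.sum_univ_two, Pi.add_apply, Pi.smul_apply, smul_eq_mul] at r1 r2
    fin_cases i <;> fin_cases j <;>
      simp [Matrix.mul_apply, Fin.sum_univ_two, Matrix.mulVec, dotProduct] at r1 r2 ⊢
    all_goals first | linear_combination r1 | linear_combination r2
  refine ⟨P, s0, t0, by simp [PSL2.tr, s0], by simp [PSL2.tr, t0], ?_, ?_, ?_⟩
  · show (s0 * t0).1 0 0 + (s0 * t0).1 1 1 = x0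
    rw [Matrix.SpecialLinearGroup.coe_mul]
    simp [s0, t0, Matrix.mul_apply, Fin.sum_univ_two, hβ]
    ring
  · rw [eq_mul_inv_iff_mul_eq]
    apply Units.ext
    rw [Units.val_mul, Units.val_mul]
    refine (fin S 0 (-1) 1 1 (by rw [zero_smul, zero_add, one_smul]) (by rw [e1]; module)).trans ?_
    congr 1
    ext i j
    fin_cases i <;> fin_cases j <;> simp [s0, Matrix.SpecialLinearGroup.toGL, Matrix.GeneralLinearGroup.map]
  · rw [eq_mul_inv_iff_mul_eq]
    apply Units.ext
    rw [Units.val_mul, Units.val_mul]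
    refine (fin T (e α) (e β) (e γ) (1 - e α) e2 e3).trans ?_
    congr 1
    ext i j
    fin_cases i <;> fin_cases j <;> simp [t0, e, Matrix.SpecialLinearGroup.toGL, Matrix.GeneralLinearGroup.map]

end Cfsg.Agent.C6NineOdd
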