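/-
Sums of good values.
Main results: `good_three`, `good_four`, `good_five`, `good_eleven`.
-/
import Cfsg.Agent.Lib.C6NineOdd.Pair

set_option autoImplicit false
set_option linter.unusedSectionVars false

namespace Cfsg.Agent.C6NineOdd

variable {F : Type*} [Field F] [Fintype F]

/-- The constant parts of the four possible values of 3τ. -/
def cA : Fin 4 → ℤ := ![1, 2, 0, 3]

/-- The coefficients of the root r in the four possible values of 3τ. -/
def cB : Fin 4 → ℤ := ![0, 0, 1, -1]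

/-- The integer which the characteristic must divide. -/
def nrm (c m : ℤ) : ℕ := if m = 0 then c.natAbs else (c ^ 2 + 3 * c * m + m ^ 2).natAbs

theorem check_three : ∀ i j k : Fin 4,
    nrm (cA i + cA j + cA k - 3) (cB i + cB j + cB k) ∣ 6 ^ 8 ∨
      (nrm (cA i + cA j + cA k - 3) (cB i + cB j + cB k) ∣ 30 ^ 8 ∧ (cB i ≠ 0 ∨ cB j ≠ 0 ∨ cB k ≠ 0)) ∨
        (i = 0 ∧ j = 0 ∧ k = 0) := by
  decide +kernel

theorem check_four : ∀ i j k l : Fin 4,
    nrm (cA i + cA j + cA k + cA l - 3) (cB i + cB j + cB k + cB l) ∣ (6 * 5 * 11 * 19) ^ 8 := by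
  decide +kernel

variable (κ : Fld F)
include κ

theorem Fld.p_of_dvd {n : ℕ} (hn : (n : F) = 0) : κ.p ∣ n := by
  by_contra h
  exact κ.cast_ne n h hn

theorem not_six {n : ℕ} (hn : n ∣ 6 ^ 8) : (n : F) ≠ 0 := fun e => by
  have h1 := κ.prime.dvd_of_dvd_pow ((κ.p_of_dvd e).trans hn)
  have := Nat.le_of_dvd (by norm_num) h1
  have h5 := κ.five
  have h3 := κ.mod3
  interval_cases hp : κ.p <;> omega

theorem not_thirty {n : ℕ} (hn : n ∣ 30 ^ 8) (h5 : (5 : F) ≠ 0) : (n : F) ≠ 0 := fun e => by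
  have h1 := κ.prime.dvd_of_dvd_pow ((κ.p_of_dvd e).trans hn)
  rcases κ.prime.dvd_mul.1 (show κ.p ∣ 6 * 5 from h1) with h | h
  · exact not_six κ (n := 6) (dvd_pow_self 6 (by norm_num))
      (by haveI := κ.charP; exact (CharP.cast_eq_zero_iff F κ.p 6).2 h)
  · exact h5 (by haveI := κ.charP; exact_mod_cast (CharP.cast_eq_zero_iff F κ.p 5).2 h)

theorem eq_of_dvd {n : ℕ} (hn : n ∣ (6 * 5 * 11 * 19) ^ 8) (e : (n : F) = 0) : κ.p = 5 ∨ κ.p = 11 := by
  have h1 := κ.prime.dvd_of_dvd_pow ((κ.p_of_dvd e).trans hn)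
  have h5 := κ.five
  have h3 := κ.mod3
  rcases κ.prime.dvd_mul.1 h1 with h | h
  · rcases κ.prime.dvd_mul.1 h with h | h
    · rcases κ.prime.dvd_mul.1 h with h | h
      · have := Nat.le_of_dvd (by norm_num) h
        interval_cases hp : κ.p <;> omega
      · exact Or.inl ((Nat.prime_dvd_prime_iff_eq κ.prime (by norm_num)).1 h)
    · exact Or.inr ((Nat.prime_dvd_prime_iff_eq κ.prime (by norm_num)).1 h)
  · have := (Nat.prime_dvd_prime_iff_eq κ.prime (by norm_num : Nat.Prime 19)).1 h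
    omega

theorem exists_root : ∃ r : F, r ^ 2 - 3 * r + 1 = 0 ∨ ∀ x : F, x ^ 2 - 3 * x + 1 ≠ 0 := by
  by_cases h : ∃ x : F, x ^ 2 - 3 * x + 1 = 0
  · exact ⟨h.choose, Or.inl h.choose_spec⟩
  · exact ⟨0, Or.inr fun x hx => h ⟨x, hx⟩⟩

theorem exists_code {r : F} (hr : r ^ 2 - 3 * r + 1 = 0 ∨ ∀ x : F, x ^ 2 - 3 * x + 1 ≠ 0) {g : F}
    (hg : Good g) : ∃ i : Fin 4, 3 * g = cA i + cB i * r ∧ (cB i = 0 ∨ (r ^ 2 - 3 * r + 1 = 0 ∧ (5 : F) ≠ 0)) := by
  obtain ⟨hg, hg5⟩ := hg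
  by_cases h2 : (3 * g - 1) * (3 * g - 2) = 0
  · rcases mul_eq_zero.1 h2 with h | h
    · exact ⟨0, by simp [cA, cB]; linear_combination h, Or.inl rfl⟩
    · exact ⟨1, by simp [cA, cB]; linear_combination h, Or.inl rfl⟩
  · have h5 : (5 : F) ≠ 0 := fun e => h2 (hg5 e)
    have h := (mul_eq_zero.1 hg).resolve_left h2
    rcases hr with hr | hr
    · rcases mul_eq_zero.1 (show (3 * g - r) * (3 * g + r - 3) = 0 by linear_combination h - hr) with e | e
      · exact ⟨2, by simp [cA, cB]; linear_combination e, Or.inr ⟨hr, h5⟩⟩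
      · exact ⟨3, by simp [cA, cB]; linear_combination e, Or.inr ⟨hr, h5⟩⟩
    · exact absurd (by linear_combination h) (hr (3 * g))

theorem nrm_zero {r : F} {c m : ℤ} (h : (c : F) + m * r = 0)
    (hr : m = 0 ∨ r ^ 2 - 3 * r + 1 = 0) : ((nrm c m : ℕ) : F) = 0 := by
  have cast_abs : ∀ z : ℤ, (z : F) = 0 → ((z.natAbs : ℕ) : F) = 0 := fun z hz => by
    rcases Int.natAbs_eq z with e | e <;> rw [e] at hz <;> simpa using hz
  unfold nrm
  split
  · rename_i hm
    rw [hm] at h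
    exact cast_abs c (by simpa using h)
  · rename_i hm
    have hr' := hr.resolve_left hm
    apply cast_abs
    push_cast
    linear_combination ((c : F) - m * r + 3 * m) * h + (m : F) ^ 2 * hr'

/-- Three good values with sum one are all one third. -/
theorem good_three {a b c : F} (ha : Good a) (hb : Good b) (hc : Good c) (h : a + b + c = 1) :
    3 * a = 1 ∧ 3 * b = 1 ∧ 3 * c = 1 := by
  obtain ⟨r, hr⟩ := exists_root κ
  obtain ⟨i, hi, hi'⟩ := exists_code κ hr ha
  obtain ⟨j, hj, hj'⟩ := exists_code κ hr hb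
  obtain ⟨k, hk, hk'⟩ := exists_code κ hr hc
  have hz : ((nrm (cA i + cA j + cA k - 3) (cB i + cB j + cB k) : ℕ) : F) = 0 := by
    refine nrm_zero κ (r := r) (by push_cast; linear_combination 3 * h - hi - hj - hk) ?_
    by_cases e : r ^ 2 - 3 * r + 1 = 0
    · exact Or.inr e
    · have z : ∀ {x : Fin 4}, (cB x = 0 ∨ (r ^ 2 - 3 * r + 1 = 0 ∧ (5 : F) ≠ 0)) → cB x = 0 :=
        fun hx => hx.resolve_right fun h => e h.1
      exact Or.inl (by rw [z hi', z hj', z hk']; rfl)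
  rcases check_three i j k with hn | ⟨hn, hB⟩ | ⟨rfl, rfl, rfl⟩
  · exact absurd hz (not_six κ hn)
  · refine absurd hz (not_thirty κ hn ?_)
    rcases hB with hB | hB | hB
    · exact (hi'.resolve_left hB).2
    · exact (hj'.resolve_left hB).2
    · exact (hk'.resolve_left hB).2
  · simp [cA, cB] at hi hj hk; exact ⟨hi, hj, hk⟩

/-- Four good values have sum one in two characteristics only. -/
theorem good_four {g : Fin 4 → F} (hg : ∀ i, Good (g i)) (h : ∑ i, g i = 1) :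
    κ.p = 5 ∨ κ.p = 11 := by
  obtain ⟨r, hr⟩ := exists_root κ
  obtain ⟨i, hi, hi'⟩ := exists_code κ hr (hg 0)
  obtain ⟨j, hj, hj'⟩ := exists_code κ hr (hg 1)
  obtain ⟨k, hk, hk'⟩ := exists_code κ hr (hg 2)
  obtain ⟨l, hl, hl'⟩ := exists_code κ hr (hg 3)
  rw [Fin.sum_univ_four] at h
  refine eq_of_dvd κ (check_four i j k l) (nrm_zero κ (r := r) ?_ ?_)
  · push_cast; linear_combination 3 * h - hi - hj - hk - hl
  · by_cases e : r ^ 2 - 3 * r + 1 = 0
    · exact Or.inr e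
    · have z : ∀ {x : Fin 4}, (cB x = 0 ∨ (r ^ 2 - 3 * r + 1 = 0 ∧ (5 : F) ≠ 0)) → cB x = 0 :=
        fun hx => hx.resolve_right fun h => e h.1
      exact Or.inl (by rw [z hi', z hj', z hk', z hl']; rfl)

/-- The good values in characteristic five. -/
theorem good_five (h5 : κ.p = 5) {g : F} (hg : Good g) : ∃ i : Fin 2, g = ((![2, 4] i : ℕ) : F) := by
  haveI := κ.charP
  have e : (5 : F) = 0 := by exact_mod_cast h5 ▸ CharP.cast_eq_zero F κ.p
  rcases mul_eq_zero.1 (show (g - 2) * (g - 4) = 0 from mul_left_cancel₀ (pow_ne_zero 2 κ.three)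
    (show (3 : F) ^ 2 * ((g - 2) * (g - 4)) = 3 ^ 2 * 0 by
      linear_combination hg.2 e + (-9 * g + 14) * e)) with h | h
  · exact ⟨0, by simp; linear_combination h⟩
  · exact ⟨1, by simp; linear_combination h⟩

/-- The good values in characteristic eleven. -/
theorem good_eleven (h11 : κ.p = 11) {g : F} (hg : Good g) :
    ∃ i : Fin 4, g = ((![4, 8, 3, 9] i : ℕ) : F) := by
  haveI := κ.charP
  have e : (11 : F) = 0 := by exact_mod_cast h11 ▸ CharP.cast_eq_zero F κ.p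
  rcases mul_eq_zero.1 (show (g - 4) * (g - 8) * (g - 3) * (g - 9) = 0 from
    mul_left_cancel₀ (pow_ne_zero 4 κ.three)
    (show (3 : F) ^ 4 * ((g - 4) * (g - 8) * (g - 3) * (g - 9)) = 3 ^ 4 * 0 by
      linear_combination hg.1 + (-162 * g ^ 3 + 1485 * g ^ 2 - 5211 * g + 6362) * e)) with h | h
  · rcases mul_eq_zero.1 h with h | h
    · rcases mul_eq_zero.1 h with h | h
      · exact ⟨0, by simp; linear_combination h⟩
      · exact ⟨1, by simp; linear_combination h⟩
    · exact ⟨2, by simp; linear_combination h⟩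
  · exact ⟨3, by simp; linear_combination h⟩

/-- Equal casts are congruent. -/
theorem Fld.cast_eq {a b : ℕ} (h : (a : F) = (b : F)) : a % κ.p = b % κ.p := by
  haveI := κ.charP
  exact (CharP.natCast_eq_natCast F κ.p).1 h

end Cfsg.Agent.C6NineOdd
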