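/-
Four good values with sum one and the nine values over three of them.
Main results: `choose_k`, `two_zero`, `moment`, `line_K`, `nine_five`, `nine_eleven_eight`, `nine_eleven_three`.
-/
import Cfsg.Agent.Lib.C6NineOdd.Arith

set_option autoImplicit false
set_option linter.unusedSectionVars false

namespace Cfsg.Agent.C6NineOdd

theorem five_table : ∀ i j k l : Fin 2,
    (![2, 4] i + ![2, 4] j + ![2, 4] k + ![2, 4] l : ℕ) % 5 = 1 → i = 1 ∧ j = 1 ∧ k = 1 ∧ l = 1 := by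
  decide

theorem eleven_choose : ∀ i j k l : Fin 4,
    (![4, 8, 3, 9] i + ![4, 8, 3, 9] j + ![4, 8, 3, 9] k + ![4, 8, 3, 9] l : ℕ) % 11 = 1 →
      (i = 2 ∧ j = 2 ∧ k = 2 ∧ l = 2) ∨ i = 1 ∨ j = 1 ∨ k = 1 ∨ l = 1 := by
  decide

theorem eleven_rest : ∀ j k l : Fin 4,
    (8 + ![4, 8, 3, 9] j + ![4, 8, 3, 9] k + ![4, 8, 3, 9] l : ℕ) % 11 = 1 →
      ¬ (j = k ∧ k = l) ∧
        (((![4, 8, 3, 9] j + ![4, 8, 3, 9] k + ![4, 8, 3, 9] l) ^ 2 +
          2 * (![4, 8, 3, 9] j * ![4, 8, 3, 9] k + ![4, 8, 3, 9] j * ![4, 8, 3, 9] l +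
            ![4, 8, 3, 9] k * ![4, 8, 3, 9] l) : ℕ) % 11 ∈ ({4, 9, 10} : Finset ℕ)) ∧
        ((![4, 8, 3, 9] j ^ 2 + ![4, 8, 3, 9] k ^ 2 + ![4, 8, 3, 9] l ^ 2 : ℕ) % 11 ∈
          ({0, 1, 6} : Finset ℕ)) := by
  decide

theorem eleven_three : ∀ j k l : Fin 4,
    (3 + ![4, 8, 3, 9] j + ![4, 8, 3, 9] k + ![4, 8, 3, 9] l : ℕ) % 11 = 1 →
      ((![4, 8, 3, 9] j ^ 2 + ![4, 8, 3, 9] k ^ 2 + ![4, 8, 3, 9] l ^ 2 : ℕ) % 11 ∈
          ({0, 1, 5} : Finset ℕ)) ∧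
        ((![4, 8, 3, 9] j ^ 2 + ![4, 8, 3, 9] k ^ 2 + ![4, 8, 3, 9] l ^ 2 : ℕ) % 11 = 1 →
          j ≤ 1 ∧ k ≤ 1 ∧ l ≤ 1) := by
  decide

theorem eleven_pair : ∀ j k : Fin 4, (![4, 8, 3, 9] j + ![4, 8, 3, 9] k : ℕ) % 11 ≠ 4 := by
  decide

theorem no_sum_eight : ∀ A ∈ ({0, 1, 6} : Finset ℕ), ∀ B ∈ ({0, 1, 6} : Finset ℕ),
    ∀ C ∈ ({0, 1, 6} : Finset ℕ), (A + B + C) % 11 ∉ ({4, 9, 10} : Finset ℕ) := by
  decide

theorem sum_three : ∀ A ∈ ({0, 1, 5} : Finset ℕ), ∀ B ∈ ({0, 1, 5} : Finset ℕ),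
    ∀ C ∈ ({0, 1, 5} : Finset ℕ), (A + B + C) % 11 = 3 → A = 1 ∧ B = 1 ∧ C = 1 := by
  decide

variable {F : Type*} [Field F] [Fintype F] (κ : Fld F)
include κ

theorem char_five (h : κ.p = 5) : (5 : F) = 0 := by
  haveI := κ.charP
  exact_mod_cast h ▸ CharP.cast_eq_zero F κ.p

theorem char_eleven (h : κ.p = 11) : (11 : F) = 0 := by
  haveI := κ.charP
  exact_mod_cast h ▸ CharP.cast_eq_zero F κ.p

/-- A coordinate to split off. -/
theorem choose_k {g : Fin 4 → F} (hg : ∀ i, Good (g i)) (h : ∑ i, g i = 1) :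
    (κ.p = 5 ∧ ∀ i, g i = 4) ∨ (κ.p = 11 ∧ ∀ i, g i = 3) ∨
      (κ.p = 11 ∧ ∃ k, g k = 8) := by
  rw [Fin.sum_univ_four] at h
  rcases good_four κ hg (by rw [Fin.sum_univ_four]; exact h) with hp | hp
  · choose c hc using fun i => good_five κ hp (hg i)
    have hm : ((![2, 4] (c 0) + ![2, 4] (c 1) + ![2, 4] (c 2) + ![2, 4] (c 3) : ℕ) : F) = ((1 : ℕ) : F) := by
      push_cast [← hc]; exact h
    have := κ.cast_eq hm
    rw [hp] at this
    obtain ⟨e0, e1, e2, e3⟩ := five_table _ _ _ _ this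
    refine Or.inl ⟨hp, fun i => ?_⟩
    rw [hc i]
    fin_cases i <;> simp [e0, e1, e2, e3]
  · choose c hc using fun i => good_eleven κ hp (hg i)
    have hm : ((![4, 8, 3, 9] (c 0) + ![4, 8, 3, 9] (c 1) + ![4, 8, 3, 9] (c 2) + ![4, 8, 3, 9] (c 3) : ℕ) : F) =
        ((1 : ℕ) : F) := by
      push_cast [← hc]; exact h
    have := κ.cast_eq hm
    rw [hp] at this
    rcases eleven_choose _ _ _ _ this with ⟨e0, e1, e2, e3⟩ | e | e | e | e
    · refine Or.inr (Or.inl ⟨hp, fun i => ?_⟩)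
      rw [hc i]
      fin_cases i <;> simp [e0, e1, e2, e3]
    all_goals exact Or.inr (Or.inr ⟨hp, _, by rw [hc _, e]; rfl⟩)

theorem pow_sum (m : ℕ) : κ.ω ^ (2 * m) * κ.ω ^ m = 1 := by
  rw [← pow_add, show 2 * m + m = 3 * m by ring, pow_mul, κ.cube, one_pow]

/-- The value attached to a point. -/
def val3 (a b : Fin 3 → F) (s t : Fin 3) : F :=
  (a 0 + κ.ω ^ (2 * (s : ℕ)) * a 1 + κ.ω ^ (2 * (t : ℕ)) * a 2) *
    (b 0 + b 1 * κ.ω ^ (s : ℕ) + b 2 * κ.ω ^ (t : ℕ))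

/-- Two vanishing points in one class make the three products equal. -/
theorem two_zero {a b : Fin 3 → F} {m c c' : Fin 3} (hc : c ≠ c')
    (hA : ∀ x ∈ ({c, c'} : Finset (Fin 3)),
      a 0 + κ.ω ^ (2 * (x : ℕ)) * a 1 + κ.ω ^ (2 * ((m - x : Fin 3) : ℕ)) * a 2 = 0 ∧
        b 0 + b 1 * κ.ω ^ (x : ℕ) + b 2 * κ.ω ^ ((m - x : Fin 3) : ℕ) = 0) :
    a 0 * b 0 = a 1 * b 1 ∧ a 1 * b 1 = a 2 * b 2 := by
  obtain ⟨A, B⟩ := hA c (by simp)
  obtain ⟨A', B'⟩ := hA c' (by simp)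
  set d : Fin 3 := c' - c with hd
  have hd0 : d ≠ 0 := sub_ne_zero.2 (Ne.symm hc)
  set e := κ.ω ^ (d : ℕ) with he
  have pm : ∀ n : ℕ, κ.ω ^ n = κ.ω ^ (n % 3) := fun n => by
    conv_lhs => rw [← Nat.mod_add_div n 3, pow_add, pow_mul, κ.cube, one_pow, mul_one]
  have add : ∀ x y : Fin 3, κ.ω ^ ((x + y : Fin 3) : ℕ) = κ.ω ^ (x : ℕ) * κ.ω ^ (y : ℕ) := fun x y => by
    rw [← pow_add, Fin.val_add, ← pm]
  have h1 : κ.ω ^ (c' : ℕ) = κ.ω ^ (c : ℕ) * e := by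
    rw [he, ← add]; congr 2; rw [hd]; abel
  have h2 : κ.ω ^ ((m - c' : Fin 3) : ℕ) = κ.ω ^ ((m - c : Fin 3) : ℕ) * e ^ 2 := by
    rw [he, pow_two, ← add, ← add]; congr 2
    rw [hd]
    have : ∀ m c c' : Fin 3, m - c' = m - c + (c' - c + (c' - c)) := by decide
    exact this m c c'
  have he3 : e ^ 3 = 1 := by rw [he, ← pow_mul, mul_comm, pow_mul, κ.cube, one_pow]
  have he1 : e ≠ 1 := by
    have h1 := κ.ω_ne_one
    have h2 := κ.sq_ne_one
    rw [he]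
    obtain hd' | hd' : d = 1 ∨ d = 2 := by
      have : ∀ d : Fin 3, d ≠ 0 → d = 1 ∨ d = 2 := by decide
      exact this d hd0
    · simp [hd', h1]
    · simp [hd', h2]
  have hee : e ^ 2 + e + 1 = 0 := by
    refine (mul_eq_zero.1 (show (e - 1) * (e ^ 2 + e + 1) = 0 by linear_combination he3)).resolve_left
      (sub_ne_zero.2 he1)
  rw [pow_mul' κ.ω 2 (c' : ℕ), pow_mul' κ.ω 2 ((m - c' : Fin 3) : ℕ), h1, h2] at A'
  rw [h1, h2] at B'
  rw [pow_mul' κ.ω 2 (c : ℕ), pow_mul' κ.ω 2 ((m - c : Fin 3) : ℕ)] at A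
  set X := κ.ω ^ (c : ℕ)
  set Y := κ.ω ^ ((m - c : Fin 3) : ℕ)
  have hX : X ^ 3 = 1 := by show (κ.ω ^ (c : ℕ)) ^ 3 = 1; rw [← pow_mul, mul_comm, pow_mul, κ.cube, one_pow]
  have hY : Y ^ 3 = 1 := by
    show (κ.ω ^ ((m - c : Fin 3) : ℕ)) ^ 3 = 1; rw [← pow_mul, mul_comm, pow_mul, κ.cube, one_pow]
  have he0 : e - 1 ≠ 0 := sub_ne_zero.2 he1
  -- x = e² y, a 0 = e y and the dual relations
  have ex : X ^ 2 * a 1 = e * (Y ^ 2 * a 2) := by
    refine mul_left_cancel₀ (show e ^ 2 - 1 ≠ 0 from fun h => he0 (by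
      linear_combination -e * h + he3)) ?_
    linear_combination A' - A - (e + 1) * (Y ^ 2 * a 2) * he3
  have ea : a 0 = e ^ 2 * (Y ^ 2 * a 2) := by linear_combination A - ex - Y ^ 2 * a 2 * hee
  have eu : b 1 * X = e ^ 2 * (b 2 * Y) := by
    refine mul_left_cancel₀ he0 ?_
    linear_combination B' - B - (b 2 * Y) * he3
  have eb : b 0 = e * (b 2 * Y) := by linear_combination B - eu - b 2 * Y * hee
  have n2 : (Y ^ 2 * a 2) * (b 2 * Y) = a 2 * b 2 := by linear_combination (a 2 * b 2) * hY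
  have n1 : (X ^ 2 * a 1) * (b 1 * X) = a 1 * b 1 := by linear_combination (a 1 * b 1) * hX
  rw [ex, eu] at n1
  rw [ea, eb]
  constructor
  · linear_combination n1
  · linear_combination n2 - n1 + (Y ^ 2 * a 2) * (b 2 * Y) * he3

theorem avg (C D E : F) : (∑ t : Fin 3, (C + κ.ω ^ (t : ℕ) * D + κ.ω ^ (2 * (t : ℕ)) * E)) = 3 * C ∧
    (∑ t : Fin 3, (C + κ.ω ^ (t : ℕ) * D + κ.ω ^ (2 * (t : ℕ)) * E) ^ 2) = 3 * (C ^ 2 + 2 * D * E) := by
  have hω := κ.cube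
  have rel := κ.rel
  constructor <;> simp [Fin.sum_univ_three] <;> grind

/-- The second moment. -/
theorem moment (a b : Fin 3 → F) : ∑ s, ∑ t, val3 κ a b s t ^ 2 =
    9 * ((a 0 * b 0 + a 1 * b 1 + a 2 * b 2) ^ 2 +
      2 * (a 0 * b 0 * (a 1 * b 1) + a 0 * b 0 * (a 2 * b 2) + a 1 * b 1 * (a 2 * b 2))) := by
  set P : Fin 3 → F := fun s => a 0 + κ.ω ^ (2 * (s : ℕ)) * a 1 with hP
  set R : Fin 3 → F := fun s => b 0 + b 1 * κ.ω ^ (s : ℕ) with hR
  set n := a 2 * b 2 with hn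
  have inner : ∀ s, ∑ t, val3 κ a b s t ^ 2 = 3 * ((P s * R s + n) ^ 2 + 2 * n * (P s * R s)) := by
    intro s
    rw [show 2 * n * (P s * R s) = 2 * (P s * b 2) * (R s * a 2) by rw [hn]; ring,
      ← (avg κ (P s * R s + n) (P s * b 2) (R s * a 2)).2]
    refine Finset.sum_congr rfl fun t _ => ?_
    congr 1
    simp only [val3, hP, hR, hn]
    linear_combination (a 2 * b 2) * pow_sum κ t
  have lin : ∀ s, P s * R s = (a 0 * b 0 + a 1 * b 1) + κ.ω ^ (s : ℕ) * (a 0 * b 1) +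
      κ.ω ^ (2 * (s : ℕ)) * (a 1 * b 0) := fun s => by
    simp only [hP, hR]
    linear_combination (a 1 * b 1) * pow_sum κ s
  obtain ⟨l1, l2⟩ := avg κ (a 0 * b 0 + a 1 * b 1) (a 0 * b 1) (a 1 * b 0)
  rw [Finset.sum_congr rfl fun s _ => inner s]
  simp only [lin]
  rw [Fin.sum_univ_three] at l1 l2 ⊢
  linear_combination 3 * l2 + 12 * n * l1

/-- Values four and eight only on the nine points give a twisted equation for one pair. -/
theorem line_K (hp : κ.p = 11) {a b : Fin 3 → F} (hn : ∀ j, a j * b j = 3)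
    (hv : ∀ s t, ∃ i : Fin 2, val3 κ a b s t = 3 * (4 + 4 * (i : ℕ))) :
    (a 0 * b 2) ^ 3 = -(a 2 * b 0) ^ 3 := by
  have h11 := char_eleven κ hp
  set X := a 0 * b 2
  set Y := a 2 * b 0
  set T : Fin 3 → F := fun t => κ.ω ^ (t : ℕ) * X + κ.ω ^ (2 * (t : ℕ)) * Y with hT
  have line : ∀ t, ∃ j : Fin 4, T t = 3 + 4 * (j : ℕ) := by
    intro t
    obtain ⟨i, hi⟩ := hv 0 t
    obtain ⟨i', hi'⟩ := hv 1 t
    obtain ⟨i'', hi''⟩ := hv 2 t
    refine ⟨⟨(i : ℕ) + i' + i'', by omega⟩, ?_⟩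
    have hs : val3 κ a b 0 t + val3 κ a b 1 t + val3 κ a b 2 t = 3 * (9 + T t) := by
      have hω := κ.cube
      have rel := κ.rel
      have p := pow_sum κ t
      simp only [val3, hT, X, Y, Fin.val_zero, Fin.val_one, Fin.val_two]
      have h0 := hn 0; have h1 := hn 1; have h2 := hn 2
      simp only [pow_mul' κ.ω 2 (t : ℕ)] at p ⊢
      grind
    rw [hi, hi', hi''] at hs
    refine mul_left_cancel₀ κ.three ?_
    push_cast
    linear_combination -hs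
  have hXY : X * Y = 9 := by
    linear_combination (a 2 * b 2) * hn 0 + 3 * hn 2
  have hK : ∀ t, T t ^ 3 - 5 * T t = X ^ 3 + Y ^ 3 := fun t => by
    have p := pow_sum κ t
    have h3 : (κ.ω ^ (t : ℕ)) ^ 3 = 1 := by rw [← pow_mul, mul_comm, pow_mul, κ.cube, one_pow]
    simp only [hT, pow_mul' κ.ω 2 (t : ℕ)] at p ⊢
    set w := κ.ω ^ (t : ℕ)
    linear_combination (X ^ 3 + (w ^ 3 + 1) * Y ^ 3 + 3 * w * X ^ 2 * Y + 3 * w ^ 2 * X * Y ^ 2) * h3 +
      3 * (w * X + w ^ 2 * Y) * hXY + 2 * (w * X + w ^ 2 * Y) * h11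
  have hsum : T 0 + T 1 + T 2 = 0 := by
    simp [hT]
    linear_combination (X + Y) * κ.rel + Y * κ.ω * κ.cube
  by_contra hne
  have hK0 : X ^ 3 + Y ^ 3 ≠ 0 := fun e => hne (by linear_combination e)
  have all3 : ∀ t, T t = 3 := by
    intro t
    obtain ⟨j, hj⟩ := line t
    have hk := hK t
    rw [hj] at hk ⊢
    obtain rfl : j = 0 := by
      by_contra hj0
      apply hK0
      fin_cases j <;> first | exact absurd rfl hj0 | skip
      · simp at hk; linear_combination -hk + 28 * h11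
      · simp at hk; linear_combination -hk + 116 * h11
      · simp at hk; linear_combination -hk + 300 * h11
    simp
  rw [all3, all3, all3] at hsum
  exact κ.cast_ne 9 (fun h => by rw [hp] at h; omega) (by push_cast; linear_combination hsum)

/-- No nine good values in characteristic five. -/
theorem nine_five (hp : κ.p = 5) {a b : Fin 3 → F} (hn : ∀ j, a j * b j = 4)
    (hg : ∀ s t, Good (val3 κ a b s t / 3))
    (hcls : ∀ m : Fin 3, 4 + ∑ c, val3 κ a b c (m - c) / 3 = 1) : False := by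
  have h5 := char_five κ hp
  have all : ∀ m c, val3 κ a b c (m - c) = 12 := by
    intro m
    choose i hi using fun c => good_five κ hp (hg c (m - c))
    have h := hcls m
    rw [Fin.sum_univ_three, hi, hi, hi] at h
    have hm : ((4 + ![2, 4] (i 0) + ![2, 4] (i 1) + ![2, 4] (i 2) : ℕ) : F) = ((1 : ℕ) : F) := by
      push_cast; linear_combination h
    have := κ.cast_eq hm
    rw [hp] at this
    obtain ⟨-, e0, e1, e2⟩ := five_table 1 _ _ _ this
    intro c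
    have := hi c
    rw [div_eq_iff κ.three] at this
    rw [this]
    fin_cases c <;> simp [e0, e1, e2] <;> norm_num
  have hM := moment κ a b
  have e : ∀ s t, val3 κ a b s t = 12 := fun s t => by simpa using all (s + t) s
  simp only [e, hn] at hM
  simp at hM
  refine one_ne_zero (α := F) ?_
  linear_combination hM + 173 * h5

/-- No nine good values in characteristic eleven, split at eight. -/
theorem nine_eleven_eight (hp : κ.p = 11) {a b : Fin 3 → F} (hn : ∀ j, Good (a j * b j))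
    (hs : 8 + ∑ j, a j * b j = 1)
    (hp' : ∀ s t : Fin 3, (a 0 + κ.ω ^ (2 * (s : ℕ)) * a 1 + κ.ω ^ (2 * (t : ℕ)) * a 2 = 0 ∧
      b 0 + b 1 * κ.ω ^ (s : ℕ) + b 2 * κ.ω ^ (t : ℕ) = 0) ∨ Good (val3 κ a b s t / 3))
    (hcls : ∀ m : Fin 3, 8 + ∑ c, val3 κ a b c (m - c) / 3 = 1) : False := by
  have h11 := char_eleven κ hp
  choose j hj using fun i => good_eleven κ hp (hn i)
  rw [Fin.sum_univ_three, hj, hj, hj] at hs
  have hm : ((8 + ![4, 8, 3, 9] (j 0) + ![4, 8, 3, 9] (j 1) + ![4, 8, 3, 9] (j 2) : ℕ) : F) =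
      ((1 : ℕ) : F) := by
    push_cast; linear_combination hs
  have := κ.cast_eq hm
  rw [hp] at this
  obtain ⟨hne, hT, -⟩ := eleven_rest _ _ _ this
  have inj : ∀ x y : Fin 4, ((![4, 8, 3, 9] x : ℕ) : F) = ((![4, 8, 3, 9] y : ℕ) : F) → x = y := by
    intro x y h
    have h := κ.cast_eq h
    rw [hp] at h
    exact (by decide : ∀ x y : Fin 4, (![4, 8, 3, 9] x : ℕ) % 11 = (![4, 8, 3, 9] y : ℕ) % 11 → x = y) x y h
  have noz : ∀ m c : Fin 3, Good (val3 κ a b c (m - c) / 3) := by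
    intro m c
    refine (hp' c (m - c)).resolve_left fun hz => ?_
    have others : ∀ c' : Fin 3, c' ≠ c → Good (val3 κ a b c' (m - c') / 3) := by
      intro c' hc'
      refine (hp' c' (m - c')).resolve_left fun hz' => hne ?_
      obtain ⟨e01, e12⟩ := two_zero κ (a := a) (b := b) (m := m) hc' (by
        intro x hx
        simp only [Finset.mem_insert, Finset.mem_singleton] at hx
        rcases hx with rfl | rfl <;> assumption)
      rw [hj, hj] at e01 e12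
      exact ⟨inj _ _ e01, inj _ _ e12⟩
    have h := hcls m
    have hz0 : val3 κ a b c (m - c) = 0 := by simp [val3, hz.1]
    obtain ⟨x, hx⟩ := good_eleven κ hp (others (c + 1) (by simp))
    obtain ⟨y, hy⟩ := good_eleven κ hp (others (c + 2) (by simp))
    have hsum : ∀ f : Fin 3 → F, ∑ i, f i = f c + f (c + 1) + f (c + 2) := fun f => by
      rw [Fin.sum_univ_three]
      fin_cases c <;> simp <;> ring
    rw [hsum, hz0, hx, hy, zero_div, zero_add] at h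
    have hm : ((![4, 8, 3, 9] x + ![4, 8, 3, 9] y : ℕ) : F) = ((4 : ℕ) : F) := by
      push_cast; linear_combination h - h11
    have := κ.cast_eq hm
    rw [hp] at this
    exact eleven_pair x y this
  have hQ : ∀ m, ∃ Q ∈ ({0, 1, 6} : Finset ℕ),
      ∑ c, (val3 κ a b c (m - c) / 3) ^ 2 = (Q : F) := by
    intro m
    choose i hi using fun c => good_eleven κ hp (noz m c)
    have h := hcls m
    rw [Fin.sum_univ_three, hi, hi, hi] at h
    have hm : ((8 + ![4, 8, 3, 9] (i 0) + ![4, 8, 3, 9] (i 1) + ![4, 8, 3, 9] (i 2) : ℕ) : F) =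
        ((1 : ℕ) : F) := by
      push_cast; linear_combination h
    have := κ.cast_eq hm
    rw [hp] at this
    refine ⟨_, (eleven_rest _ _ _ this).2.2, ?_⟩
    haveI := κ.charP
    rw [← hp, ← CharP.cast_eq_mod F κ.p, Fin.sum_univ_three, hi, hi, hi]
    push_cast; ring
  obtain ⟨A, hA, eA⟩ := hQ 0
  obtain ⟨B, hB, eB⟩ := hQ 1
  obtain ⟨C, hC, eC⟩ := hQ 2
  have hM := moment κ a b
  rw [hj, hj, hj] at hM
  have hre : ∑ s, ∑ t, val3 κ a b s t ^ 2 = ∑ m : Fin 3, ∑ c, val3 κ a b c (m - c) ^ 2 := by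
    rw [Finset.sum_comm (f := fun (m : Fin 3) c => val3 κ a b c (m - c) ^ 2)]
    refine Finset.sum_congr rfl fun s _ => ?_
    exact ((Equiv.subRight s).sum_comp (fun t => val3 κ a b s t ^ 2)).symm
  rw [hre, Fin.sum_univ_three] at hM
  simp only [div_pow, ← Finset.sum_div] at eA eB eC
  rw [div_eq_iff (pow_ne_zero 2 κ.three)] at eA eB eC
  rw [eA, eB, eC] at hM
  refine no_sum_eight A hA B hB C hC ?_
  have key : ((A + B + C : ℕ) : F) = ((((![4, 8, 3, 9] (j 0) + ![4, 8, 3, 9] (j 1) + ![4, 8, 3, 9] (j 2)) ^ 2 +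
      2 * (![4, 8, 3, 9] (j 0) * ![4, 8, 3, 9] (j 1) + ![4, 8, 3, 9] (j 0) * ![4, 8, 3, 9] (j 2) +
        ![4, 8, 3, 9] (j 1) * ![4, 8, 3, 9] (j 2)) : ℕ)) : F) := by
    refine mul_left_cancel₀ (pow_ne_zero 2 κ.three) ?_
    push_cast; linear_combination hM
  have := κ.cast_eq key
  rw [hp] at this
  rw [this]
  exact hT

/-- No nine good values in characteristic eleven with all products three. -/
theorem nine_eleven_three (hp : κ.p = 11) {a b : Fin 3 → F} (hn : ∀ j, a j * b j = 3)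
    (hg : ∀ s t, Good (val3 κ a b s t / 3))
    (hcls : ∀ m : Fin 3, 3 + ∑ c, val3 κ a b c (m - c) / 3 = 1) : False := by
  have h11 := char_eleven κ hp
  choose i hi using fun s t => good_eleven κ hp (hg s t)
  have hc : ∀ m : Fin 3, (3 + ![4, 8, 3, 9] (i 0 (m - 0)) + ![4, 8, 3, 9] (i 1 (m - 1)) +
      ![4, 8, 3, 9] (i 2 (m - 2)) : ℕ) % 11 = 1 := fun m => by
    have h := hcls m
    rw [Fin.sum_univ_three, hi, hi, hi] at h
    have hm : ((3 + ![4, 8, 3, 9] (i 0 (m - 0)) + ![4, 8, 3, 9] (i 1 (m - 1)) +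
        ![4, 8, 3, 9] (i 2 (m - 2)) : ℕ) : F) = ((1 : ℕ) : F) := by
      push_cast; linear_combination h
    have := κ.cast_eq hm
    rwa [hp] at this
  set Q : Fin 3 → ℕ := fun m => (![4, 8, 3, 9] (i 0 (m - 0)) ^ 2 + ![4, 8, 3, 9] (i 1 (m - 1)) ^ 2 +
      ![4, 8, 3, 9] (i 2 (m - 2)) ^ 2) % 11 with hQ
  have hQc : ∀ m, ((Q m : ℕ) : F) = ∑ c, (val3 κ a b c (m - c) / 3) ^ 2 := fun m => by
    haveI := κ.charP
    simp only [hQ]
    rw [← hp, ← CharP.cast_eq_mod F κ.p, Fin.sum_univ_three, hi, hi, hi]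
    push_cast; ring
  have hM := moment κ a b
  rw [hn, hn, hn] at hM
  have hre : ∑ s, ∑ t, val3 κ a b s t ^ 2 = ∑ m : Fin 3, ∑ c, val3 κ a b c (m - c) ^ 2 := by
    rw [Finset.sum_comm (f := fun (m : Fin 3) c => val3 κ a b c (m - c) ^ 2)]
    refine Finset.sum_congr rfl fun s _ => ?_
    exact ((Equiv.subRight s).sum_comp (fun t => val3 κ a b s t ^ 2)).symm
  rw [hre, Fin.sum_univ_three] at hM
  have hQ9 : ∀ m, ∑ c, val3 κ a b c (m - c) ^ 2 = (Q m : F) * 3 ^ 2 := fun m => by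
    rw [hQc, Finset.sum_mul]
    refine Finset.sum_congr rfl fun c _ => ?_
    rw [div_pow, div_mul_cancel₀ _ (pow_ne_zero 2 κ.three)]
  rw [hQ9, hQ9, hQ9] at hM
  have key : ((Q 0 + Q 1 + Q 2 : ℕ) : F) = ((3 : ℕ) : F) := by
    refine mul_left_cancel₀ (pow_ne_zero 2 κ.three) ?_
    push_cast
    linear_combination hM + 108 * h11
  have hk := κ.cast_eq key
  rw [hp] at hk
  obtain ⟨q0, q1, q2⟩ := sum_three _ (eleven_three _ _ _ (hc 0)).1 _ (eleven_three _ _ _ (hc 1)).1 _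
    (eleven_three _ _ _ (hc 2)).1 hk
  have small : ∀ s t, i s t ≤ 1 := by
    have hm : ∀ m, Q m = 1 := fun m => by fin_cases m <;> assumption
    intro s t
    obtain ⟨h0, h1, h2⟩ := (eleven_three _ _ _ (hc (s + t))).2 (hm (s + t))
    fin_cases s <;> simp at h0 h1 h2 ⊢ <;> assumption
  have hv : ∀ s t, ∃ k : Fin 2, val3 κ a b s t = 3 * (4 + 4 * (k : ℕ)) := fun s t => by
    have h1 := small s t
    have h2 := hi s t
    rw [div_eq_iff κ.three] at h2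
    obtain h | h : i s t = 0 ∨ i s t = 1 := by
      have : ∀ x : Fin 4, x ≤ 1 → x = 0 ∨ x = 1 := by decide
      exact this _ h1
    · exact ⟨0, by rw [h2, h]; simp [mul_comm]⟩
    · exact ⟨1, by rw [h2, h]; simp [mul_comm]; norm_num⟩
  have pm : ∀ n : ℕ, κ.ω ^ n = κ.ω ^ (n % 3) := fun n => by
    conv_lhs => rw [← Nat.mod_add_div n 3, pow_add, pow_mul, κ.cube, one_pow, mul_one]
  have K02 := line_K κ hp hn hv
  have K01 := line_K κ hp (a := ![a 0, a 2, a 1]) (b := ![b 0, b 2, b 1])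
    (fun j => by fin_cases j <;> simp [hn]) (fun s t => by
      obtain ⟨k, hk⟩ := hv t s
      refine ⟨k, ?_⟩
      rw [← hk]; simp [val3]; ring)
  have K12 := line_K κ hp (a := ![a 1, a 0, a 2]) (b := ![b 1, b 0, b 2])
    (fun j => by fin_cases j <;> simp [hn]) (fun s t => by
      obtain ⟨k, hk⟩ := hv (-s) (t - s)
      refine ⟨k, ?_⟩
      rw [← hk]
      have hω := κ.cube
      have rel := κ.rel
      fin_cases s <;> fin_cases t <;>
        simp [val3, show (-1 : Fin 3) = 2 from rfl, show (-2 : Fin 3) = 1 from rfl,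
          show (1 - 2 : Fin 3) = 2 from rfl, show (2 - 1 : Fin 3) = 1 from rfl,
          show (0 - 1 : Fin 3) = 2 from rfl, show (0 - 2 : Fin 3) = 1 from rfl] <;> grind)
  simp at K01 K12
  have h3 := κ.three
  have hmul : (a 2 * b 0) ^ 3 * (a 1 * b 1) ^ 3 = (a 0 * b 2) ^ 3 * (a 1 * b 1) ^ 3 := by
    linear_combination (a 2 * b 1) ^ 3 * K01 - (a 0 * b 1) ^ 3 * K12
  rw [hn, mul_left_inj' (pow_ne_zero 3 h3)] at hmul
  rw [← hmul] at K02
  have h0 : (a 2 * b 0) ^ 3 = 0 :=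
    (mul_eq_zero.1 (show (2 : F) * (a 2 * b 0) ^ 3 = 0 by linear_combination K02)).resolve_left κ.two
  have h0' := (pow_eq_zero_iff (n := 3) (by norm_num)).1 h0
  rcases mul_eq_zero.1 h0' with e | e
  · exact h3 (by rw [← hn 2, e, zero_mul])
  · exact h3 (by rw [← hn 0, e, mul_zero])

end Cfsg.Agent.C6NineOdd
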