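/-
The twelve homologies of the Hessian configuration in a three-dimensional subspace.
Main results: `Same`, `hessian_core`, `pt_mem`, `hessian`.
-/
import Cfsg.Agent.Lib.C6NineOdd.Arith

set_option autoImplicit false
set_option linter.unusedSectionVars false

namespace Cfsg.Agent.C6NineOdd

open Matrix Cfsg.Agent.Transvect
open scoped Matrix

variable {ι : Type} [Fintype ι] [DecidableEq ι] {F : Type*} [Field F] [Fintype F]

/-- The two rank one projections agree. -/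
def Same (u : ι → F) (φ : (ι → F) →ₗ[F] F) (v : ι → F) (ψ : (ι → F) →ₗ[F] F) : Prop :=
  ∀ y, φ y • u = ψ y • v

theorem Same.hom_eq {u v : ι → F} {φ ψ : (ι → F) →ₗ[F] F} (h : Same u φ v ψ) (hu : φ u = 1)
    (hv : ψ v = 1) {a : F} (ha : a ≠ 0) : hom a u φ = hom a v ψ :=
  gl_ext fun y => by rw [hom_apply hu ha, hom_apply hv ha, mul_smul, mul_smul, h y]

variable (κ : Fld F)
include κ

theorem hom_pow {u : ι → F} {φ : (ι → F) →ₗ[F] F} (h : φ u = 1) (n : ℕ) :
    hom κ.ω u φ ^ n = hom (κ.ω ^ n) u φ := by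
  induction n with
  | zero => simp [hom_one]
  | succ n ih => rw [pow_succ, pow_succ, ih, hom_mul h (pow_ne_zero _ κ.ω_ne) κ.ω_ne]

/-- The coordinates of the nine points outside the frame. -/
def cvec (s t : Fin 3) : Fin 3 → F := ![1, κ.ω ^ (s : ℕ), κ.ω ^ (t : ℕ)]

/-- The coordinates of the dual points. -/
def dvec (s t : Fin 3) : Fin 3 → F := ![1, κ.ω ^ (2 * (s : ℕ)), κ.ω ^ (2 * (t : ℕ))]

theorem good_ne_zero {τ : F} (h : Good τ) : τ ≠ 0 := fun e => by
  subst e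
  exact κ.two (by linear_combination h.1)

theorem good_ne_one {τ : F} (h : Good τ) : τ ≠ 1 := fun e => by
  subst e
  exact κ.two (by linear_combination h.1)

theorem good_ne_half {τ : F} (e : 2 * τ = 1) : ¬ Good τ := fun h => by
  by_cases h5 : (5 : F) = 0
  · have e1 : (1 : F) = 0 := by
      linear_combination (-4 : F) * h.2 h5 + (18 * τ - 9) * e
    exact one_ne_zero e1
  · refine h5 ?_
    linear_combination (16 : F) * h.1 + ((-648 : F) * τ ^ 3 + 972 * τ ^ 2 - 378 * τ + 27) * e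

omit κ in
theorem frame_sum {K : Type*} [CommRing K] {w a0 a1 a2 b0 b1 b2 : K} (rel : w ^ 2 + w + 1 = 0)
    (hs : a0 * b0 + a1 * b1 + a2 * b2 = 1) :
    (a0 + w ^ 4 * a2 + a1) * (b0 + b2 * w ^ 2 + b1) +
        (a0 + a1 * w ^ 2 + a2 * w ^ 2) * (b0 + b1 * w + b2 * w) +
        (a0 + a1 * w ^ 4 + a2) * (b0 + b1 * w ^ 2 + b2) = 3 := by
  have h : w ^ 3 = 1 := by linear_combination (w - 1) * rel
  grind

/-- Two nonzero coordinates only. -/
theorem two_coords_false {a₀ a₁ b₀ b₁ : F} (hs : a₀ * b₀ + a₁ * b₁ = 1) (g₀ : Good (a₀ * b₀))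
    (g₁ : Good (a₁ * b₁))
    (h : ∀ l : Fin 3, (a₀ + κ.ω ^ (2 * (l : ℕ)) * a₁ = 0 ∧ b₀ + κ.ω ^ (l : ℕ) * b₁ = 0) ∨
      Good ((a₀ + κ.ω ^ (2 * (l : ℕ)) * a₁) * (b₀ + κ.ω ^ (l : ℕ) * b₁) / 3)) : False := by
  have hω := κ.cube
  have g : ∀ l : Fin 3, Good ((a₀ + κ.ω ^ (2 * (l : ℕ)) * a₁) * (b₀ + κ.ω ^ (l : ℕ) * b₁) / 3) := by
    intro l
    refine (h l).resolve_left fun ⟨e1, e2⟩ => good_ne_half κ (τ := a₁ * b₁) ?_ g₁
    have hl : κ.ω ^ (2 * (l : ℕ)) * κ.ω ^ (l : ℕ) = 1 := by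
      rw [← pow_add, show 2 * (l : ℕ) + l = 3 * (l : ℕ) by ring, pow_mul, hω, one_pow]
    linear_combination -b₀ * e1 + κ.ω ^ (2 * (l : ℕ)) * a₁ * e2 + hs - a₁ * b₁ * hl
  have h3 := κ.three
  obtain ⟨e0, e1, e2⟩ := good_three κ (g 0) (g 1) (g 2) (by
    simp only [Fin.val_zero, Fin.val_one, Fin.val_two]
    field_simp
    linear_combination 3 * hs + a₁ * b₁ * hω + a₁ * b₁ * (κ.ω ^ 3 + 1) * hω +
      (a₀ * b₁ + a₁ * b₀) * κ.rel + a₁ * b₀ * κ.ω * hω)
  field_simp at e0 e1 e2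
  simp only [Fin.val_zero, Fin.val_one, Fin.val_two] at e0 e1 e2
  have hz : 3 * (a₁ * b₀) = 0 := by
    linear_combination e0 + κ.ω * e1 + κ.ω ^ 2 * e2 - (a₀ * b₀ - 1) * κ.rel - a₁ * b₁ * κ.rel -
      (a₁ * b₀ + a₁ * b₀ * (κ.ω ^ 3 + 1) + a₁ * b₁ * κ.ω + a₁ * b₁ * κ.ω ^ 2 * (κ.ω ^ 3 + 1) +
        a₀ * b₁ * κ.ω) * hω - a₀ * b₁ * κ.rel
  rcases mul_eq_zero.1 ((mul_eq_zero.1 hz).resolve_left h3) with e | e
  · exact good_ne_zero κ g₁ (by rw [e, zero_mul])
  · exact good_ne_zero κ g₀ (by rw [e, mul_zero])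

/-- The coordinates of a further homology are those of one of the twelve. -/
theorem hessian_core (a b : Fin 3 → F) (hs : ∑ i, a i * b i = 1)
    (hc : ∀ i, (a i = 0 ∧ b i = 0) ∨ (∀ j k, a j * b k = if j = i ∧ k = i then 1 else 0) ∨
      Good (a i * b i))
    (hp : ∀ s t, (∑ j, dvec κ s t j * a j = 0 ∧ ∑ j, b j * cvec κ s t j = 0) ∨
      (∀ j k, a j * b k = cvec κ s t j * dvec κ s t k / 3) ∨
      Good ((∑ j, dvec κ s t j * a j) * (∑ j, b j * cvec κ s t j) / 3)) :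
    (∃ i, ∀ j k, a j * b k = if j = i ∧ k = i then 1 else 0) ∨
      (∃ s t, ∀ j k, a j * b k = cvec κ s t j * dvec κ s t k / 3) := by
  by_contra hcon
  push Not at hcon
  obtain ⟨hn1, hn2⟩ := hcon
  have hc' : ∀ i, (a i = 0 ∧ b i = 0) ∨ Good (a i * b i) := fun i => by
    rcases hc i with h | h | h
    · exact Or.inl h
    · obtain ⟨j, k, h'⟩ := hn1 i; exact absurd (h j k) h'
    · exact Or.inr h
  have hp' : ∀ s t, (∑ j, dvec κ s t j * a j = 0 ∧ ∑ j, b j * cvec κ s t j = 0) ∨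
      Good ((∑ j, dvec κ s t j * a j) * (∑ j, b j * cvec κ s t j) / 3) := fun s t => by
    rcases hp s t with h | h | h
    · exact Or.inl h
    · obtain ⟨j, k, h'⟩ := hn2 s t; exact absurd (h j k) h'
    · exact Or.inr h
  simp only [cvec, dvec, Fin.sum_univ_three, Matrix.cons_val_zero, Matrix.cons_val_one,
    Matrix.cons_val] at hp'
  rw [Fin.sum_univ_three] at hs
  have hω := κ.cube
  by_cases hz : ∃ i, a i = 0 ∧ b i = 0
  · obtain ⟨i, hai, hbi⟩ := hz
    have two : ∀ j k, i ≠ j → i ≠ k → j ≠ k → a j * b j + a k * b k = 1 →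
        Good (a j * b j) ∧ Good (a k * b k) := by
      intro j k _ _ _ h
      rcases hc' j with ⟨h1, h2⟩ | gj
      · rw [h1, zero_mul, zero_add] at h
        rcases hc' k with ⟨h3, h4⟩ | gk
        · simp [h3] at h
        · exact absurd h (good_ne_one κ gk)
      · rcases hc' k with ⟨h3, h4⟩ | gk
        · rw [h3, zero_mul, add_zero] at h; exact absurd h (good_ne_one κ gj)
        · exact ⟨gj, gk⟩
    fin_cases i <;> simp only [Fin.zero_eta, Fin.mk_one, Fin.reduceFinMk] at hai hbi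
    · obtain ⟨g, g'⟩ := two 1 2 (by decide) (by decide) (by decide)
        (by simpa [hai, hbi] using hs)
      refine two_coords_false κ (by simpa [hai, hbi] using hs) g g' fun l => ?_
      have := hp' 0 l
      simpa [hai, hbi, mul_comm (κ.ω ^ (l : ℕ))] using this
    · obtain ⟨g, g'⟩ := two 0 2 (by decide) (by decide) (by decide)
        (by simpa [hai, hbi] using hs)
      refine two_coords_false κ (by simpa [hai, hbi] using hs) g g' fun l => ?_
      have := hp' 0 l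
      simpa [hai, hbi, mul_comm (κ.ω ^ (l : ℕ))] using this
    · obtain ⟨g, g'⟩ := two 0 1 (by decide) (by decide) (by decide)
        (by simpa [hai, hbi] using hs)
      refine two_coords_false κ (by simpa [hai, hbi] using hs) g g' fun l => ?_
      have := hp' l 0
      simpa [hai, hbi, mul_comm (κ.ω ^ (l : ℕ))] using this
  push Not at hz
  have gg : ∀ i, Good (a i * b i) := fun i => (hc' i).resolve_left fun h => hz i h.1 h.2
  obtain ⟨t0, t1, t2⟩ := good_three κ (gg 0) (gg 1) (gg 2) hs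
  have na : ∀ i, a i ≠ 0 := fun i e => good_ne_zero κ (gg i) (by rw [e, zero_mul])
  by_cases hp0 : ∃ s t : Fin 3,
      a 0 + κ.ω ^ (2 * (s : ℕ)) * a 1 + κ.ω ^ (2 * (t : ℕ)) * a 2 = 0 ∧
      b 0 + b 1 * κ.ω ^ (s : ℕ) + b 2 * κ.ω ^ (t : ℕ) = 0
  · obtain ⟨s, t, eA, eB⟩ := hp0
    have inv : ∀ m : ℕ, κ.ω ^ (2 * m) * κ.ω ^ m = 1 := fun m => by
      rw [← pow_add, show 2 * m + m = 3 * m by ring, pow_mul, hω, one_pow]
    set x := κ.ω ^ (2 * (s : ℕ)) * a 1 with hx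
    set y := κ.ω ^ (2 * (t : ℕ)) * a 2 with hy
    have hq : x * y + a 0 * y + a 0 * x = 0 := by
      linear_combination (3 * a 0 * x * y) * eB - (x * y) * t0 -
        (a 0 * y) * (3 * a 1 * b 1) * inv s - (a 0 * x) * (3 * a 2 * b 2) * inv t -
        (a 0 * y) * t1 - (a 0 * x) * t2
    have hsq : x ^ 2 + a 0 * x + a 0 ^ 2 = 0 := by linear_combination (x + a 0) * eA - hq
    have hxx : x = κ.ω * a 0 ∧ y = κ.ω ^ 2 * a 0 ∨ x = κ.ω ^ 2 * a 0 ∧ y = κ.ω * a 0 := by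
      rcases mul_eq_zero.1 (show (x - κ.ω * a 0) * (x - κ.ω ^ 2 * a 0) = 0 by
        linear_combination hsq - a 0 * x * κ.rel + a 0 ^ 2 * hω) with e | e
      · exact Or.inl ⟨sub_eq_zero.1 e, by linear_combination eA - e - a 0 * κ.rel⟩
      · exact Or.inr ⟨sub_eq_zero.1 e, by linear_combination eA - e - a 0 * κ.rel⟩
    have mk : ∀ (s' t' : Fin 3), a 1 = κ.ω ^ (s' : ℕ) * a 0 → a 2 = κ.ω ^ (t' : ℕ) * a 0 → False := by
      intro s' t' e1 e2
      obtain ⟨j, k, h⟩ := hn2 s' t'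
      apply h
      have c0 : ∀ m : Fin 3, a m = cvec κ s' t' m * a 0 := fun m => by
        fin_cases m <;> simp [cvec, e1, e2]
      have d0 : ∀ m : Fin 3, cvec κ s' t' m * dvec κ s' t' m = 1 := fun m => by
        fin_cases m <;> simp [cvec, dvec, mul_comm (κ.ω ^ (s' : ℕ)), mul_comm (κ.ω ^ (t' : ℕ)), inv]
      have tk : 3 * (a k * b k) = 1 := by
        fin_cases k <;> simpa using (by assumption : _ = (1 : F))
      rw [eq_div_iff κ.three, c0 j]
      rw [c0 k] at tk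
      linear_combination (cvec κ s' t' j * dvec κ s' t' k) * tk -
        3 * cvec κ s' t' j * a 0 * b k * d0 k
    have up : ∀ m k : Fin 3, κ.ω ^ ((m + k : Fin 3) : ℕ) = κ.ω ^ (m : ℕ) * κ.ω ^ (k : ℕ) := fun m k => by
      rw [Fin.val_add, ← pow_add]
      conv_rhs => rw [← Nat.mod_add_div ((m : ℕ) + k) 3, pow_add, pow_mul, hω, one_pow, mul_one]
    have ea1 : a 1 = κ.ω ^ (s : ℕ) * x := by rw [hx]; linear_combination -(a 1) * inv s
    have ea2 : a 2 = κ.ω ^ (t : ℕ) * y := by rw [hy]; linear_combination -(a 2) * inv t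
    rcases hxx with ⟨e1, e2⟩ | ⟨e1, e2⟩
    · exact mk (s + 1) (t + 2) (by rw [ea1, e1, up]; simp; ring) (by rw [ea2, e2, up]; simp; ring)
    · exact mk (s + 2) (t + 1) (by rw [ea1, e1, up]; simp; ring) (by rw [ea2, e2, up]; simp; ring)
  push Not at hp0
  have gp : ∀ s t : Fin 3, Good ((a 0 + κ.ω ^ (2 * (s : ℕ)) * a 1 + κ.ω ^ (2 * (t : ℕ)) * a 2) *
      (b 0 + b 1 * κ.ω ^ (s : ℕ) + b 2 * κ.ω ^ (t : ℕ)) / 3) := fun s t => by
    have := hp' s t
    simp only [one_mul, mul_one] at this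
    exact this.resolve_left fun h => hp0 s t h.1 h.2
  have f0 := gp 0 0; have f1 := gp 1 2; have f2 := gp 2 1
  have f3 := gp 0 1; have f4 := gp 1 0; have f5 := gp 2 2
  have f6 := gp 0 2; have f7 := gp 1 1; have f8 := gp 2 0
  simp only [Fin.val_zero, Fin.val_one, Fin.val_two, mul_zero, pow_zero, mul_one, one_mul] at f0 f1 f2 f3 f4 f5 f6 f7 f8
  have h3 := κ.three
  have rel := κ.rel
  obtain ⟨g0, g1, g2⟩ := good_three κ f0 f1 f2 (by field_simp; grind)
  obtain ⟨g3, g4, g5⟩ := good_three κ f3 f4 f5 (by field_simp; grind)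
  obtain ⟨g6, g7, g8⟩ := good_three κ f6 f7 f8 (by field_simp; linear_combination frame_sum κ.rel hs)
  field_simp at g0 g1 g2 g3 g4 g5 g6 g7 g8
  have four : ∀ A B : F, (A + a 1) * (B + b 1) = 1 → (A + κ.ω ^ 2 * a 1) * (B + κ.ω * b 1) = 1 →
      (A + κ.ω ^ 4 * a 1) * (B + κ.ω ^ 2 * b 1) = 1 → A * b 1 = 0 := fun A B h0 h1 h2 => by
    refine (mul_eq_zero.1 (show 3 * (A * b 1) = 0 by
      linear_combination h0 + κ.ω ^ 2 * h1 + κ.ω ^ 4 * h2 - (A * B - 1) * (rel + κ.ω * hω) -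
        A * b 1 * ((κ.ω ^ 3 + 1 + 1) * hω) -
        a 1 * B * (rel + (κ.ω + κ.ω ^ 2 * (κ.ω ^ 3 + 1)) * hω) -
        a 1 * b 1 * (rel + (κ.ω ^ 2 + κ.ω * (κ.ω ^ 6 + κ.ω ^ 3 + 1)) * hω))).resolve_left h3
  have nb : b 1 ≠ 0 := fun e => good_ne_zero κ (gg 1) (by rw [e, mul_zero])
  have q0 := four (a 0 + a 2) (b 0 + b 2) (by linear_combination g0)
    (by linear_combination g4) (by linear_combination g8)
  have q1 := four (a 0 + κ.ω ^ 2 * a 2) (b 0 + κ.ω * b 2) (by linear_combination g3)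
    (by linear_combination g7) (by linear_combination g2)
  have : (1 - κ.ω ^ 2) * a 2 * b 1 = 0 := by linear_combination q0 - q1
  rcases mul_eq_zero.1 this with e | e
  · rcases mul_eq_zero.1 e with e | e
    · exact κ.sq_ne_one (by linear_combination -e)
    · exact na 2 e
  · exact nb e

/-- The hypotheses: three orthogonal homologies and the one of the all-ones point. -/
structure Tri (A : Subgroup (GL ι F)) (e : Fin 3 → ι → F) (f : Fin 3 → (ι → F) →ₗ[F] F) : Prop where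
  dual : ∀ i j, f i (e j) = if i = j then 1 else 0
  frame : ∀ i, hom κ.ω (e i) (f i) ∈ A
  ones : hom κ.ω (e 0 + e 1 + e 2) ((3 : F)⁻¹ • (f 0 + f 1 + f 2)) ∈ A

/-- The nine points outside the frame. -/
def pV (e : Fin 3 → ι → F) (s t : Fin 3) : ι → F := ∑ j, cvec κ s t j • e j

/-- The dual points. -/
def pD (f : Fin 3 → (ι → F) →ₗ[F] F) (s t : Fin 3) : (ι → F) →ₗ[F] F :=
  (3 : F)⁻¹ • ∑ j, dvec κ s t j • f j

theorem pD_pV {e : Fin 3 → ι → F} {f : Fin 3 → (ι → F) →ₗ[F] F}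
    (hd : ∀ i j, f i (e j) = if i = j then 1 else 0) (s t : Fin 3) :
    pD κ f s t (pV κ e s t) = 1 := by
  have inv : ∀ m : ℕ, κ.ω ^ (2 * m) * κ.ω ^ m = 1 := fun m => by
    rw [← pow_add, show 2 * m + m = 3 * m by ring, pow_mul, κ.cube, one_pow]
  have h3 := κ.three
  simp [pD, pV, cvec, dvec, Fin.sum_univ_three, hd]
  field_simp
  linear_combination inv (s : ℕ) + inv (t : ℕ)

theorem Tri.pt_mem {A : Subgroup (GL ι F)} {e : Fin 3 → ι → F} {f : Fin 3 → (ι → F) →ₗ[F] F}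
    (T : Tri κ A e f) (s t : Fin 3) : hom κ.ω (pV κ e s t) (pD κ f s t) ∈ A := by
  set g := hom κ.ω (e 1) (f 1) ^ (s : ℕ) * hom κ.ω (e 2) (f 2) ^ (t : ℕ) with hg
  have hgA : g ∈ A := mul_mem (pow_mem (T.frame 1) _) (pow_mem (T.frame 2) _)
  have h11 : f 1 (e 1) = 1 := by simp [T.dual]
  have h22 : f 2 (e 2) = 1 := by simp [T.dual]
  have hw : ∀ n : ℕ, κ.ω ^ n ≠ 0 := fun n => pow_ne_zero _ κ.ω_ne
  have hu : ((3 : F)⁻¹ • (f 0 + f 1 + f 2)) (e 0 + e 1 + e 2) = 1 := by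
    have h3 := κ.three
    simp [T.dual]
    field_simp
    ring
  have e1 : app g (e 0 + e 1 + e 2) = pV κ e s t := by
    rw [hg, hom_pow κ h11, hom_pow κ h22, map_mul, LinearEquiv.mul_apply, hom_apply h22 (hw _),
      hom_apply h11 (hw _)]
    simp [pV, cvec, Fin.sum_univ_three, T.dual, sub_smul]
    abel
  have e2 : ((3 : F)⁻¹ • (f 0 + f 1 + f 2)) ∘ₗ (app g⁻¹).toLinearMap = pD κ f s t := by
    refine LinearMap.ext fun y => ?_
    have hinv : ∀ n : ℕ, (κ.ω ^ n)⁻¹ = κ.ω ^ (2 * n) := fun n => inv_eq_of_mul_eq_one_right (by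
      rw [← pow_add, show n + 2 * n = 3 * n by ring, pow_mul, κ.cube, one_pow])
    simp only [LinearMap.comp_apply, LinearEquiv.coe_coe, hg, hom_pow κ h11, hom_pow κ h22,
      _root_.mul_inv_rev, map_mul, LinearEquiv.mul_apply, app_hom_inv h11 (hw _),
      app_hom_inv h22 (hw _), hinv]
    simp [pD, dvec, Fin.sum_univ_three, T.dual]
    ring
  have := mul_mem (mul_mem hgA T.ones) (inv_mem hgA)
  rwa [hom_conj hu κ.ω_ne, e1, e2] at this

/-- A homology supported in the span is one of the twelve. -/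
theorem hessian {A : Subgroup (GL ι F)} (hA : NoTv κ A) {e : Fin 3 → ι → F}
    {f : Fin 3 → (ι → F) →ₗ[F] F} (T : Tri κ A e f) {u : ι → F} {φ : (ι → F) →ₗ[F] F}
    (hu : u = ∑ i, f i u • e i) (hφ : ∀ y, φ y = ∑ i, φ (e i) * f i y) (h1 : φ u = 1)
    (hm : hom κ.ω u φ ∈ A) :
    (∃ i, Same u φ (e i) (f i)) ∨ ∃ s t, Same u φ (pV κ e s t) (pD κ f s t) := by
  have coord : ∀ {v : ι → F} {ψ : (ι → F) →ₗ[F] F}, Same u φ v ψ → ∀ j k,
      f j u * φ (e k) = f j v * ψ (e k) := fun {v ψ} h j k => by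
    have h' := congrArg (f j) (h (e k))
    rw [map_smul, map_smul, smul_eq_mul, smul_eq_mul] at h'
    linear_combination h'
  have back : ∀ (c d : Fin 3 → F), (∀ j k, f j u * φ (e k) = c j * d k) →
      ∀ y, φ y • u = (∑ k, d k * f k y) • ∑ j, c j • e j := fun c d h y => by
    conv_lhs => rw [hu, hφ y]
    simp only [Fin.sum_univ_three, smul_add, smul_smul]
    match_scalars
    · linear_combination f 0 y * h 0 0 + f 1 y * h 0 1 + f 2 y * h 0 2
    · linear_combination f 0 y * h 1 0 + f 1 y * h 1 1 + f 2 y * h 1 2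
    · linear_combination f 0 y * h 2 0 + f 1 y * h 2 1 + f 2 y * h 2 2
  have hs : ∑ i, f i u * φ (e i) = 1 := by
    rw [← h1, hφ u]; exact Finset.sum_congr rfl fun i _ => mul_comm _ _
  refine (hessian_core κ (fun i => f i u) (fun i => φ (e i)) hs (fun i => ?_) (fun s t => ?_)).imp
    (fun ⟨i, h⟩ => ⟨i, fun y => ?_⟩) (fun ⟨s, t, h⟩ => ⟨s, t, fun y => ?_⟩)
  · rcases pair κ hA h1 (by simp [T.dual]) hm (T.frame i) with ⟨ha, hb⟩ | hsame | hg
    · exact Or.inl ⟨hb, ha⟩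
    · refine Or.inr (Or.inl fun j k => ?_)
      rw [coord hsame j k, T.dual, T.dual]
      rcases eq_or_ne j i with hj | hj <;> rcases eq_or_ne k i with hk | hk <;>
        simp [hj, hk, Ne.symm]
    · exact Or.inr (Or.inr (by simpa [mul_comm] using hg))
  · have hpu : pD κ f s t u = (3 : F)⁻¹ * ∑ j, dvec κ s t j * f j u := by
      simp [pD, LinearMap.sum_apply, Finset.mul_sum]
    have hpv : φ (pV κ e s t) = ∑ j, φ (e j) * cvec κ s t j := by
      simp [pV, map_sum, mul_comm]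
    rcases pair κ hA h1 (pD_pV κ T.dual s t) hm (T.pt_mem κ s t) with ⟨ha, hb⟩ | hsame | hg
    · rw [hpu] at hb
      rw [hpv] at ha
      exact Or.inl ⟨(mul_eq_zero.1 hb).resolve_left (inv_ne_zero κ.three), ha⟩
    · refine Or.inr (Or.inl fun j k => ?_)
      rw [coord hsame j k]
      simp [pV, pD, map_sum, LinearMap.sum_apply, T.dual, div_eq_mul_inv, mul_comm, mul_left_comm]
    · refine Or.inr (Or.inr ?_)
      rw [hpu, hpv] at hg
      convert hg using 1
      ring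
  · rw [back (fun j => if j = i then 1 else 0) (fun k => if k = i then 1 else 0)
      (fun j k => (h j k).trans (by simp only [ite_and, ite_mul, one_mul, zero_mul])) y]
    simp
  · rw [back (cvec κ s t) (fun k => dvec κ s t k / 3) (fun j k => (h j k).trans (by ring)) y]
    simp only [pV, pD, LinearMap.smul_apply, LinearMap.sum_apply, smul_eq_mul, Finset.mul_sum]
    congr 1
    exact Finset.sum_congr rfl fun k _ => by rw [div_eq_mul_inv]; ring

end Cfsg.Agent.C6NineOdd
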