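/-
A transvection in a group of isometries spreads to the special unitary group.
Main results: `centre_of_tv`, `centres_conjI`, `not_scalar_comm`, `su_le_of_normal`, `frame_su`, `su3_le`, `Norm`.
-/
import Cfsg.Agent.Lib.C6NineOdd.Herm
import Cfsg.Agent.Lib.SU3Max.Basic

set_option autoImplicit false
set_option linter.unusedSectionVars false

namespace Cfsg.Agent.C6NineOdd

open Matrix Cfsg.Agent.Transvect Cfsg.Agent.Unitary
open scoped Matrix commutatorElement

/-- g normalises B. -/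
def Norm {ι : Type} [Fintype ι] [DecidableEq ι] {F : Type*} [Field F] (B : Subgroup (GL ι F))
    (g : GL ι F) : Prop := ∀ b ∈ B, g * b * g⁻¹ ∈ B

variable {F : Type*} [Field F] [Fintype F] {n : ℕ} (κ : Fld F)
include κ

omit κ in
theorem mem_IGrp_iff_GU {p : ℕ} {g : GL (Fin n) F} : g ∈ IGrp p ↔ g ∈ Cfsg.GU n F p :=
  (mem_GU_iff g).symm

omit κ in
theorem app_tvm {p : ℕ} {g : GL (Fin n) F} {v : Fin n → F} {c : F}
    (hg : (g : Matrix (Fin n) (Fin n) F) = Cfsg.unitaryTransvection n p v c) (x : Fin n → F) :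
    app g x = x + (c * Cfsg.hermForm n F p x v) • v := by
  rw [app_apply, hg, transvection_mulVec]

theorem tvm_mem_su {g : GL (Fin n) F} {v : Fin n → F} {c : F}
    (hv : Cfsg.hermForm n F κ.p v v = 0) (hc : c + c ^ κ.p = 0)
    (hg : (g : Matrix (Fin n) (Fin n) F) = Cfsg.unitaryTransvection n κ.p v c) : g ∈ suGL n F κ.p := by
  have : g = glTransvection κ.card v hv c hc := Units.ext hg
  exact this ▸ suToGU_mem_suGL _

/-- A transvection in a group of isometries gives a centre. -/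
theorem centre_of_tv {A : Subgroup (GL (Fin n) F)} (hA : A ≤ IGrp κ.p) {v : Fin n → F}
    {φ : (Fin n → F) →ₗ[F] F} (h0 : φ v = 0) (hm : tv v φ ∈ A) (hne : tv v φ ≠ 1) :
    v ≠ 0 ∧ v ∈ centres κ.p A := by
  have H := hq_isHerm (ι := Fin n) κ
  have hiso : ∀ x y, hq κ.p (app (tv v φ) x) (app (tv v φ) y) = hq κ.p x y := hA hm
  have hv0 : v ≠ 0 := fun e => hne (gl_ext fun x => by rw [tv_apply h0, e]; simp)
  obtain ⟨y, hy⟩ : ∃ y, φ y ≠ 0 := by
    by_contra! h
    exact hne (gl_ext fun x => by rw [tv_apply h0, h x]; simp)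
  have hker : ∀ x, φ x = 0 → hq κ.p x v = 0 := fun x hx => by
    have h1 := hiso y x
    rw [tv_apply h0, tv_apply h0, hx, zero_smul, add_zero, H.add_left, H.smul_left, add_eq_left,
      mul_eq_zero] at h1
    exact (H.eq_zero_symm κ.card).1 (h1.resolve_left hy)
  have hvv : hq κ.p v v = 0 := hker v h0
  have hsplit : ∀ x, hq κ.p x v = φ x / φ y * hq κ.p y v := fun x => by
    have h1 := hker (x - (φ x / φ y) • y) (by
      rw [map_sub, map_smul, smul_eq_mul, div_mul_cancel₀ _ hy, sub_self])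
    rwa [H.sub_left, H.smul_left, sub_eq_zero] at h1
  obtain ⟨i, hi⟩ := Function.ne_iff.1 hv0
  have hyv : hq κ.p y v ≠ 0 := fun e => by
    have h1 := hsplit (Pi.single i 1)
    rw [e, mul_zero, H.conj_symm v (Pi.single i 1), hq_single] at h1
    exact hi ((pow_eq_zero_iff κ.p0).1 h1)
  set δ := φ y / hq κ.p y v with hδ
  have hφe : ∀ x, φ x = δ * hq κ.p x v := fun x => by rw [hsplit x, hδ]; field_simp
  have hδ0 : δ ≠ 0 := div_ne_zero hy hyv
  have hskew : δ + δ ^ κ.p = 0 := by
    have h1 := hiso y y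
    rw [tv_apply h0, hφe] at h1
    simp [H.add_left, H.add_right κ.card, H.smul_left, H.smul_right, hvv, mul_pow] at h1
    rw [H.conj_symm y v] at h1
    have e : hq κ.p y v * (hq κ.p y v) ^ κ.p * (δ + δ ^ κ.p) = 0 := by linear_combination h1
    exact (mul_eq_zero.1 e).resolve_left (mul_ne_zero hyv (pow_ne_zero _ hyv))
  refine ⟨hv0, hvv, fun g c hc hg => ?_⟩
  obtain ⟨k, hk⟩ := exists_nat κ (x := c / δ) (by
    rw [div_pow, eq_neg_of_add_eq_zero_right hc, eq_neg_of_add_eq_zero_right hskew, neg_div_neg_eq])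
  have hpow : ∀ k : ℕ, ∀ x, app (tv v φ ^ k) x = x + ((k : F) * φ x) • v := by
    intro k
    induction k with
    | zero => simp
    | succ k ih =>
      intro x
      rw [pow_succ', map_mul, LinearEquiv.mul_apply, ih, tv_apply h0, map_add, map_smul, h0, smul_zero,
        add_zero]
      push_cast
      module
  have : g = tv v φ ^ k := gl_ext fun x => by
    rw [app_tvm hg, hpow, hk, hφe]
    congr 2
    rw [← mul_assoc, div_mul_cancel₀ _ hδ0]
    rfl
  exact this ▸ pow_mem hm _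

omit κ in
theorem centres_conjI {p : ℕ} {A : Subgroup (GL (Fin n) F)} {g : GL (Fin n) F} (hgA : g ∈ A)
    (hg : g ∈ IGrp p) {v : Fin n → F} (hv : v ∈ centres p A) : app g v ∈ centres p A := by
  refine ⟨(hg v v).trans hv.1, fun t c hc ht => ?_⟩
  have key : g⁻¹ * t * g ∈ A := by
    refine hv.2 _ c hc ?_
    refine Matrix.ext_of_mulVec_single fun i => ?_
    set x : Fin n → F := Pi.single i 1
    rw [transvection_mulVec, ← app_apply, map_mul, map_mul, LinearEquiv.mul_apply, LinearEquiv.mul_apply,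
      app_tvm ht, map_add, map_smul, app_inv_app, app_inv_app]
    congr 3
    exact hg x v
  simpa [mul_assoc] using mul_mem (mul_mem hgA key) (inv_mem hgA)

/-- A commutator with a transvection whose centre moves is not scalar. -/
theorem not_scalar_comm (hn : 3 ≤ n) {b T : GL (Fin n) F} (hb : b ∈ IGrp κ.p) {v : Fin n → F}
    (hv : Cfsg.hermForm n F κ.p v v = 0) {c : F} (hc0 : c ≠ 0)
    (hT : (T : Matrix (Fin n) (Fin n) F) = Cfsg.unitaryTransvection n κ.p v c)
    (hmove : ∀ a : F, app b v ≠ a • v) (z : F) :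
    ((⁅b, T⁆ : GL (Fin n) F) : Matrix (Fin n) (Fin n) F) ≠ z • 1 := by
  intro hz
  have H := hq_isHerm (ι := Fin n) κ
  set w := app b v with hw
  have hconj : ∀ x, app (b * T * b⁻¹) x = x + (c * hq κ.p x w) • w := fun x => by
    rw [map_mul, map_mul, LinearEquiv.mul_apply, LinearEquiv.mul_apply, app_tvm hT, map_add, map_smul,
      app_app_inv]
    congr 2
    rw [← hq_eq_hermForm, ← hb (app b⁻¹ x) v, app_app_inv]
  have heq : ∀ x, x + (c * hq κ.p x w) • w = z • (x + (c * hq κ.p x v) • v) := fun x => by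
    have e : app (b * T * b⁻¹) x = app (⁅b, T⁆ * T) x := by rw [commutatorElement_def]; group
    rw [hconj, map_mul, LinearEquiv.mul_apply, app_apply ⁅b, T⁆, hz, Matrix.smul_mulVec,
      Matrix.one_mulVec, app_tvm hT] at e
    exact e
  -- a vector orthogonal to both
  obtain ⟨x, hx0, hxv, hxw⟩ : ∃ x : Fin n → F, x ≠ 0 ∧ hq κ.p x v = 0 ∧ hq κ.p x w = 0 := by
    let L : (Fin n → F) →ₗ[F] (Fin 2 → F) :=
      { toFun := fun x => ![hq κ.p x v, hq κ.p x w]
        map_add' := fun x y => by funext i; fin_cases i <;> simp [H.add_left]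
        map_smul' := fun a x => by funext i; fin_cases i <;> simp [H.smul_left] }
    have hk : LinearMap.ker L ≠ ⊥ := fun e => by
      have := LinearMap.finrank_le_finrank_of_injective (LinearMap.ker_eq_bot.1 e)
      simp at this
      omega
    obtain ⟨x, hx, hx0⟩ := Submodule.exists_mem_ne_zero_of_ne_bot hk
    exact ⟨x, hx0, congrFun hx 0, congrFun hx 1⟩
  have hz1 : z = 1 := by
    have := heq x
    rw [hxv, hxw] at this
    simp at this
    have h : (1 - z) • x = 0 := by rw [sub_smul, one_smul, ← this, sub_self]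
    exact (sub_eq_zero.1 ((smul_eq_zero.1 h).resolve_right hx0)).symm
  obtain ⟨y, hy⟩ : ∃ y, hq κ.p y w ≠ 0 := by
    by_contra! hall
    have : w = 0 := funext fun i => by
      have := hall (Pi.single i 1)
      rw [H.conj_symm w (Pi.single i 1), hq_single] at this
      exact (pow_eq_zero_iff κ.p0).1 this
    exact hmove 0 (by rw [this, zero_smul])
  have := heq y
  rw [hz1, one_smul, add_right_inj] at this
  refine hmove ((c * hq κ.p y w)⁻¹ * (c * hq κ.p y v)) ?_
  rw [mul_smul, ← this, smul_smul, inv_mul_cancel₀ (mul_ne_zero hc0 hy), one_smul]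

/-- A subgroup normalised by the special unitary group with a non-scalar isometry contains it. -/
theorem su_le_of_normal (hn : 3 ≤ n) {B : Subgroup (GL (Fin n) F)}
    (hN : ∀ g ∈ suGL n F κ.p, Norm B g) {b : GL (Fin n) F} (hbB : b ∈ B) (hb : b ∈ IGrp κ.p)
    (hns : ∀ z : F, (b : Matrix (Fin n) (Fin n) F) ≠ z • 1) : suGL n F κ.p ≤ B := by
  classical
  have hn' : 4 ≤ n ∨ (n = 3 ∧ 3 ≤ κ.p) := by have := κ.five; omega
  obtain ⟨v, hv0, hv, hmove⟩ : ∃ v : Fin n → F, v ≠ 0 ∧ Cfsg.hermForm n F κ.p v v = 0 ∧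
      ∀ a : F, app b v ≠ a • v := by
    by_contra! h
    obtain ⟨z, hz⟩ := scalar_of_fixes_iso κ.card (by omega) (b : Matrix (Fin n) (Fin n) F)
      fun v hv0 hv => h v hv0 hv
    exact hns z (by rw [hz, Matrix.scalar_apply, Matrix.smul_one_eq_diagonal])
  obtain ⟨δ, hδ0, hδ⟩ := exists_skew κ.card
  set T := glTransvection κ.card v hv δ (by rw [hδ, add_neg_cancel]) with hT
  have hTsu : T ∈ suGL n F κ.p := suToGU_mem_suGL _
  set f := (Cfsg.GU n F κ.p).subtype.comp (suToGU n F κ.p) with hf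
  set N := B.comap f with hNdef
  haveI : N.Normal := ⟨fun x hx g => by
    rw [hNdef, Subgroup.mem_comap, map_mul, map_mul, map_inv]
    exact hN _ (suToGU_mem_suGL g) _ hx⟩
  have hcomm : ⁅b, T⁆ ∈ suGL n F κ.p := by
    refine Subgroup.mem_inf.2 ⟨?_, ?_⟩
    · have hbG : b ∈ Cfsg.GU n F κ.p := mem_IGrp_iff_GU.1 hb
      rw [commutatorElement_def]
      exact mul_mem (mul_mem (mul_mem hbG (Subgroup.mem_inf.1 hTsu).1) (inv_mem hbG)) (inv_mem (Subgroup.mem_inf.1 hTsu).1)
    · show ⁅b, T⁆ ∈ Cfsg.Geo.specialLinear (Fin n) F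
      exact MonoidHom.mem_ker.2 (by rw [map_commutatorElement, commutatorElement_eq_one_iff_mul_comm, mul_comm])
  have hcB : ⁅b, T⁆ ∈ B := by
    have e : (⁅b, T⁆ : GL (Fin n) F) = b * (T * b⁻¹ * T⁻¹) := by rw [commutatorElement_def]; group
    rw [e]
    exact mul_mem hbB (hN T hTsu _ (inv_mem hbB))
  haveI := isSimpleGroup_PSU κ.card hn'
  set π := QuotientGroup.mk' (Subgroup.center (Cfsg.SU n F κ.p))
  rcases Subgroup.Normal.eq_bot_or_eq_top (Subgroup.Normal.map (inferInstance : N.Normal) π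
    (QuotientGroup.mk'_surjective _)) with h | h
  · exfalso
    obtain ⟨s, hs⟩ := exists_su_of_mem hcomm
    have hsN : s ∈ N := by rw [hNdef, Subgroup.mem_comap]; show f s ∈ B; exact (show f s = ⁅b, T⁆ from hs) ▸ hcB
    have hc : s ∈ Subgroup.center (Cfsg.SU n F κ.p) := by
      have : π s ∈ N.map π := ⟨s, hsN, rfl⟩
      rw [h, Subgroup.mem_bot] at this
      exact (QuotientGroup.eq_one_iff s).1 this
    obtain ⟨z, hz⟩ := (mem_center_SU_iff κ.card (by omega) s).1 hc
    refine not_scalar_comm κ hn (T := T) hb hv hδ0 (by rfl) hmove z ?_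
    rw [← hs]
    show ((s : Matrix.SpecialLinearGroup (Fin n) F) : Matrix (Fin n) (Fin n) F) = _
    rw [hz, Matrix.scalar_apply, Matrix.smul_one_eq_diagonal]
  · have htop : (⊤ : Subgroup (Cfsg.SU n F κ.p)) ≤ N ⊔ Subgroup.center _ := fun x _ => by
      have : π x ∈ N.map π := by rw [h]; trivial
      obtain ⟨y, hy, e⟩ := this
      have hc := QuotientGroup.eq.1 e
      rw [← mul_inv_cancel_left y x]
      exact mul_mem (Subgroup.mem_sup_left hy) (Subgroup.mem_sup_right hc)
    have hle : commutator (Cfsg.SU n F κ.p) ≤ N := by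
      rw [commutator_def, Subgroup.commutator_le]
      intro x _ y _
      obtain ⟨x', hx', c, hc, rfl⟩ := Subgroup.mem_sup_of_normal_right.1 (htop (Subgroup.mem_top x))
      obtain ⟨y', hy', d, hd, rfl⟩ := Subgroup.mem_sup_of_normal_right.1 (htop (Subgroup.mem_top y))
      have hcc := Subgroup.mem_center_iff.1 hc
      have hdd := Subgroup.mem_center_iff.1 hd
      have : (⁅x' * c, y' * d⁆ : Cfsg.SU n F κ.p) = ⁅x', y'⁆ := by
        rw [commutatorElement_def, commutatorElement_def]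
        calc x' * c * (y' * d) * (x' * c)⁻¹ * (y' * d)⁻¹
            = x' * (c * (y' * d)) * c⁻¹ * x'⁻¹ * d⁻¹ * y'⁻¹ := by group
          _ = x' * y' * (d * x'⁻¹) * d⁻¹ * y'⁻¹ := by rw [← hcc (y' * d)]; group
          _ = x' * y' * x'⁻¹ * y'⁻¹ := by rw [← hdd x'⁻¹]; group
      rw [this, commutatorElement_def]
      exact mul_mem (mul_mem (mul_mem hx' hy') (inv_mem hx')) (inv_mem hy')
    rw [commutator_SU_eq_top κ.card hn'] at hle
    intro g hg
    obtain ⟨s, rfl⟩ := exists_su_of_mem hg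
    exact hle (Subgroup.mem_top s)

/-- An orthonormal frame of three vectors with a diagonal element: one moved centre gives all. -/
theorem frame_su {A : Subgroup (GL (Fin n) F)} (hA : A ≤ IGrp κ.p) {w : Fin 3 → Fin n → F}
    (hw : ∀ i j, hq κ.p (w i) (w j) = if i = j then 1 else 0)
    (hd : ∃ d ∈ A, ∀ x, app d x =
      x + ((κ.ω - 1) * hq κ.p x (w 0)) • w 0 + ((κ.ω ^ 2 - 1) * hq κ.p x (w 1)) • w 1)
    (hmv : ∀ l : Fin 3, ∃ v : Fin 3 → F, (∑ i, v i • w i) ∈ centres κ.p A ∧ v l ≠ 0 ∧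
      ∃ j, j ≠ l ∧ v j ≠ 0) :
    ∀ y : Fin 3 → F, Cfsg.hermForm 3 F κ.p y y = 0 → (∑ i, y i • w i) ∈ centres κ.p A := by
  classical
  have H := hq_isHerm (ι := Fin n) κ
  let c : Fin 3 → ((Fin n → F) →ₗ[F] F) := fun i =>
    { toFun := fun x => hq κ.p x (w i)
      map_add' := fun x y => H.add_left x y _
      map_smul' := fun a x => H.smul_left a x _ }
  have hcw : ∀ i j, c i (w j) = if i = j then 1 else 0 := fun i j => by
    show hq κ.p (w j) (w i) = _
    rw [hw]; simp [eq_comm]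
  set E := emb w c hcw with hE
  set B := A.comap E with hB
  have hsum : ∀ (y : Fin 3 → F) (x : Fin n → F),
      hq κ.p (∑ i, y i • w i) x = ∑ i, y i * hq κ.p (w i) x := fun y x => by
    rw [H.sum_left]; simp [H.smul_left]
  have hcsum : ∀ (y : Fin 3 → F) i, c i (∑ j, y j • w j) = y i := fun y i => by
    rw [map_sum]; simp [hcw]
  have h3 : ∀ y z : Fin 3 → F, hq κ.p (∑ i, y i • w i) (∑ i, z i • w i) = Cfsg.hermForm 3 F κ.p y z := by
    intro y z
    rw [hsum]
    simp [Cfsg.hermForm, Fin.sum_univ_three, H.add_right κ.card, H.smul_right, hw]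
  have hEw : ∀ (g : GL (Fin 3) F) (y : Fin 3 → F),
      app (E g) (∑ i, y i • w i) = ∑ i, app g y i • w i := by
    intro g y
    rw [hE, emb_apply]
    simp only [hcsum, Matrix.sub_apply, sub_mul, Finset.sum_sub_distrib, sub_smul]
    simp [Matrix.one_apply, app_apply, Matrix.mulVec, dotProduct]
  have hBI : B ≤ IGrp κ.p := fun g hg y z => by
    have := hA (show E g ∈ A from hg) (∑ i, y i • w i) (∑ i, z i • w i)
    rwa [hEw, hEw, h3, h3] at this
  have tr : ∀ (g : GL (Fin 3) F) (v : Fin 3 → F) (a : F),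
      (g : Matrix (Fin 3) (Fin 3) F) = Cfsg.unitaryTransvection 3 κ.p v a →
      ((E g : GL (Fin n) F) : Matrix (Fin n) (Fin n) F) =
        Cfsg.unitaryTransvection n κ.p (∑ i, v i • w i) a := by
    intro g v a hg
    refine Matrix.ext_of_mulVec_single fun k => ?_
    set x : Fin n → F := Pi.single k 1
    rw [← app_apply, hE, emb_apply, transvection_mulVec]
    congr 1
    have e : ∀ i, ∑ j, ((g : Matrix (Fin 3) (Fin 3) F) - 1) i j * c j x =
        a * hq κ.p x (∑ l, v l • w l) * v i := fun i => by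
      rw [hg]
      simp only [Cfsg.unitaryTransvection, add_sub_cancel_left, Matrix.smul_apply, Matrix.vecMulVec_apply,
        smul_eq_mul]
      rw [H.sum_right κ.card]
      simp only [H.smul_right, Finset.mul_sum, Finset.sum_mul]
      refine Finset.sum_congr rfl fun j _ => ?_
      show a * (v i * v j ^ κ.p) * hq κ.p x (w j) = _
      ring
    simp only [e, mul_smul, ← Finset.smul_sum]
    rfl
  have cen : ∀ v : Fin 3 → F, (∑ i, v i • w i) ∈ centres κ.p A → v ∈ centres κ.p B := by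
    refine fun v hv => ⟨?_, fun g a ha hg => hv.2 _ a ha (tr g v a hg)⟩
    rw [← h3]; exact hv.1
  set M := B ⊓ suGL 3 F κ.p with hM
  have cenM : ∀ v, v ∈ centres κ.p B → v ∈ centres κ.p M := fun v hv =>
    ⟨hv.1, fun g a ha hg => ⟨hv.2 g a ha hg, tvm_mem_su κ hv.1 ha hg⟩⟩
  obtain ⟨d, hdA, hd⟩ := hd
  let D : GL (Fin 3) F := GeneralLinearGroup.mkOfDetNeZero (Matrix.diagonal ![κ.ω, κ.ω ^ 2, 1])
    (by simp [Matrix.det_diagonal, Fin.prod_univ_three, κ.ω_ne])
  have hDv : ∀ y, app D y = ![κ.ω * y 0, κ.ω ^ 2 * y 1, y 2] := fun y => by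
    funext i; fin_cases i <;> simp [D, app_apply, Matrix.mulVec_diagonal]
  have hDM : D ∈ M := by
    have hDB : D ∈ B := by
      show E D ∈ A
      have : E D = d := gl_ext fun x => by
        rw [hd, hE, emb_apply]
        simp [D, Fin.sum_univ_three, c, Matrix.one_apply, Matrix.diagonal]
        abel
      exact this ▸ hdA
    refine ⟨hDB, mem_IGrp_iff_GU.1 (hBI hDB), Transvect.mem_sl_iff.2 ?_⟩
    simp [D, Matrix.det_diagonal, Fin.prod_univ_three]
    linear_combination κ.cube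
  obtain ⟨δ, hδ0, hδ⟩ := exists_skew κ.card
  have hnf : SU3Max.NoFix M := by
    intro x hx
    by_contra! hall
    obtain ⟨l, hl⟩ := Function.ne_iff.1 hx
    obtain ⟨a, ha⟩ := Submodule.mem_span_singleton.1 (hall D hDM)
    rw [hDv] at ha
    have only : ∀ j, j ≠ l → x j = 0 := by
      intro j hj
      by_contra hxj
      have h0 := congrFun ha 0; have h1 := congrFun ha 1; have h2 := congrFun ha 2
      simp at h0 h1 h2
      have := κ.ω_ne_one; have := κ.sq_ne_one; have := κ.ω_ne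
      fin_cases l <;> fin_cases j <;> first | exact absurd rfl hj | (simp at hl hxj; grind)
    obtain ⟨v, hv, hvl, j, hjl, hvj⟩ := hmv l
    have hvM := cenM v (cen v hv)
    set T := glTransvection κ.card v hvM.1 δ (by rw [hδ, add_neg_cancel])
    obtain ⟨b, hb⟩ := Submodule.mem_span_singleton.1 (hall T (hvM.2 T δ (by rw [hδ, add_neg_cancel]) rfl))
    have hj := congrFun hb j
    rw [app_tvm (p := κ.p) (v := v) (c := δ) (rfl : (T : Matrix (Fin 3) (Fin 3) F) = _)] at hj
    have hh : Cfsg.hermForm 3 F κ.p x v = x l * v l ^ κ.p := by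
      show ∑ i, x i * v i ^ κ.p = _
      rw [Finset.sum_eq_single l (fun i _ hi => by rw [only i hi, zero_mul]) (by simp)]
    simp [only j hjl, hh] at hj
    rcases hj with (h | h | h) | h
    exacts [hδ0 h, hl h, hvl h.1, hvj h]
  obtain ⟨v, hv, hvl, -⟩ := hmv 0
  have hsu := SU3Max.le_of_centre κ.card (by have := κ.five; omega) inf_le_right hnf
    (fun e : v = 0 => hvl (by simp [e])) (cenM v (cen v hv))
  intro y hy
  refine ⟨by rw [← hq_eq_hermForm, h3, hy], fun g a ha hg => ?_⟩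
  set t := glTransvection κ.card y hy a ha
  have htM := hsu (tvm_mem_su κ (g := t) hy ha rfl)
  have : g = E t := Units.ext (by rw [hg, tr t y a rfl])
  exact this ▸ htM.1

/-- In dimension three. -/
theorem su3_le {A : Subgroup (GL (Fin 3) F)} (hA : A ≤ IGrp κ.p)
    (hd : ∃ d ∈ A, ∀ x : Fin 3 → F, app d x = ![κ.ω * x 0, κ.ω ^ 2 * x 1, x 2])
    (hQ : ∃ Q ∈ A, ∃ s : F, s ≠ 0 ∧ ∀ i j : Fin 3,
      (Q : Matrix (Fin 3) (Fin 3) F) i j = s * κ.ω ^ ((i : ℕ) * j))
    {v : Fin 3 → F} (hv0 : v ≠ 0) (hv : v ∈ centres κ.p A) : suGL 3 F κ.p ≤ A := by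
  classical
  have hw : ∀ i j : Fin 3, hq κ.p (Pi.single i 1 : Fin 3 → F) (Pi.single j 1) = if i = j then 1 else 0 :=
    fun i j => by rw [hq_single]; simp [Pi.single_apply, eq_comm]
  obtain ⟨u, hu, hua⟩ : ∃ u ∈ centres κ.p A, ∀ i, u i ≠ 0 := by
    by_cases h : ∀ i, v i ≠ 0
    · exact ⟨v, hv, h⟩
    push Not at h
    obtain ⟨i, hi⟩ := h
    obtain ⟨Q, hQA, s, hs, hQv⟩ := hQ
    refine ⟨app Q v, centres_conjI hQA (hA hQA) hv, fun r e => ?_⟩
    have hiso : v 0 * v 0 ^ κ.p + v 1 * v 1 ^ κ.p + v 2 * v 2 ^ κ.p = 0 := by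
      have := hv.1; simpa [Cfsg.hermForm, Fin.sum_univ_three] using this
    rw [app_apply] at e
    simp [Matrix.mulVec, dotProduct, Fin.sum_univ_three, hQv] at e
    have e' : s * (v 0 + κ.ω ^ (r : ℕ) * v 1 + κ.ω ^ ((r : ℕ) * 2) * v 2) = 0 := by linear_combination e
    replace e' := (mul_eq_zero.1 e').resolve_left hs
    have key : ∀ (a b m : F), a = -(m * b) → m * m ^ κ.p = 1 → a * a ^ κ.p + b * b ^ κ.p = 0 → b = 0 := by
      intro a b m hab hm h0
      rw [hab, neg_pow_q κ.card, mul_pow] at h0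
      have : (2 : F) * (b * b ^ κ.p) = 0 := by linear_combination h0 - (b * b ^ κ.p) * hm
      rcases mul_eq_zero.1 ((mul_eq_zero.1 this).resolve_left κ.two) with e | e
      exacts [e, (pow_eq_zero_iff κ.p0).1 e]
    have hm : ∀ k : ℕ, κ.ω ^ k * (κ.ω ^ k) ^ κ.p = 1 := fun k => by
      rw [← pow_mul, mul_comm k, pow_mul, κ.conj, ← pow_mul, ← pow_add, show k + 2 * k = 3 * k by ring,
        pow_mul, κ.cube, one_pow]
    have z : ∀ x : F, x = 0 → x * x ^ κ.p = 0 := fun x hx => by rw [hx, zero_mul]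
    apply hv0
    have h3z : v 0 = 0 ∧ v 1 = 0 ∧ v 2 = 0 := by
      fin_cases i <;> simp at hi
      · have h1 := z _ hi
        have b2 : v 2 = 0 := key (v 1) (v 2) (κ.ω ^ (r : ℕ)) (by
          refine mul_left_cancel₀ (pow_ne_zero (r : ℕ) κ.ω_ne) ?_
          rw [hi, zero_add] at e'
          rw [pow_mul] at e'
          linear_combination e') (hm _) (by linear_combination hiso - h1)
        refine ⟨hi, ?_, b2⟩
        rw [hi, b2] at e'
        simpa [κ.ω_ne] using e'
      · have h1 := z _ hi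
        have b2 : v 2 = 0 := key (v 0) (v 2) (κ.ω ^ ((r : ℕ) * 2)) (by
          rw [hi] at e'; linear_combination e') (hm _) (by linear_combination hiso - h1)
        refine ⟨?_, hi, b2⟩
        rw [hi, b2] at e'
        simpa using e'
      · have h1 := z _ hi
        have b1 : v 1 = 0 := key (v 0) (v 1) (κ.ω ^ (r : ℕ)) (by
          rw [hi] at e'; linear_combination e') (hm _) (by linear_combination hiso - h1)
        refine ⟨?_, b1, hi⟩
        rw [hi, b1] at e'
        simpa using e'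
    funext j; fin_cases j <;> [exact h3z.1; exact h3z.2.1; exact h3z.2.2]
  obtain ⟨d, hdA, hd⟩ := hd
  have hsum : ∀ y : Fin 3 → F, ∑ i, y i • (Pi.single i 1 : Fin 3 → F) = y := fun y =>
    (pi_eq_sum_univ' y).symm
  have all := frame_su κ hA hw ⟨d, hdA, fun x => by
      rw [hd, hq_single, hq_single]
      funext k; fin_cases k <;> simp <;> ring⟩
    (fun l => ⟨u, by rw [hsum]; exact hu, hua l, by
      obtain ⟨j, hj⟩ := exists_ne l; exact ⟨j, hj, hua j⟩⟩)
  exact le_of_centres κ.card (Or.inr (Or.inl ⟨rfl, by have := κ.five; omega⟩))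
    fun y hy => by have := all y hy; rwa [hsum] at this

end Cfsg.Agent.C6NineOdd
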