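/-
The standard group of type 3^(1+4) on F^(Fin 3 × Fin 3) and elements normalising it.
Main results: `kr`, `dgl`, `R9`, `Base`, `Ovr`, `base_le_norm`.
-/
import Cfsg.Agent.Lib.C6NineOdd.Spread
import Cfsg.Agent.Lib.C6NineOdd.Four
import Cfsg.Prelude.Def_GeometricClasses

set_option autoImplicit false
set_option linter.unusedSectionVars false

namespace Cfsg.Agent.C6NineOdd

open Matrix Cfsg.Agent.Transvect
open scoped Matrix Kronecker

variable {F : Type*} [Field F] [Fintype F]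

/-- The index set of the nine-dimensional space. -/
abbrev I9 : Type := Fin 3 × Fin 3

/-- The Kronecker product of two invertible matrices. -/
def kr (A B : GL (Fin 3) F) : GL I9 F where
  val := (A : Matrix (Fin 3) (Fin 3) F) ⊗ₖ (B : Matrix (Fin 3) (Fin 3) F)
  inv := ((A⁻¹ : GL (Fin 3) F) : Matrix (Fin 3) (Fin 3) F) ⊗ₖ ((B⁻¹ : GL (Fin 3) F) : Matrix (Fin 3) (Fin 3) F)
  val_inv := by
    rw [← Matrix.mul_kronecker_mul, ← Units.val_mul, ← Units.val_mul]
    simp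
  inv_val := by
    rw [← Matrix.mul_kronecker_mul, ← Units.val_mul, ← Units.val_mul]
    simp

theorem kr_val (A B : GL (Fin 3) F) (p q : I9) :
    (kr A B : Matrix I9 I9 F) p q = A p.1 q.1 * B p.2 q.2 := rfl

theorem kr_mul (A B C D : GL (Fin 3) F) : kr A B * kr C D = kr (A * C) (B * D) :=
  Units.ext (Matrix.mul_kronecker_mul _ _ _ _).symm

theorem kr_one : kr (1 : GL (Fin 3) F) 1 = 1 := Units.ext (Matrix.one_kronecker_one)

/-- The left factor. -/
def krL : GL (Fin 3) F →* GL I9 F where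
  toFun A := kr A 1
  map_one' := kr_one
  map_mul' A B := by rw [kr_mul, one_mul]

/-- The right factor. -/
def krR : GL (Fin 3) F →* GL I9 F where
  toFun B := kr 1 B
  map_one' := kr_one
  map_mul' A B := by rw [kr_mul, one_mul]

theorem kr_eq (A B : GL (Fin 3) F) : kr A B = krL A * krR B := by
  show _ = kr A 1 * kr 1 B
  rw [kr_mul, mul_one, one_mul]

theorem krL_commute (A B : GL (Fin 3) F) : krL A * krR B = krR B * krL A := by
  show kr A 1 * kr 1 B = kr 1 B * kr A 1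
  rw [kr_mul, kr_mul, mul_one, one_mul, mul_one, one_mul]

/-- A diagonal invertible matrix. -/
def dgl {n : Type} [Fintype n] [DecidableEq n] (d : n → Fˣ) : GL n F where
  val := Matrix.diagonal fun i => (d i : F)
  inv := Matrix.diagonal fun i => ((d i)⁻¹ : Fˣ)
  val_inv := by rw [Matrix.diagonal_mul_diagonal]; simp
  inv_val := by rw [Matrix.diagonal_mul_diagonal]; simp

theorem dgl_mul {n : Type} [Fintype n] [DecidableEq n] (d e : n → Fˣ) :
    dgl d * dgl e = dgl (d * e) := Units.ext (by simp [dgl, Matrix.diagonal_mul_diagonal])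

theorem dgl_one {n : Type} [Fintype n] [DecidableEq n] : dgl (1 : n → Fˣ) = 1 :=
  Units.ext (by simp [dgl])

theorem dgl_inv {n : Type} [Fintype n] [DecidableEq n] (d : n → Fˣ) : (dgl d)⁻¹ = dgl d⁻¹ :=
  inv_eq_of_mul_eq_one_right (by rw [dgl_mul, mul_inv_cancel, dgl_one])

theorem app_dgl {n : Type} [Fintype n] [DecidableEq n] (d : n → Fˣ) (x : n → F) (i : n) :
    app (dgl d) x i = d i * x i := by
  rw [app_apply]
  exact Matrix.mulVec_diagonal _ _ _

variable (κ : Fld F)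

/-- ω as a unit. -/
def Fld.w : Fˣ := Units.mk0 κ.ω κ.ω_ne

theorem Fld.w_val : (κ.w : F) = κ.ω := rfl

theorem Fld.w_cube : κ.w ^ 3 = 1 := Units.ext (by simp [Fld.w_val, κ.cube])

/-- The cyclic shift. -/
def gX : GL (Fin 3) F where
  val := Matrix.of fun i j => if i = j + 1 then 1 else 0
  inv := Matrix.of fun i j => if j = i + 1 then 1 else 0
  val_inv := by ext i j; fin_cases i <;> fin_cases j <;> simp [Matrix.mul_apply, Fin.sum_univ_three]
  inv_val := by ext i j; fin_cases i <;> fin_cases j <;> simp [Matrix.mul_apply, Fin.sum_univ_three]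

/-- The clock. -/
def gZ : GL (Fin 3) F := dgl fun i => κ.w ^ (i : ℕ)

/-- The homology at the k-th coordinate. -/
def gh (k : Fin 3) : GL (Fin 3) F := dgl fun i => if i = k then κ.w else 1

/-- The discrete Fourier transform, of determinant one. -/
def gq : GL (Fin 3) F where
  val := (κ.ω - κ.ω ^ 2)⁻¹ • Matrix.of fun i j : Fin 3 => κ.ω ^ ((i : ℕ) * j)
  inv := (κ.ω ^ 2 - κ.ω)⁻¹ • Matrix.of fun i j : Fin 3 => κ.ω ^ (2 * ((i : ℕ) * j))
  val_inv := by
    have h1 : κ.ω - κ.ω ^ 2 ≠ 0 := by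
      rw [show κ.ω - κ.ω ^ 2 = κ.ω * (1 - κ.ω) by ring]
      exact mul_ne_zero κ.ω_ne (sub_ne_zero.2 κ.ω_ne_one.symm)
    have h2 : κ.ω ^ 2 - κ.ω ≠ 0 := fun e => h1 (by linear_combination -e)
    have hω := κ.cube
    have rel := κ.rel
    ext i j
    fin_cases i <;> fin_cases j <;> simp [Matrix.mul_apply, Fin.sum_univ_three] <;> field_simp <;> grind
  inv_val := by
    have h1 : κ.ω - κ.ω ^ 2 ≠ 0 := by
      rw [show κ.ω - κ.ω ^ 2 = κ.ω * (1 - κ.ω) by ring]
      exact mul_ne_zero κ.ω_ne (sub_ne_zero.2 κ.ω_ne_one.symm)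
    have h2 : κ.ω ^ 2 - κ.ω ≠ 0 := fun e => h1 (by linear_combination -e)
    have hω := κ.cube
    have rel := κ.rel
    ext i j
    fin_cases i <;> fin_cases j <;> simp [Matrix.mul_apply, Fin.sum_univ_three] <;> field_simp <;> grind

/-- ω on the line i + k = 0. -/
def gD1 : GL I9 F := dgl fun p => if p.1 + p.2 = 0 then κ.w else 1

/-- ω on the line i = k. -/
def gD2 : GL I9 F := dgl fun p => if p.1 = p.2 then κ.w else 1

/-- The group of type 3^(1+4). -/
def R9 : Subgroup (GL I9 F) :=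
  Subgroup.closure {kr gX 1, kr (gZ κ) 1, kr 1 gX, kr 1 (gZ κ)}

/-- Elements known to normalise `R9`. -/
def baseSet : Set (GL I9 F) :=
  Set.range (fun k => kr (gh κ k) 1) ∪ Set.range (fun k => kr 1 (gh κ k)) ∪
    {kr (gq κ) 1, kr 1 (gq κ), gD1 κ, gD2 κ}

/-- The group generated by the known normalising elements and the unitary scalars. -/
def Base : Subgroup (GL I9 F) :=
  Subgroup.closure (baseSet κ) ⊔ (Cfsg.Geo.scalars I9 F ⊓ IGrp κ.p)

/-- A group of isometries without transvections containing the known normalising elements. -/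
structure Ovr (H : Subgroup (GL I9 F)) : Prop where
  base : Base κ ≤ H
  noTv : NoTv κ H

section identities

theorem gh_Z (k : Fin 3) : gh κ k * gZ κ * (gh κ k)⁻¹ = gZ κ := by
  rw [gh, gZ, dgl_inv, dgl_mul, dgl_mul, mul_right_comm, mul_inv_cancel, one_mul]

theorem gh_X (k : Fin 3) :
    ∃ n : ℕ, (gh κ k * gX * (gh κ k)⁻¹ : GL (Fin 3) F) = gX * gZ κ * dgl (fun _ => κ.w ^ n) := by
  refine ⟨(2 + 2 * (k : ℕ)) % 3, ?_⟩
  have hω := κ.cube
  apply Units.ext
  rw [gh, gZ, dgl_inv]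
  ext i j
  fin_cases k <;> fin_cases i <;> fin_cases j <;>
    simp [gX, dgl, Matrix.mul_apply, Fin.sum_univ_three, Fld.w_val, κ.inv] <;> grind

theorem gq_Z : gq κ * gZ κ = gX⁻¹ * gq κ := by
  apply Units.ext
  have hω := κ.cube
  rw [gZ]
  ext i j
  fin_cases i <;> fin_cases j <;>
    simp [gX, gq, dgl, Matrix.mul_apply, Fin.sum_univ_three, Fld.w_val] <;> grind

theorem gq_X : gq κ * gX = gZ κ * gq κ := by
  apply Units.ext
  have hω := κ.cube
  rw [gZ]
  ext i j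
  fin_cases i <;> fin_cases j <;>
    simp [gX, gq, dgl, Matrix.mul_apply, Fin.sum_univ_three, Fld.w_val] <;> grind

theorem gh_Z_prod : gh κ 1 * gh κ 2 * gh κ 2 = gZ κ := by
  simp only [gh, gZ, dgl_mul]
  congr 1
  funext i
  fin_cases i <;> simp [pow_two]

theorem gXZ_comm : gX * gZ κ = gZ κ * gX * dgl (fun _ => κ.w ^ 2) := by
  apply Units.ext
  have hω := κ.cube
  rw [gZ]
  ext i j
  fin_cases i <;> fin_cases j <;>
    simp [gX, dgl, Matrix.mul_apply, Fin.sum_univ_three, Fld.w_val] <;> grind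

theorem krL_wdgl (n : ℕ) : kr (dgl fun _ : Fin 3 => κ.w ^ n) 1 = dgl fun _ : I9 => κ.w ^ n := by
  apply Units.ext
  ext p q
  rw [kr_val]
  obtain ⟨i, k⟩ := p
  obtain ⟨j, l⟩ := q
  simp only [dgl, Units.val_one, Matrix.diagonal_apply, Matrix.one_apply, Prod.mk.injEq]
  by_cases hi : i = j <;> by_cases hk : k = l <;> simp [hi, hk]

theorem krR_wdgl (n : ℕ) : kr 1 (dgl fun _ : Fin 3 => κ.w ^ n) = dgl fun _ : I9 => κ.w ^ n := by
  apply Units.ext
  ext p q
  rw [kr_val]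
  obtain ⟨i, k⟩ := p
  obtain ⟨j, l⟩ := q
  simp only [dgl, Units.val_one, Matrix.diagonal_apply, Matrix.one_apply, Prod.mk.injEq]
  by_cases hi : i = j <;> by_cases hk : k = l <;> simp [hi, hk]

theorem mem_R9_gens : kr (gX : GL (Fin 3) F) 1 ∈ R9 κ ∧ kr (gZ κ) 1 ∈ R9 κ ∧ kr 1 gX ∈ R9 κ ∧
    kr 1 (gZ κ) ∈ R9 κ :=
  ⟨Subgroup.subset_closure (by simp), Subgroup.subset_closure (by simp),
    Subgroup.subset_closure (by simp), Subgroup.subset_closure (by simp)⟩

theorem wdgl_mem (n : ℕ) : (dgl fun _ : I9 => κ.w ^ n) ∈ R9 κ := by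
  obtain ⟨hX, hZ, -, -⟩ := mem_R9_gens κ
  have h2 : (dgl fun _ : I9 => κ.w ^ 2) ∈ R9 κ := by
    rw [← krL_wdgl, show (dgl fun _ : Fin 3 => κ.w ^ 2) = (gZ κ * gX)⁻¹ * (gX * gZ κ) by
      rw [gXZ_comm]; group]
    show krL _ ∈ _
    rw [map_mul, map_inv, map_mul, map_mul]
    exact mul_mem (inv_mem (mul_mem hZ hX)) (mul_mem hX hZ)
  have := pow_mem h2 (2 * n)
  have e : ∀ m : ℕ, (dgl fun _ : I9 => κ.w ^ 2) ^ m = dgl fun _ : I9 => κ.w ^ (2 * m) := by
    intro m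
    induction m with
    | zero => simp [← dgl_one]; rfl
    | succ m ih =>
      rw [pow_succ, ih, dgl_mul]
      congr 1
      funext i
      simp only [Pi.mul_apply, ← pow_add]
      ring_nf
  rw [e, show 2 * (2 * n) = 3 * n + n by ring] at this
  simpa [pow_add, pow_mul, κ.w_cube] using this

end identities

/-- To normalise a finite group it suffices to map the generators into it. -/
theorem mem_normalizer_of_gens {g : GL I9 F}
    (h : ∀ x ∈ ({kr gX 1, kr (gZ κ) 1, kr 1 gX, kr 1 (gZ κ)} : Set (GL I9 F)), g * x * g⁻¹ ∈ R9 κ) :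
    g ∈ Cfsg.Geo.subgroupNormalizer (R9 κ) := by
  haveI : Finite (GL I9 F) := inferInstance
  have hle : (R9 κ).map (MulAut.conj g).toMonoidHom ≤ R9 κ := by
    rw [Subgroup.map_le_iff_le_comap, R9, Subgroup.closure_le]
    exact fun x hx => h x hx
  have heq : (R9 κ).map (MulAut.conj g).toMonoidHom = R9 κ :=
    Subgroup.eq_of_le_of_card_ge hle
      (Nat.card_congr ((R9 κ).equivMapOfInjective _ (MulAut.conj g).injective).toEquiv).le
  rw [Cfsg.Geo.subgroupNormalizer, Subgroup.mem_normalizer_iff]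
  intro x
  constructor
  · intro hx
    exact hle ⟨x, hx, rfl⟩
  · intro hx
    have hx' : g * x * g⁻¹ ∈ (R9 κ).map (MulAut.conj g).toMonoidHom := by rw [heq]; exact hx
    obtain ⟨y, hy, he⟩ := hx'
    simp only [MulEquiv.coe_toMonoidHom, MulAut.conj_apply, mul_left_inj, mul_right_inj] at he
    exact he ▸ hy

theorem krL_conj_mem {A : GL (Fin 3) F} (hX : krL (A * gX * A⁻¹) ∈ R9 κ)
    (hZ : krL (A * gZ κ * A⁻¹) ∈ R9 κ) : kr A 1 ∈ Cfsg.Geo.subgroupNormalizer (R9 κ) := by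
  refine mem_normalizer_of_gens κ ?_
  obtain ⟨-, -, h3, h4⟩ := mem_R9_gens κ
  simp only [Set.mem_insert_iff, Set.mem_singleton_iff]
  rintro x (rfl | rfl | rfl | rfl)
  · show krL A * krL gX * (krL A)⁻¹ ∈ _
    rwa [← map_inv, ← map_mul, ← map_mul]
  · show krL A * krL (gZ κ) * (krL A)⁻¹ ∈ _
    rwa [← map_inv, ← map_mul, ← map_mul]
  · show krL A * krR gX * (krL A)⁻¹ ∈ _
    rw [krL_commute, mul_inv_cancel_right]; exact h3
  · show krL A * krR (gZ κ) * (krL A)⁻¹ ∈ _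
    rw [krL_commute, mul_inv_cancel_right]; exact h4

theorem krR_conj_mem {A : GL (Fin 3) F} (hX : krR (A * gX * A⁻¹) ∈ R9 κ)
    (hZ : krR (A * gZ κ * A⁻¹) ∈ R9 κ) : kr 1 A ∈ Cfsg.Geo.subgroupNormalizer (R9 κ) := by
  refine mem_normalizer_of_gens κ ?_
  obtain ⟨h1, h2, -, -⟩ := mem_R9_gens κ
  simp only [Set.mem_insert_iff, Set.mem_singleton_iff]
  rintro x (rfl | rfl | rfl | rfl)
  · show krR A * krL gX * (krR A)⁻¹ ∈ _
    rw [← krL_commute, mul_inv_cancel_right]; exact h1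
  · show krR A * krL (gZ κ) * (krR A)⁻¹ ∈ _
    rw [← krL_commute, mul_inv_cancel_right]; exact h2
  · show krR A * krR gX * (krR A)⁻¹ ∈ _
    rwa [← map_inv, ← map_mul, ← map_mul]
  · show krR A * krR (gZ κ) * (krR A)⁻¹ ∈ _
    rwa [← map_inv, ← map_mul, ← map_mul]

theorem diag_conj_kr (d : I9 → Fˣ) (A B : GL (Fin 3) F) (C D : GL (Fin 3) F)
    (h : ∀ p q : I9, (d p : F) * (A p.1 q.1 * B p.2 q.2) = C p.1 q.1 * D p.2 q.2 * d q) :
    dgl d * kr A B * (dgl d)⁻¹ = kr C D := by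
  rw [mul_inv_eq_iff_eq_mul]
  apply Units.ext
  ext p q
  simp only [Units.val_mul]
  show (Matrix.diagonal (fun i => (d i : F)) * (kr A B : Matrix I9 I9 F)) p q =
    ((kr C D : Matrix I9 I9 F) * Matrix.diagonal (fun i => (d i : F))) p q
  rw [Matrix.diagonal_mul, Matrix.mul_diagonal, kr_val, kr_val, h]

theorem gD1_norm : gD1 κ ∈ Cfsg.Geo.subgroupNormalizer (R9 κ) := by
  obtain ⟨hX, hZ, hX', hZ'⟩ := mem_R9_gens κ
  have hω := κ.cube
  have e1 : gD1 κ * kr gX 1 * (gD1 κ)⁻¹ = kr (gX * gZ κ * dgl fun _ => κ.w ^ 2) (gZ κ) :=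
    diag_conj_kr _ _ _ _ _ (by
      rintro ⟨i, k⟩ ⟨j, l⟩
      fin_cases i <;> fin_cases k <;> fin_cases j <;> fin_cases l <;>
        simp [gX, gZ, dgl, Matrix.mul_apply, Fin.sum_univ_three, Fld.w_val] <;> grind)
  have e2 : gD1 κ * kr 1 gX * (gD1 κ)⁻¹ = kr (gZ κ) (gX * gZ κ * dgl fun _ => κ.w ^ 2) :=
    diag_conj_kr _ _ _ _ _ (by
      rintro ⟨i, k⟩ ⟨j, l⟩
      fin_cases i <;> fin_cases k <;> fin_cases j <;> fin_cases l <;>
        simp [gX, gZ, dgl, Matrix.mul_apply, Fin.sum_univ_three, Fld.w_val] <;> grind)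
  refine mem_normalizer_of_gens κ ?_
  simp only [Set.mem_insert_iff, Set.mem_singleton_iff]
  rintro x (rfl | rfl | rfl | rfl)
  · rw [e1, kr_eq, map_mul, map_mul]
    exact mul_mem (mul_mem (mul_mem hX hZ) (show krL _ ∈ _ by
      show kr _ 1 ∈ _; rw [krL_wdgl]; exact wdgl_mem κ 2)) hZ'
  · rw [gD1, gZ, show kr (dgl fun i : Fin 3 => κ.w ^ (i : ℕ)) (1 : GL (Fin 3) F) = kr (gZ κ) 1 from rfl,
      diag_conj_kr _ _ _ (gZ κ) 1 (by
        rintro ⟨i, k⟩ ⟨j, l⟩
        simp only [gZ, dgl, Units.val_one, Matrix.diagonal_apply, Matrix.one_apply]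
        by_cases hi : i = j <;> by_cases hk : k = l <;> simp [hi, hk, mul_comm])]
    exact hZ
  · rw [e2, kr_eq, map_mul, map_mul]
    exact mul_mem hZ (mul_mem (mul_mem hX' hZ') (show krR _ ∈ _ by
      show kr 1 _ ∈ _; rw [krR_wdgl]; exact wdgl_mem κ 2))
  · rw [gD1, diag_conj_kr _ _ _ (1 : GL (Fin 3) F) (gZ κ) (by
        rintro ⟨i, k⟩ ⟨j, l⟩
        simp only [gZ, dgl, Units.val_one, Matrix.diagonal_apply, Matrix.one_apply]
        by_cases hi : i = j <;> by_cases hk : k = l <;> simp [hi, hk, mul_comm])]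
    exact hZ'

theorem gD2_norm : gD2 κ ∈ Cfsg.Geo.subgroupNormalizer (R9 κ) := by
  obtain ⟨hX, hZ, hX', hZ'⟩ := mem_R9_gens κ
  have hω := κ.cube
  have e1 : gD2 κ * kr gX 1 * (gD2 κ)⁻¹ = kr (gX * gZ κ * dgl fun _ => κ.w ^ 2) (gZ κ * gZ κ) :=
    diag_conj_kr _ _ _ _ _ (by
      rintro ⟨i, k⟩ ⟨j, l⟩
      fin_cases i <;> fin_cases k <;> fin_cases j <;> fin_cases l <;>
        simp [gX, gZ, dgl, Matrix.mul_apply, Fin.sum_univ_three, Fld.w_val] <;> grind)
  have e2 : gD2 κ * kr 1 gX * (gD2 κ)⁻¹ = kr (gZ κ * gZ κ) (gX * gZ κ * dgl fun _ => κ.w ^ 2) :=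
    diag_conj_kr _ _ _ _ _ (by
      rintro ⟨i, k⟩ ⟨j, l⟩
      fin_cases i <;> fin_cases k <;> fin_cases j <;> fin_cases l <;>
        simp [gX, gZ, dgl, Matrix.mul_apply, Fin.sum_univ_three, Fld.w_val] <;> grind)
  refine mem_normalizer_of_gens κ ?_
  simp only [Set.mem_insert_iff, Set.mem_singleton_iff]
  rintro x (rfl | rfl | rfl | rfl)
  · rw [e1, kr_eq, map_mul, map_mul, map_mul]
    exact mul_mem (mul_mem (mul_mem hX hZ) (show krL _ ∈ _ by
      show kr _ 1 ∈ _; rw [krL_wdgl]; exact wdgl_mem κ 2)) (mul_mem hZ' hZ')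
  · rw [gD2, diag_conj_kr _ _ _ (gZ κ) (1 : GL (Fin 3) F) (by
        rintro ⟨i, k⟩ ⟨j, l⟩
        simp only [gZ, dgl, Units.val_one, Matrix.diagonal_apply, Matrix.one_apply]
        by_cases hi : i = j <;> by_cases hk : k = l <;> simp [hi, hk, mul_comm])]
    exact hZ
  · rw [e2, kr_eq, map_mul, map_mul, map_mul]
    exact mul_mem (mul_mem hZ hZ) (mul_mem (mul_mem hX' hZ') (show krR _ ∈ _ by
      show kr 1 _ ∈ _; rw [krR_wdgl]; exact wdgl_mem κ 2))
  · rw [gD2, diag_conj_kr _ _ _ (1 : GL (Fin 3) F) (gZ κ) (by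
        rintro ⟨i, k⟩ ⟨j, l⟩
        simp only [gZ, dgl, Units.val_one, Matrix.diagonal_apply, Matrix.one_apply]
        by_cases hi : i = j <;> by_cases hk : k = l <;> simp [hi, hk, mul_comm])]
    exact hZ'

theorem scal_norm {R : Subgroup (GL I9 F)} :
    Cfsg.Geo.scalars I9 F ≤ Cfsg.Geo.subgroupNormalizer R := by
  intro g hg
  obtain ⟨c, hc⟩ := (Cfsg.Geo.mem_scalars_iff g).1 hg
  rw [Cfsg.Geo.subgroupNormalizer, Subgroup.mem_normalizer_iff]
  intro x
  have : g * x = x * g := Units.ext (by simp [Units.val_mul, hc])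
  rw [this, mul_inv_cancel_right]

theorem base_le_norm : Base κ ≤ Cfsg.Geo.subgroupNormalizer (R9 κ) := by
  obtain ⟨hX, hZ, hX', hZ'⟩ := mem_R9_gens κ
  refine sup_le ((Subgroup.closure_le _).2 ?_) (inf_le_left.trans scal_norm)
  simp only [baseSet, Set.union_subset_iff, Set.range_subset_iff, Set.insert_subset_iff,
    Set.singleton_subset_iff, SetLike.mem_coe]
  refine ⟨⟨fun k => ?_, fun k => ?_⟩, ?_, ?_, gD1_norm κ, gD2_norm κ⟩
  · obtain ⟨n, hn⟩ := gh_X κ k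
    refine krL_conj_mem κ ?_ (by rw [gh_Z]; exact hZ)
    rw [hn, map_mul, map_mul]
    exact mul_mem (mul_mem hX hZ) (by show kr _ 1 ∈ _; rw [krL_wdgl]; exact wdgl_mem κ n)
  · obtain ⟨n, hn⟩ := gh_X κ k
    refine krR_conj_mem κ ?_ (by rw [gh_Z]; exact hZ')
    rw [hn, map_mul, map_mul]
    exact mul_mem (mul_mem hX' hZ') (by show kr 1 _ ∈ _; rw [krR_wdgl]; exact wdgl_mem κ n)
  · refine krL_conj_mem κ ?_ ?_
    · rw [gq_X, mul_inv_cancel_right]; exact hZ
    · rw [gq_Z, mul_inv_cancel_right, map_inv]; exact inv_mem hX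
  · refine krR_conj_mem κ ?_ ?_
    · rw [gq_X, mul_inv_cancel_right]; exact hZ'
    · rw [gq_Z, mul_inv_cancel_right, map_inv]; exact inv_mem hX'

theorem base_gens : (∀ k, kr (gh κ k) 1 ∈ Base κ) ∧ (∀ k, kr 1 (gh κ k) ∈ Base κ) ∧
    kr (gq κ) 1 ∈ Base κ ∧ kr 1 (gq κ) ∈ Base κ ∧ gD1 κ ∈ Base κ ∧ gD2 κ ∈ Base κ := by
  refine ⟨fun k => ?_, fun k => ?_, ?_, ?_, ?_, ?_⟩ <;>
    exact Subgroup.mem_sup_left (Subgroup.subset_closure (by simp [baseSet]))

theorem R9_le_base : R9 κ ≤ Base κ := by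
  obtain ⟨hh, hh', hq, hq', -, -⟩ := base_gens κ
  have hX : gX = (gq κ * gZ κ * (gq κ)⁻¹)⁻¹ := by rw [gq_Z, mul_inv_cancel_right, inv_inv]
  refine (Subgroup.closure_le _).2 ?_
  simp only [Set.insert_subset_iff, Set.singleton_subset_iff, SetLike.mem_coe]
  have hZ : krL (gZ κ) ∈ Base κ := by
    rw [← gh_Z_prod, map_mul, map_mul]; exact mul_mem (mul_mem (hh 1) (hh 2)) (hh 2)
  have hZ' : krR (gZ κ) ∈ Base κ := by
    rw [← gh_Z_prod, map_mul, map_mul]; exact mul_mem (mul_mem (hh' 1) (hh' 2)) (hh' 2)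
  refine ⟨?_, hZ, ?_, hZ'⟩
  · show krL gX ∈ _
    rw [hX, map_inv, map_mul, map_mul, map_inv]
    exact inv_mem (mul_mem (mul_mem hq hZ) (inv_mem hq))
  · show krR gX ∈ _
    rw [hX, map_inv, map_mul, map_mul, map_inv]
    exact inv_mem (mul_mem (mul_mem hq' hZ') (inv_mem hq'))

theorem dgl_iso {n : Type} [Fintype n] [DecidableEq n] (e : n → ℕ) :
    IsI κ.p (dgl fun i => κ.w ^ e i) := by
  intro x y
  simp only [hq, app_dgl, Units.val_pow_eq_pow_val, Fld.w_val, mul_pow]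
  refine Finset.sum_congr rfl fun i _ => ?_
  have : κ.ω ^ e i * (κ.ω ^ e i) ^ κ.p = 1 := by
    rw [← pow_mul, mul_comm (e i), pow_mul, κ.conj, mul_comm, ← pow_mul, pow_sum]
  linear_combination (x i * y i ^ κ.p) * this

/-- Scalars of norm one are unitary. -/
theorem scalar_iso {n : Type} [Fintype n] [DecidableEq n] {g : GL n F} {c : F}
    (hg : (g : Matrix n n F) = c • 1) (hc : c * c ^ κ.p = 1) : IsI κ.p g := by
  intro x y
  have H := hq_isHerm (ι := n) κ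
  rw [app_apply, app_apply, hg, Matrix.smul_mulVec, Matrix.one_mulVec, Matrix.smul_mulVec,
    Matrix.one_mulVec, H.smul_left, H.smul_right, ← mul_assoc, hc, one_mul]

theorem gq_iso : IsI κ.p (gq κ) := by
  intro x y
  haveI := κ.charP
  haveI := κ.fact
  have hq' : ∀ z : Fin 3 → F, ∀ i, app (gq κ) z i =
      (κ.ω - κ.ω ^ 2)⁻¹ * (z 0 + κ.ω ^ (i : ℕ) * z 1 + κ.ω ^ (2 * (i : ℕ)) * z 2) := by
    intro z i
    rw [app_apply]
    simp [gq, Matrix.mulVec, dotProduct, Fin.sum_univ_three, mul_comm (i : ℕ) 2]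
    ring
  have hc : (κ.ω - κ.ω ^ 2)⁻¹ * ((κ.ω - κ.ω ^ 2)⁻¹) ^ κ.p = 3⁻¹ := by
    have e : (κ.ω - κ.ω ^ 2) ^ κ.p = κ.ω ^ 2 - κ.ω := by
      rw [sub_pow_char, ← pow_mul, mul_comm 2, pow_mul, κ.conj]
      linear_combination -κ.ω * κ.cube
    rw [_root_.inv_pow, e, ← mul_inv]
    congr 1
    linear_combination (-κ.ω ^ 2 + 3 * κ.ω - 3) * κ.rel
  simp only [hq, hq', Fin.sum_univ_three, mul_pow, add_pow_char, ← pow_mul]
  simp only [Fin.val_zero, Fin.val_one, Fin.val_two]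
  have hω := κ.cube
  have hp : ∀ k : ℕ, κ.ω ^ (k * κ.p) = (κ.ω ^ 2) ^ k := fun k => by rw [mul_comm, pow_mul, κ.conj]
  simp only [hp, _root_.inv_pow, pow_one, κ.conj, mul_zero, zero_mul, mul_one, one_mul, pow_zero]
  have h3 := κ.three
  have rel := κ.rel
  rw [_root_.inv_pow] at hc
  set u := (κ.ω - κ.ω ^ 2)⁻¹
  grind

theorem kr_iso {A B : GL (Fin 3) F} (hA : IsI κ.p A) (hB : IsI κ.p B) : IsI κ.p (kr A B) := by
  intro x y
  haveI := κ.charP
  haveI := κ.fact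
  have e : ∀ (z : I9 → F) (i k : Fin 3),
      app (kr A B) z (i, k) = app A (fun j => app B (fun l => z (j, l)) k) i := by
    intro z i k
    simp only [app_apply, Matrix.mulVec, dotProduct, Fintype.sum_prod_type, kr_val, Finset.mul_sum,
      mul_assoc]
  simp only [hq, Fintype.sum_prod_type, e]
  rw [Finset.sum_comm, Finset.sum_comm (f := fun (i : Fin 3) k => x (i, k) * y (i, k) ^ κ.p)]
  have hA' : ∀ u v : Fin 3 → F, ∑ i, app A u i * app A v i ^ κ.p = ∑ i, u i * v i ^ κ.p := hA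
  have hB' : ∀ u v : Fin 3 → F, ∑ i, app B u i * app B v i ^ κ.p = ∑ i, u i * v i ^ κ.p := hB
  simp only [hA']
  rw [Finset.sum_comm, Finset.sum_comm (f := fun (k : Fin 3) i => x (i, k) * y (i, k) ^ κ.p)]
  exact Finset.sum_congr rfl fun i _ => hB' _ _

theorem base_iso : Base κ ≤ IGrp κ.p := by
  refine sup_le ((Subgroup.closure_le _).2 ?_) inf_le_right
  have h1 : IsI κ.p (1 : GL (Fin 3) F) := (IGrp κ.p).one_mem
  simp only [baseSet, Set.union_subset_iff, Set.range_subset_iff, Set.insert_subset_iff,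
    Set.singleton_subset_iff, SetLike.mem_coe, mem_IGrp]
  have hh : ∀ k, IsI κ.p (gh κ k) := fun k => by
    have : gh κ k = dgl fun i => κ.w ^ (if i = k then 1 else 0 : ℕ) := by
      rw [gh]; congr 1; funext i; split_ifs <;> simp
    exact this ▸ dgl_iso κ _
  have hD : ∀ (P : I9 → Prop) [DecidablePred P], IsI κ.p (dgl fun p => if P p then κ.w else 1) := fun P _ => by
    have : (dgl fun p => if P p then κ.w else 1 : GL I9 F) = dgl fun p => κ.w ^ (if P p then 1 else 0 : ℕ) := by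
      congr 1; funext i; split_ifs <;> simp
    exact this ▸ dgl_iso κ _
  exact ⟨⟨fun k => kr_iso κ (hh k) h1, fun k => kr_iso κ h1 (hh k)⟩, kr_iso κ (gq_iso κ) h1,
    kr_iso κ h1 (gq_iso κ), hD _, hD _⟩

end Cfsg.Agent.C6NineOdd
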