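/-
The centraliser of 1 ⊗ Z acts on each block without transvections.
Main results: `bl`, `Ablk`, `Ablk_noTv`, `std_tri`, `Twelve`, `twelve_map`.
-/
import Cfsg.Agent.Lib.C6NineOdd.Model

set_option autoImplicit false
set_option linter.unusedSectionVars false
set_option linter.unusedSimpArgs false

namespace Cfsg.Agent.C6NineOdd

open Matrix Cfsg.Agent.Transvect
open scoped Matrix Kronecker commutatorElement

variable {F : Type*} [Field F] [Fintype F] (κ : Fld F)

/-- The standard basis vectors. -/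
def se {n : Type} [Fintype n] [DecidableEq n] (i : n) : n → F := Pi.single i 1

/-- The standard dual vectors. -/
def sf {n : Type} [Fintype n] [DecidableEq n] (i : n) : (n → F) →ₗ[F] F := LinearMap.proj i

theorem std_dual {n : Type} [Fintype n] [DecidableEq n] (i j : n) :
    (sf i : (n → F) →ₗ[F] F) (se j) = if i = j then 1 else 0 := by
  simp [sf, se, Pi.single_apply]

theorem std_vec {n : Type} [Fintype n] [DecidableEq n] (v : n → F) : v = ∑ i, sf i v • se i :=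
  pi_eq_sum_univ' v

theorem std_fun {n : Type} [Fintype n] [DecidableEq n] (φ : (n → F) →ₗ[F] F) (y : n → F) :
    φ y = ∑ i, φ (se i) * sf i y := by
  conv_lhs => rw [std_vec y, map_sum]
  exact Finset.sum_congr rfl fun i _ => by rw [map_smul, smul_eq_mul, mul_comm]

theorem gh_eq_hom (k : Fin 3) : gh κ k = hom κ.ω (se k) (sf k) := by
  refine gl_ext fun x => ?_
  rw [hom_apply (by simp [std_dual]) κ.ω_ne]
  funext i
  rw [gh, app_dgl]
  by_cases hi : i = k
  · subst hi; simp [sf, se, Fld.w_val]; ring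
  · simp [sf, se, hi]

theorem gq_conj_gh : gq κ * gh κ 0 * (gq κ)⁻¹ =
    hom κ.ω (se 0 + se 1 + se 2) ((3 : F)⁻¹ • (sf 0 + sf 1 + sf 2)) := by
  have h3 := κ.three
  have h1 : κ.ω - κ.ω ^ 2 ≠ 0 := by
    rw [show κ.ω - κ.ω ^ 2 = κ.ω * (1 - κ.ω) by ring]
    exact mul_ne_zero κ.ω_ne (sub_ne_zero.2 κ.ω_ne_one.symm)
  have hv : app (gq κ) (se 0) = (κ.ω - κ.ω ^ 2)⁻¹ • (se 0 + se 1 + se 2) := by
    rw [app_apply, se, Matrix.mulVec_single_one]
    funext i
    fin_cases i <;> simp [gq, se]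
  have hd : (sf 0 : (Fin 3 → F) →ₗ[F] F) ∘ₗ (app (gq κ)⁻¹).toLinearMap =
      (κ.ω - κ.ω ^ 2) • ((3 : F)⁻¹ • (sf 0 + sf 1 + sf 2)) := by
    refine LinearMap.ext fun y => ?_
    simp only [LinearMap.comp_apply, LinearEquiv.coe_coe, sf, LinearMap.proj_apply, app_apply,
      LinearMap.smul_apply, LinearMap.add_apply, smul_eq_mul]
    show (((κ.ω ^ 2 - κ.ω)⁻¹ • Matrix.of fun i j : Fin 3 => κ.ω ^ (2 * ((i : ℕ) * j))) *ᵥ y) 0 = _
    simp [Matrix.mulVec, dotProduct, Fin.sum_univ_three]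
    have h2 : κ.ω ^ 2 - κ.ω ≠ 0 := fun e => h1 (by linear_combination -e)
    have hω := κ.cube
    have rel := κ.rel
    field_simp
    grind
  rw [gh_eq_hom, hom_conj (by simp [std_dual]) κ.ω_ne, hv, hd]
  have := hom_smul (a := κ.ω) (u := (se 0 + se 1 + se 2 : Fin 3 → F))
    (φ := (3 : F)⁻¹ • ((sf 0 + sf 1 + sf 2 : (Fin 3 → F) →ₗ[F] F))) (by simp [std_dual]; field_simp; norm_num) κ.ω_ne
    (inv_ne_zero h1)
  rwa [inv_inv] at this

/-- The standard configuration in a group containing the frame homologies and the Fourier matrix. -/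
theorem std_tri {A : Subgroup (GL (Fin 3) F)} (hh : ∀ k, gh κ k ∈ A) (hq : gq κ ∈ A) :
    Tri κ A (se : Fin 3 → _) sf :=
  ⟨std_dual, fun k => gh_eq_hom κ k ▸ hh k,
    gq_conj_gh κ ▸ mul_mem (mul_mem hq (hh 0)) (inv_mem hq)⟩

/-- A group of isometries with the configuration and a transvection contains the special unitary group. -/
theorem std_su {A : Subgroup (GL (Fin 3) F)} (hA : A ≤ IGrp κ.p) (hh : ∀ k, gh κ k ∈ A) (hq : gq κ ∈ A)
    {v : Fin 3 → F} {φ : (Fin 3 → F) →ₗ[F] F} (h0 : φ v = 0) (hne : tv v φ ≠ 1) (hm : tv v φ ∈ A) :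
    Unitary.suGL 3 F κ.p ≤ A := by
  obtain ⟨hv0, hv⟩ := centre_of_tv κ hA h0 hm hne
  refine su3_le κ hA ⟨gh κ 0 * (gh κ 1 * gh κ 1), mul_mem (hh 0) (mul_mem (hh 1) (hh 1)), fun x => ?_⟩
    ⟨gq κ, hq, (κ.ω - κ.ω ^ 2)⁻¹, inv_ne_zero ?_, fun i j => rfl⟩ hv0 hv
  · simp only [gh, dgl_mul]
    funext i
    rw [app_dgl]
    fin_cases i <;> simp [Fld.w_val, pow_two]
  · rw [show κ.ω - κ.ω ^ 2 = κ.ω * (1 - κ.ω) by ring]
    exact mul_ne_zero κ.ω_ne (sub_ne_zero.2 κ.ω_ne_one.symm)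

/-- A transvection of the special unitary group moved by the shift. -/
theorem exists_tv3 : ∃ (v : Fin 3 → F) (φ : (Fin 3 → F) →ₗ[F] F), φ v = 0 ∧ tv v φ ≠ 1 ∧
    tv v φ ∈ Unitary.suGL 3 F κ.p ∧ ∀ z : F, ((⁅(gX : GL (Fin 3) F), tv v φ⁆ : GL (Fin 3) F) :
      Matrix (Fin 3) (Fin 3) F) ≠ z • 1 := by
  have H := hq_isHerm (ι := Fin 3) κ
  obtain ⟨ε, hε⟩ := Unitary.exists_eps κ.card
  obtain ⟨δ, hδ0, hδ⟩ := Unitary.exists_skew κ.card
  have hε0 : ε ≠ 0 := fun e => by simp [e] at hε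
  set v : Fin 3 → F := ![1, ε, 0] with hv
  have hvv : Cfsg.hermForm 3 F κ.p v v = 0 := by
    simp [Cfsg.hermForm, Fin.sum_univ_three, hv, zero_pow κ.p0, ← pow_succ', hε]
  let φ : (Fin 3 → F) →ₗ[F] F :=
    { toFun := fun x => δ * hq κ.p x v
      map_add' := fun x y => by rw [H.add_left, mul_add]
      map_smul' := fun a x => by simp [H.smul_left]; ring }
  have h0 : φ v = 0 := by show δ * hq κ.p v v = 0; rw [hq_eq_hermForm, hvv, mul_zero]
  have hval : ((tv v φ : GL (Fin 3) F) : Matrix (Fin 3) (Fin 3) F) = Cfsg.unitaryTransvection 3 κ.p v δ :=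
    Matrix.ext_of_mulVec_single fun i => by
      rw [← app_apply, tv_apply h0, Unitary.transvection_mulVec]; rfl
  refine ⟨v, φ, h0, fun e => ?_, tvm_mem_su κ hvv (by rw [hδ, add_neg_cancel]) hval, ?_⟩
  · have := congrFun ((tv_eq_one_iff h0).1 e (Pi.single 0 1)) 0
    simp [φ, hv, hδ0, hq, Fin.sum_univ_three] at this
  refine not_scalar_comm κ le_rfl ?_ hvv hδ0 hval ?_
  · intro x y
    simp [hq, gX, Matrix.mulVec, dotProduct, Fin.sum_univ_three]
    ring
  · intro a e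
    have := congrFun e 2
    simp [hv, gX, Matrix.mulVec, dotProduct, Fin.sum_univ_three, hε0] at this

/-- The shift is special unitary. -/
theorem gX_mem_su : (gX : GL (Fin 3) F) ∈ Unitary.suGL 3 F κ.p := by
  refine Subgroup.mem_inf.2 ⟨mem_IGrp_iff_GU.1 fun x y => ?_, Transvect.mem_sl_iff.2 ?_⟩
  · simp [hq, gX, Matrix.mulVec, dotProduct, Fin.sum_univ_three]
    ring
  · simp [gX, Matrix.det_fin_three]

/-- One of the twelve projections. -/
def Twelve (u : Fin 3 → F) (φ : (Fin 3 → F) →ₗ[F] F) : Prop :=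
  (∃ i, Same u φ (se i) (sf i)) ∨ ∃ s t, Same u φ (pV κ se s t) (pD κ sf s t)

/-- A group without transvections permutes the twelve points. -/
theorem twelve_map {A : Subgroup (GL (Fin 3) F)} (hA : NoTv κ A) (hh : ∀ k, gh κ k ∈ A)
    (hq : gq κ ∈ A) {g : GL (Fin 3) F} (hg : g ∈ A) {u : Fin 3 → F}
    {φ : (Fin 3 → F) →ₗ[F] F} (h1 : φ u = 1) (hm : hom κ.ω u φ ∈ A) :
    Twelve κ (app g u) (φ ∘ₗ (app g⁻¹).toLinearMap) := by
  refine hessian κ hA (std_tri κ hh hq) (std_vec _) (std_fun _) ?_ ?_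
  · simp only [LinearMap.comp_apply, LinearEquiv.coe_coe, app_inv_app, h1]
  · rw [← hom_conj h1 κ.ω_ne]; exact mul_mem (mul_mem hg hm) (inv_mem hg)

/-- The elements of H commuting with 1 ⊗ Z. -/
def CB (H : Subgroup (GL I9 F)) : Subgroup (GL I9 F) :=
  H ⊓ Subgroup.centralizer {kr 1 (gZ κ)}

theorem CB_off {H : Subgroup (GL I9 F)} {g : GL I9 F} (hg : g ∈ CB κ H) {i j k l : Fin 3}
    (hkl : k ≠ l) : (g : Matrix I9 I9 F) (i, k) (j, l) = 0 := by
  have h := congrArg Units.val (Subgroup.mem_centralizer_singleton_iff.1 hg.2)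
  have hv : (kr 1 (gZ κ) : Matrix I9 I9 F) = Matrix.diagonal fun p => κ.ω ^ (p.2 : ℕ) := by
    ext ⟨a, b⟩ ⟨c, d⟩
    rw [kr_val]
    simp only [gZ, dgl, Units.val_one, Matrix.diagonal_apply, Matrix.one_apply, Prod.mk.injEq]
    by_cases ha : a = c <;> by_cases hb : b = d <;> simp [ha, hb, Fld.w_val]
  rw [Units.val_mul, Units.val_mul, hv] at h
  have h2 := congrFun (congrFun h (i, k)) (j, l)
  rw [Matrix.diagonal_mul, Matrix.mul_diagonal] at h2
  have hne : κ.ω ^ (k : ℕ) ≠ κ.ω ^ (l : ℕ) := by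
    have h1 := κ.ω_ne_one
    have h2 := κ.sq_ne_one
    have rel := κ.rel
    fin_cases k <;> fin_cases l <;> simp at * <;> grind
  have h3 : (κ.ω ^ (k : ℕ) - κ.ω ^ (l : ℕ)) * (g : Matrix I9 I9 F) (i, k) (j, l) = 0 := by
    simp only [mul_comm] at h2
    first
    | linear_combination h2
    | linear_combination -h2
  first
  | exact (mul_eq_zero.1 h3).resolve_left (sub_ne_zero.2 hne)
  | exact (mul_eq_zero.1 h3).resolve_left (sub_ne_zero.2 hne.symm)

/-- The action on the k-th block. -/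
def bl (H : Subgroup (GL I9 F)) (k : Fin 3) : CB κ H →* GL (Fin 3) F :=
  MonoidHom.toHomUnits
    { toFun := fun g => Matrix.of fun i j => (g.1 : Matrix I9 I9 F) (i, k) (j, k)
      map_one' := by ext i j; simp [Matrix.one_apply]
      map_mul' := fun g h => by
        ext i j
        simp only [Subgroup.coe_mul, Units.val_mul, Matrix.of_apply, Matrix.mul_apply,
          Fintype.sum_prod_type]
        refine Finset.sum_congr rfl fun a _ => ?_
        rw [Finset.sum_eq_single k (fun b _ hb => by rw [CB_off κ g.2 hb.symm, zero_mul])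
          (fun h => absurd (Finset.mem_univ k) h)] }

theorem bl_val (H : Subgroup (GL I9 F)) (k : Fin 3) (g : CB κ H) (i j : Fin 3) :
    (bl κ H k g : Matrix (Fin 3) (Fin 3) F) i j = (g.1 : Matrix I9 I9 F) (i, k) (j, k) := rfl

/-- The image on the k-th block. -/
def Ablk (H : Subgroup (GL I9 F)) (k : Fin 3) : Subgroup (GL (Fin 3) F) := (bl κ H k).range

theorem bl_iso {H : Subgroup (GL I9 F)} (O : Ovr κ H) (k : Fin 3) : Ablk κ H k ≤ IGrp κ.p := by
  rintro _ ⟨g, rfl⟩ x y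
  let ι : (Fin 3 → F) → I9 → F := fun u p => if p.2 = k then u p.1 else 0
  have hι : ∀ u v, hq κ.p (ι u) (ι v) = hq κ.p u v := fun u v => by
    simp only [hq, Fintype.sum_prod_type, ι]
    refine Finset.sum_congr rfl fun i _ => ?_
    rw [Finset.sum_eq_single k (fun b _ hb => by simp [hb]) (by simp)]
    simp
  have hg : ∀ u, app g.1 (ι u) = ι (app (bl κ H k g) u) := fun u => by
    funext ⟨i, a⟩
    simp only [app_apply, Matrix.mulVec, dotProduct, Fintype.sum_prod_type, ι, mul_ite, mul_zero,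
      Finset.sum_ite_eq', Finset.mem_univ, if_true]
    by_cases ha : a = k
    · subst ha; simp [bl_val]
    · rw [if_neg ha]
      exact Finset.sum_eq_zero fun j _ => by rw [CB_off κ g.2 ha, zero_mul]
  have := O.noTv.iso g.2.1 (ι x) (ι y)
  rwa [hg, hg, hι, hι] at this

theorem krL_mem_CB {H : Subgroup (GL I9 F)} {A : GL (Fin 3) F} (h : kr A 1 ∈ H) :
    kr A 1 ∈ CB κ H :=
  ⟨h, Subgroup.mem_centralizer_singleton_iff.2 (by rw [kr_mul, kr_mul, one_mul, mul_one, one_mul, mul_one])⟩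

theorem bl_krL {H : Subgroup (GL I9 F)} {A : GL (Fin 3) F} (h : kr A 1 ∈ CB κ H) (k : Fin 3) :
    bl κ H k ⟨kr A 1, h⟩ = A := by
  apply Units.ext; ext i j; simp [bl_val, kr_val]

theorem Ablk_gens {H : Subgroup (GL I9 F)} (O : Ovr κ H) (k : Fin 3) :
    (∀ j, gh κ j ∈ Ablk κ H k) ∧ gq κ ∈ Ablk κ H k := by
  obtain ⟨hh, -, hq, -, -, -⟩ := base_gens κ
  exact ⟨fun j => ⟨⟨_, krL_mem_CB κ (O.base (hh j))⟩, bl_krL κ _ k⟩,
    ⟨⟨_, krL_mem_CB κ (O.base hq)⟩, bl_krL κ _ k⟩⟩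

/-- The blocks contain no transvection. -/
theorem Ablk_noTv {H : Subgroup (GL I9 F)} (O : Ovr κ H) (k : Fin 3) : NoTv κ (Ablk κ H k) := by
  classical
  refine ⟨bl_iso κ O k, fun v φ h0 hm => ?_⟩
  by_contra hne
  obtain ⟨-, hh', -, -, hd1, -⟩ := base_gens κ
  obtain ⟨hh, -, -, -, -, -⟩ := base_gens κ
  obtain ⟨-, -, hX', -⟩ := mem_R9_gens κ
  have hXH : kr (1 : GL (Fin 3) F) gX ∈ H := O.base (R9_le_base κ hX')
  -- shifting the blocks
  have shift : ∀ g : CB κ H, ∃ g' : CB κ H, ∀ m, bl κ H (m + 1) g' = bl κ H m g := fun g => by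
    set x := kr (1 : GL (Fin 3) F) gX with hx
    have hval : ∀ i j a b, ((x * g.1 * x⁻¹ : GL I9 F) : Matrix I9 I9 F) (i, a + 1) (j, b + 1) =
        (g.1 : Matrix I9 I9 F) (i, a) (j, b) := by
      intro i j a b
      rw [Units.val_mul, Units.val_mul, Matrix.mul_apply]
      rw [Finset.sum_eq_single (j, b)]
      · rw [Matrix.mul_apply, Finset.sum_eq_single (i, a)]
        · simp [hx, kr, gX, Matrix.kroneckerMap_apply]
        · rintro ⟨c, d⟩ - hne
          simp only [hx, kr, gX, Matrix.kroneckerMap_apply, Units.val_one, Matrix.one_apply,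
            Matrix.of_apply]
          by_cases hc : i = c <;> by_cases hd : a = d <;> simp_all
        · simp
      · rintro ⟨c, d⟩ - hne
        simp only [hx, kr, gX, Matrix.kroneckerMap_apply, inv_one, Units.val_one, Matrix.one_apply,
          Units.inv_mk, Matrix.of_apply]
        by_cases hc : c = j <;> by_cases hd : b = d <;> simp_all
      · simp
    have hmem : x * g.1 * x⁻¹ ∈ CB κ H := by
      refine Subgroup.mem_inf.2 ⟨mul_mem (mul_mem hXH (Subgroup.mem_inf.1 g.2).1) (inv_mem hXH),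
        Subgroup.mem_centralizer_singleton_iff.2 ?_⟩
      apply Units.ext
      have hv : (kr 1 (gZ κ) : Matrix I9 I9 F) = Matrix.diagonal fun p => κ.ω ^ (p.2 : ℕ) := by
        ext ⟨a, b⟩ ⟨c, d⟩
        rw [kr_val]
        simp only [gZ, dgl, Units.val_one, Matrix.diagonal_apply, Matrix.one_apply, Prod.mk.injEq]
        by_cases ha : a = c <;> by_cases hb : b = d <;> simp [ha, hb, Fld.w_val]
      rw [Units.val_mul _ (kr 1 (gZ κ)), Units.val_mul (kr 1 (gZ κ)), hv]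
      ext ⟨i, a⟩ ⟨j, b⟩
      rw [Matrix.mul_diagonal, Matrix.diagonal_mul]
      obtain ⟨a', rfl⟩ : ∃ a', a = a' + 1 := ⟨a - 1, by simp⟩
      obtain ⟨b', rfl⟩ : ∃ b', b = b' + 1 := ⟨b - 1, by simp⟩
      rw [hval]
      by_cases hab : a' = b'
      · subst hab; ring
      · rw [CB_off κ g.2 hab]; ring
    exact ⟨⟨_, hmem⟩, fun m => Units.ext (by ext i j; rw [bl_val, bl_val]; exact hval i j m m)⟩
  -- every block contains the special unitary group
  have all : ∀ (m : Fin 3), Unitary.suGL 3 F κ.p ≤ Ablk κ H m := by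
    obtain ⟨g, hg⟩ := hm
    obtain ⟨g1, hg1⟩ := shift g
    obtain ⟨g2, hg2⟩ := shift g1
    intro m
    have hmem : ∀ m, tv v φ ∈ Ablk κ H m := fun m => by
      obtain rfl | rfl | rfl : m = k ∨ m = k + 1 ∨ m = k + 1 + 1 := by
        have key : ∀ m k : Fin 3, m = k ∨ m = k + 1 ∨ m = k + 1 + 1 := by decide
        exact key m k
      · exact ⟨g, hg⟩
      · exact ⟨g1, (hg1 _).trans hg⟩
      · exact ⟨g2, (hg2 _).trans ((hg1 _).trans hg)⟩
    obtain ⟨gh', gq'⟩ := Ablk_gens κ O m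
    exact std_su κ (bl_iso κ O m) gh' gq' h0 hne (hmem m)
  -- elements trivial on the block 0
  have hS : gD1 κ * (kr (gh κ 0) 1)⁻¹ ∈ H := mul_mem (O.base hd1) (inv_mem (O.base (hh 0)))
  set d : I9 → Fˣ := fun p => (if p.1 + p.2 = 0 then κ.w else 1) * (if p.1 = 0 then κ.w else 1)⁻¹
    with hd
  have hSeq : gD1 κ * (kr (gh κ 0) 1)⁻¹ = dgl d := by
    have e : kr (gh κ 0) 1 = dgl fun p : I9 => if p.1 = 0 then κ.w else 1 := by
      apply Units.ext
      ext ⟨i, j⟩ ⟨i', j'⟩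
      rw [kr_val]
      simp only [gh, dgl, Units.val_one, Matrix.diagonal_apply, Matrix.one_apply, Prod.mk.injEq]
      by_cases hi : i = i' <;> by_cases hj : j = j' <;> simp [hi, hj]
    rw [e, gD1, dgl_inv, dgl_mul]; rfl
  have hSC : dgl d ∈ CB κ H := by
    refine ⟨hSeq ▸ hS, Subgroup.mem_centralizer_singleton_iff.2 ?_⟩
    rw [show kr (1 : GL (Fin 3) F) (gZ κ) = dgl fun p : I9 => κ.w ^ (p.2 : ℕ) by
      apply Units.ext
      ext ⟨a, b⟩ ⟨c, e⟩
      rw [kr_val]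
      simp only [gZ, dgl, Units.val_one, Matrix.diagonal_apply, Matrix.one_apply, Prod.mk.injEq]
      by_cases ha : a = c <;> by_cases hb : b = e <;> simp [ha, hb],
      dgl_mul, dgl_mul, mul_comm]
  set S : CB κ H := ⟨dgl d, hSC⟩ with hSdef
  have blS : ∀ m, bl κ H m S = dgl fun i => d (i, m) := fun m => by
    apply Units.ext; ext i j
    rw [bl_val]
    simp only [hSdef, dgl, Matrix.diagonal_apply, Prod.mk.injEq, and_true]
  have low : ∀ m : Fin 3, m ≠ 0 → ∀ a ∈ Unitary.suGL 3 F κ.p, ∃ u : CB κ H,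
      bl κ H 0 u = 1 ∧ bl κ H m u = a := by
    intro m hm0
    set B := ((bl κ H 0).ker).map (bl κ H m) with hB
    have hN : ∀ a ∈ Unitary.suGL 3 F κ.p, Norm B a := by
      intro a ha b hb
      obtain ⟨x, rfl⟩ := all m ha
      obtain ⟨y, hy, rfl⟩ := hb
      exact ⟨x * y * x⁻¹, (MonoidHom.normal_ker _).conj_mem y hy x, by simp⟩
    have hS0 : S ∈ (bl κ H 0).ker := by
      rw [MonoidHom.mem_ker, blS]
      rw [show (fun i : Fin 3 => d (i, 0)) = 1 by funext i; fin_cases i <;> simp [hd]]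
      exact dgl_one
    have hle := su_le_of_normal κ le_rfl hN (b := bl κ H m S) ⟨S, hS0, rfl⟩
      (bl_iso κ O m ⟨S, rfl⟩) fun z e => by
        rw [blS] at e
        have e0 := congrFun (congrFun e 0) 0
        have e1 := congrFun (congrFun e 1) 1
        simp only [dgl, Matrix.diagonal_apply_eq, Matrix.smul_apply, Matrix.one_apply_eq] at e0 e1
        rw [← e1, hd] at e0
        have h1 := κ.ω_ne_one
        have h2 := κ.sq_ne_one
        have hω := κ.cube
        fin_cases m <;> first | exact absurd rfl hm0 | (simp [Fld.w_val, κ.inv] at e0; grind)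
    intro a ha
    obtain ⟨u, hu, e⟩ := hle ha
    exact ⟨u, MonoidHom.mem_ker.1 hu, e⟩
  obtain ⟨v', φ', h0', hne', hT, hns⟩ := exists_tv3 κ
  set K := (((bl κ H 0).ker ⊓ (bl κ H 1).ker : Subgroup (CB κ H))).map (bl κ H 2) with hK
  have hKN : ∀ a ∈ Unitary.suGL 3 F κ.p, Norm K a := by
    intro a ha b hb
    obtain ⟨x, rfl⟩ := all 2 ha
    obtain ⟨y, hy, rfl⟩ := hb
    exact ⟨x * y * x⁻¹, ⟨(MonoidHom.normal_ker _).conj_mem y hy.1 x,
      (MonoidHom.normal_ker _).conj_mem y hy.2 x⟩, by simp⟩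
  obtain ⟨u, hu0, hu2⟩ := low 2 (by decide) _ (gX_mem_su κ)
  obtain ⟨w, hw0, hw1⟩ := low 1 (by decide) _ hT
  obtain ⟨w', hw'⟩ := shift w
  have c0 : bl κ H 0 ⁅u, w'⁆ = 1 := by rw [map_commutatorElement, hu0, commutatorElement_one_left]
  have c1 : bl κ H 1 ⁅u, w'⁆ = 1 := by
    rw [map_commutatorElement, show bl κ H 1 w' = 1 from (hw' 0).trans hw0, commutatorElement_one_right]
  have c2 : bl κ H 2 ⁅u, w'⁆ = ⁅(gX : GL (Fin 3) F), tv v' φ'⁆ := by
    rw [map_commutatorElement, hu2, show bl κ H 2 w' = tv v' φ' from (hw' 1).trans hw1]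
  have hKle := su_le_of_normal κ le_rfl hKN (b := ⁅(gX : GL (Fin 3) F), tv v' φ'⁆)
    ⟨⁅u, w'⁆, ⟨c0, c1⟩, c2⟩ (c2 ▸ bl_iso κ O 2 ⟨_, rfl⟩) hns
  obtain ⟨n, ⟨n0, n1⟩, n2⟩ := hKle hT
  set V : I9 → F := fun p => if p.2 = 2 then v' p.1 else 0 with hV
  let Φ : (I9 → F) →ₗ[F] F := φ' ∘ₗ LinearMap.funLeft F F (fun i : Fin 3 => ((i, 2) : I9))
  have hsec : ∀ x : I9 → F, LinearMap.funLeft F F (fun i : Fin 3 => ((i, 2) : I9)) x = fun i => x (i, 2) :=
    fun x => rfl
  have hΦ : Φ V = 0 := by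
    show φ' _ = 0
    rw [hsec]; simpa [hV] using h0'
  have hnv : n.1 = tv V Φ := by
    refine gl_ext fun x => ?_
    funext ⟨i, a⟩
    rw [tv_apply hΦ, app_apply, Matrix.mulVec, dotProduct, Fintype.sum_prod_type]
    rw [Finset.sum_congr rfl fun j _ => Finset.sum_eq_single a
      (fun b _ hb => by rw [CB_off κ n.2 hb.symm, zero_mul]) (by simp)]
    have hrow : ∑ j, (n.1 : Matrix I9 I9 F) (i, a) (j, a) * x (j, a) =
        app (bl κ H a n) (fun j => x (j, a)) i := by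
      simp [Matrix.mulVec, dotProduct, bl_val]
    rw [hrow]
    show _ = x (i, a) + φ' (fun j => x (j, 2)) * V (i, a)
    fin_cases a
    · rw [show bl κ H ((fun i => i) ⟨0, by norm_num⟩) n = 1 from n0]; simp [hV]
    · rw [show bl κ H ((fun i => i) ⟨1, by norm_num⟩) n = 1 from n1]; simp [hV]
    · rw [show bl κ H ((fun i => i) ⟨2, by norm_num⟩) n = tv v' φ' from n2, tv_apply h0']; simp [hV]
  have hone := (tv_eq_one_iff hΦ).1 (O.noTv.notv _ _ hΦ (hnv ▸ n.2.1))
  refine hne' ((tv_eq_one_iff h0').2 fun y => funext fun i => ?_)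
  have := congrFun (hone (fun p => y p.1)) (i, 2)
  simpa [Φ, hsec, hV] using this

end Cfsg.Agent.C6NineOdd
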