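/-
The involution acting as a reflection on U ⊗ W+ and trivially on U ⊗ W- is outside.
Main results: `gJ`, `Pp`, `Pm`, `pq`, `gR`, `Ovr.biref_not_mem`.
-/
import Cfsg.Agent.Lib.C6NineOdd.Block

set_option autoImplicit false
set_option linter.unusedSectionVars false
set_option linter.unusedSimpArgs false

namespace Cfsg.Agent.C6NineOdd

open Matrix Cfsg.Agent.Transvect
open scoped Matrix Kronecker

variable {F : Type*} [Field F] [Fintype F] (κ : Fld F)

/-- The map i ↦ -i as a permutation matrix. -/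
def gJ : GL (Fin 3) F where
  val := Matrix.of fun i j => if i + j = 0 then 1 else 0
  inv := Matrix.of fun i j => if i + j = 0 then 1 else 0
  val_inv := by ext i j; fin_cases i <;> fin_cases j <;> simp [Matrix.mul_apply, Fin.sum_univ_three]
  inv_val := by ext i j; fin_cases i <;> fin_cases j <;> simp [Matrix.mul_apply, Fin.sum_univ_three]

theorem gJ_sq : (gJ : GL (Fin 3) F) * gJ = 1 := Units.ext (gJ (F := F)).val_inv

theorem gq_sq : ((gq κ * gq κ : GL (Fin 3) F) : Matrix (Fin 3) (Fin 3) F) =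
    -((gJ : GL (Fin 3) F) : Matrix (Fin 3) (Fin 3) F) := by
  have h1 : κ.ω - κ.ω ^ 2 ≠ 0 := by
    rw [show κ.ω - κ.ω ^ 2 = κ.ω * (1 - κ.ω) by ring]
    exact mul_ne_zero κ.ω_ne (sub_ne_zero.2 κ.ω_ne_one.symm)
  have hω := κ.cube
  have rel := κ.rel
  rw [Units.val_mul]
  ext i j
  fin_cases i <;> fin_cases j <;> simp [gq, gJ, Matrix.mul_apply, Fin.sum_univ_three] <;>
    field_simp <;> grind

theorem kr_gJ_mem_base : kr gJ (1 : GL (Fin 3) F) ∈ Base κ ∧ kr (1 : GL (Fin 3) F) gJ ∈ Base κ := by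
  obtain ⟨-, -, hq, hq', -, -⟩ := base_gens κ
  let m : GL I9 F := dgl fun _ => -1
  have hm : m ∈ Base κ := Subgroup.mem_sup_right (Subgroup.mem_inf.2 ⟨(Cfsg.Geo.mem_scalars_iff m).2
    ⟨-1, by rw [Units.val_neg, Units.val_one, Matrix.smul_one_eq_diagonal]; simp [m, dgl]⟩,
    scalar_iso κ (c := -1) (by rw [Matrix.smul_one_eq_diagonal]; simp [m, dgl])
      (by rw [Unitary.neg_pow_q κ.card, one_pow]; ring)⟩)
  have hv : ((m : GL I9 F) : Matrix I9 I9 F) = -1 := by simp [m, dgl, ← Matrix.diagonal_neg]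
  constructor
  · convert mul_mem hm (mul_mem hq hq) using 1
    apply Units.ext
    rw [kr_mul, one_mul, Units.val_mul, hv, neg_one_mul]
    show _ = -(((gq κ * gq κ : GL (Fin 3) F) : Matrix (Fin 3) (Fin 3) F) ⊗ₖ
      ((1 : GL (Fin 3) F) : Matrix (Fin 3) (Fin 3) F))
    rw [gq_sq]
    ext ⟨i, k⟩ ⟨j, l⟩
    simp [kr_val, Matrix.kroneckerMap_apply]
  · convert mul_mem hm (mul_mem hq' hq') using 1
    apply Units.ext
    rw [kr_mul, one_mul, Units.val_mul, hv, neg_one_mul]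
    show _ = -(((1 : GL (Fin 3) F) : Matrix (Fin 3) (Fin 3) F) ⊗ₖ
      ((gq κ * gq κ : GL (Fin 3) F) : Matrix (Fin 3) (Fin 3) F))
    rw [gq_sq]
    ext ⟨i, k⟩ ⟨j, l⟩
    simp [kr_val, Matrix.kroneckerMap_apply]

/-- The projection on W+. -/
def Pp : Matrix (Fin 3) (Fin 3) F :=
  (2 : F)⁻¹ • (1 + ((gJ : GL (Fin 3) F) : Matrix (Fin 3) (Fin 3) F))

/-- The projection on W-. -/
def Pm : Matrix (Fin 3) (Fin 3) F :=
  (2 : F)⁻¹ • (1 - ((gJ : GL (Fin 3) F) : Matrix (Fin 3) (Fin 3) F))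

include κ in
theorem proj_rules : (Pp : Matrix (Fin 3) (Fin 3) F) * Pp = Pp ∧
    (Pm : Matrix (Fin 3) (Fin 3) F) * Pm = Pm ∧ (Pp : Matrix (Fin 3) (Fin 3) F) * Pm = 0 ∧
      (Pm : Matrix (Fin 3) (Fin 3) F) * Pp = 0 ∧ (Pp : Matrix (Fin 3) (Fin 3) F) + Pm = 1 := by
  have h2 := κ.two
  have e : ((gJ : GL (Fin 3) F) : Matrix (Fin 3) (Fin 3) F) * ((gJ : GL (Fin 3) F) : Matrix (Fin 3) (Fin 3) F) = 1 := by
    rw [← Units.val_mul, gJ_sq, Units.val_one]
  refine ⟨?_, ?_, ?_, ?_, ?_⟩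
  all_goals
    simp only [Pp, Pm, smul_add, smul_sub, Matrix.add_mul, Matrix.sub_mul, Matrix.mul_add,
      Matrix.mul_sub, smul_mul_assoc, mul_smul_comm, smul_smul, one_mul, mul_one, e]
    match_scalars <;> field_simp <;> ring

/-- h ⊗ P+ + h' ⊗ P-. -/
noncomputable def pq : GL (Fin 3) F × GL (Fin 3) F →* GL I9 F :=
  MonoidHom.toHomUnits
    { toFun := fun g => (g.1 : Matrix (Fin 3) (Fin 3) F) ⊗ₖ Pp + (g.2 : Matrix (Fin 3) (Fin 3) F) ⊗ₖ Pm
      map_one' := by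
        obtain ⟨-, -, -, -, h⟩ := proj_rules κ
        simp only [Prod.fst_one, Prod.snd_one, Units.val_one]
        rw [← Matrix.kronecker_add, h, Matrix.one_kronecker_one]
      map_mul' := fun g h => by
        obtain ⟨h1, h2, h3, h4, -⟩ := proj_rules κ
        simp only [Prod.fst_mul, Prod.snd_mul, Units.val_mul, Matrix.add_mul, Matrix.mul_add,
          ← Matrix.mul_kronecker_mul, h1, h2, h3, h4, Matrix.kronecker_zero, add_zero, zero_add] }

theorem pq_val (g : GL (Fin 3) F × GL (Fin 3) F) : (pq κ g : Matrix I9 I9 F) =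
    (g.1 : Matrix (Fin 3) (Fin 3) F) ⊗ₖ Pp + (g.2 : Matrix (Fin 3) (Fin 3) F) ⊗ₖ Pm := rfl

theorem pq_diag (h : GL (Fin 3) F) : pq κ (h, h) = kr h 1 := by
  apply Units.ext
  obtain ⟨-, -, -, -, e⟩ := proj_rules κ
  rw [pq_val, ← Matrix.kronecker_add, e]; rfl

/-- A reflection. -/
def gR : GL (Fin 3) F := dgl fun i => if i = 0 then -1 else 1

/-- A reflection does not permute the twelve points. -/
theorem gR_not_mem {A : Subgroup (GL (Fin 3) F)} (hA : NoTv κ A) (hh : ∀ k, gh κ k ∈ A)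
    (hq : gq κ ∈ A) : gR ∉ A := by
  intro hr
  have h3 := κ.three
  have hu : ((3 : F)⁻¹ • (sf 0 + sf 1 + sf 2 : (Fin 3 → F) →ₗ[F] F)) (se 0 + se 1 + se 2) = 1 := by
    simp [std_dual]; field_simp; norm_num
  have hT := twelve_map κ hA hh hq hr hu (std_tri κ hh hq).ones
  set u := app gR (se 0 + se 1 + se 2 : Fin 3 → F) with hudef
  have hu0 : ∀ i, u i = if i = 0 then -1 else 1 := fun i => by
    rw [hudef, gR, app_dgl]
    fin_cases i <;> simp [se]
  have hfix : ∀ (v : Fin 3 → F) ψ, Same u (((3 : F)⁻¹ • (sf 0 + sf 1 + sf 2)) ∘ₗ (app gR⁻¹).toLinearMap)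
      v ψ → u = ψ u • v := fun v ψ h => by
    rw [← h u, LinearMap.comp_apply, LinearEquiv.coe_coe, hudef, app_inv_app, hu, one_smul]
  rcases hT with ⟨i, h⟩ | ⟨s, t, h⟩
  · have e := hfix _ _ h
    obtain ⟨j, hj⟩ : ∃ j, j ≠ i := exists_ne i
    have := congrFun e j
    rw [hu0] at this
    simp [se, Pi.single_apply, hj] at this
    split_ifs at this <;> simp at this
  · have e := hfix _ _ h
    have e0 := congrFun e 0
    have e1 := congrFun e 1
    rw [hu0] at e0 e1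
    simp [pV, cvec, se, Fin.sum_univ_three, Pi.single_apply] at e0 e1
    have hω : κ.ω ^ (s : ℕ) = -1 := by
      rw [← e0] at e1
      linear_combination e1
    have : (κ.ω ^ (s : ℕ)) ^ 3 = 1 := by rw [← pow_mul, mul_comm, pow_mul, κ.cube, one_pow]
    rw [hω] at this
    exact κ.two (by linear_combination -this)

/-- The split elements are isometries on both factors. -/
theorem pq_iso {g : GL (Fin 3) F × GL (Fin 3) F} (h : IsI κ.p (pq κ g)) :
    IsI κ.p g.1 ∧ IsI κ.p g.2 := by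
  haveI := κ.charP
  haveI := κ.fact
  have h2 := κ.two
  have key : ∀ (w : Fin 3 → F) (M : GL (Fin 3) F), hq κ.p w w ≠ 0 →
      (∀ u, app (pq κ g) (fun p => u p.1 * w p.2) = fun p => app M u p.1 * w p.2) → IsI κ.p M := by
    intro w M hw hM x y
    have e := h (fun p => x p.1 * w p.2) (fun p => y p.1 * w p.2)
    have fac : ∀ u v : Fin 3 → F, hq κ.p (fun p : I9 => u p.1 * w p.2) (fun p => v p.1 * w p.2) =
        hq κ.p u v * hq κ.p w w := fun u v => by
      simp only [hq, Fintype.sum_prod_type, Finset.sum_mul_sum, mul_pow]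
      exact Finset.sum_congr rfl fun i _ => Finset.sum_congr rfl fun k _ => by ring
    rw [hM, hM, fac, fac] at e
    exact mul_right_cancel₀ hw e
  constructor
  · refine key ![1, 0, 0] g.1 (by simp [hq, Fin.sum_univ_three, zero_pow κ.p0]) fun u => ?_
    funext ⟨i, k⟩
    simp only [app_apply, pq_val, Matrix.mulVec, dotProduct, Fintype.sum_prod_type, Fin.sum_univ_three,
      Matrix.add_apply, Matrix.kroneckerMap_apply, Pp, Pm, gJ]
    fin_cases k <;> simp <;> field_simp <;> ring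
  · refine key ![0, 1, -1] g.2 (by
      simp [hq, Fin.sum_univ_three, zero_pow κ.p0, Unitary.neg_pow_q κ.card]
      rw [one_add_one_eq_two]; exact h2) fun u => ?_
    funext ⟨i, k⟩
    simp only [app_apply, pq_val, Matrix.mulVec, dotProduct, Fintype.sum_prod_type, Fin.sum_univ_three,
      Matrix.add_apply, Matrix.kroneckerMap_apply, Pp, Pm, gJ]
    fin_cases k <;> simp <;> field_simp <;> ring

/-- A transvection on one factor spreads along the clock to a block. -/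
theorem split_tv_false {H : Subgroup (GL I9 F)} (O : Ovr κ H) {v : Fin 3 → F}
    {φ : (Fin 3 → F) →ₗ[F] F} (h0 : φ v = 0) (hne : tv v φ ≠ 1) {α β : F} (hab : α ≠ 0 ∨ α + β ≠ 0)
    {n : GL I9 F} (hnH : n ∈ H)
    (hnv : (n : Matrix I9 I9 F) =
      1 + Matrix.vecMulVec v (fun j => φ (Pi.single j 1)) ⊗ₖ (α • Pp + β • Pm)) : False := by
  obtain ⟨-, -, -, hZ'⟩ := mem_R9_gens κ
  set E : Matrix (Fin 3) (Fin 3) F := Matrix.vecMulVec v (fun j => φ (Pi.single j 1)) with hE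
  have hEE : E * E = 0 := by
    have e : (fun j => φ (Pi.single j 1)) ⬝ᵥ v = 0 := by
      rw [← h0]; conv_rhs => rw [pi_eq_sum_univ' v, map_sum]
      simp [dotProduct, mul_comm]
    rw [hE, Matrix.vecMulVec_mul_vecMulVec, e]; simp
  set z := kr (1 : GL (Fin 3) F) (gZ κ) with hz
  have hzH : z ∈ H := O.base (R9_le_base κ hZ')
  have hconj : ∀ (g : GL I9 F) (A : Matrix (Fin 3) (Fin 3) F), (g : Matrix I9 I9 F) = 1 + E ⊗ₖ A →
      ((z * g * z⁻¹ : GL I9 F) : Matrix I9 I9 F) = 1 + E ⊗ₖ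
        ((gZ κ : Matrix (Fin 3) (Fin 3) F) * A * ((gZ κ)⁻¹ : GL (Fin 3) F).val) := by
    intro g A hg
    rw [hz, show (kr (1 : GL (Fin 3) F) (gZ κ))⁻¹ = kr 1 (gZ κ)⁻¹ from Units.ext rfl,
      Units.val_mul, Units.val_mul, hg]
    show ((1 : GL (Fin 3) F) : Matrix (Fin 3) (Fin 3) F) ⊗ₖ (gZ κ : Matrix (Fin 3) (Fin 3) F) *
      (1 + E ⊗ₖ A) * (((1 : GL (Fin 3) F) : Matrix (Fin 3) (Fin 3) F) ⊗ₖ ((gZ κ)⁻¹ : GL (Fin 3) F).val) = _
    rw [Matrix.mul_add, Matrix.add_mul, mul_one, ← Matrix.mul_kronecker_mul, ← Matrix.mul_kronecker_mul,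
      ← Matrix.mul_kronecker_mul, ← Units.val_mul, ← Units.val_mul, mul_inv_cancel, mul_one,
      Units.val_one, Matrix.one_kronecker_one, Matrix.one_mul, Matrix.mul_one]
  set g3 := n * (z * n * z⁻¹) * (z * (z * n * z⁻¹) * z⁻¹) with hg3
  have hg3H : g3 ∈ H := by
    exact mul_mem (mul_mem hnH (mul_mem (mul_mem hzH hnH) (inv_mem hzH)))
      (mul_mem (mul_mem hzH (mul_mem (mul_mem hzH hnH) (inv_mem hzH))) (inv_mem hzH))
  have h2 := κ.two
  have hv : (g3 : Matrix I9 I9 F) = 1 + E ⊗ₖ Matrix.diagonal (fun k : Fin 3 => if k = 0 then 3 * α else 3 / 2 * (α + β)) := by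
    have hmul : ∀ A B : Matrix (Fin 3) (Fin 3) F, ((1 : Matrix I9 I9 F) + E ⊗ₖ A) * (1 + E ⊗ₖ B) =
        1 + E ⊗ₖ (A + B) := fun A B => by
      rw [Matrix.add_mul, Matrix.mul_add, Matrix.mul_add, one_mul, one_mul, mul_one,
        ← Matrix.mul_kronecker_mul, hEE, Matrix.zero_kronecker, add_zero, Matrix.kronecker_add]
      abel
    rw [hg3, Units.val_mul, Units.val_mul, hnv, hconj n _ hnv, hconj _ _ (hconj n _ hnv), hmul, hmul]
    congr 1
    congr 1
    rw [show (gZ κ)⁻¹ = dgl (fun i : Fin 3 => κ.w ^ (i : ℕ))⁻¹ from dgl_inv _]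
    have hω := κ.cube
    have rel := κ.rel
    ext i j
    fin_cases i <;> fin_cases j <;>
      simp [Pp, Pm, gJ, gZ, dgl, Matrix.mul_apply, Fin.sum_univ_three, Matrix.diagonal, Matrix.one_apply,
        Fld.w_val, κ.inv] <;> field_simp <;> grind
  have hCB : g3 ∈ CB κ H := by
    refine Subgroup.mem_inf.2 ⟨hg3H, Subgroup.mem_centralizer_singleton_iff.2 ?_⟩
    apply Units.ext
    rw [Units.val_mul _ (kr (1 : GL (Fin 3) F) (gZ κ)), Units.val_mul (kr (1 : GL (Fin 3) F) (gZ κ)), hv]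
    show (1 + _) * (((1 : GL (Fin 3) F) : Matrix (Fin 3) (Fin 3) F) ⊗ₖ (gZ κ : Matrix (Fin 3) (Fin 3) F)) =
      (((1 : GL (Fin 3) F) : Matrix (Fin 3) (Fin 3) F) ⊗ₖ (gZ κ : Matrix (Fin 3) (Fin 3) F)) * (1 + _)
    rw [Units.val_one, Matrix.add_mul, Matrix.mul_add, one_mul, mul_one,
      ← Matrix.mul_kronecker_mul, ← Matrix.mul_kronecker_mul, one_mul, mul_one]
    congr 2
    show _ * Matrix.diagonal _ = Matrix.diagonal _ * _
    rw [Matrix.diagonal_mul_diagonal, Matrix.diagonal_mul_diagonal]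
    simp [mul_comm]
  have e3 : ∀ (k : Fin 3) (c : F), (if k = 0 then 3 * α else 3 / 2 * (α + β)) = c →
      bl κ H k ⟨g3, hCB⟩ = tv v (c • φ) := by
    intro k c hc
    apply Units.ext
    ext i j
    rw [bl_val, tv_val (by simp [h0]), tmat]
    show (g3 : Matrix I9 I9 F) (i, k) (j, k) = _
    rw [hv, Matrix.add_apply, Matrix.kroneckerMap_apply, Matrix.diagonal_apply_eq, hc]
    simp [hE, Matrix.one_apply, Matrix.vecMulVec_apply]
    ring
  have bad : ∀ (k : Fin 3), (if k = 0 then 3 * α else 3 / 2 * (α + β)) ≠ 0 → False := by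
    intro k hk
    set c := (if k = 0 then 3 * α else 3 / 2 * (α + β)) with hc
    have h0c : (c • φ) v = 0 := by simp [h0]
    have := (tv_eq_one_iff h0c).1 ((Ablk_noTv κ O k).notv _ _ h0c ⟨⟨g3, hCB⟩, e3 k c rfl⟩)
    refine hne ((tv_eq_one_iff h0).2 fun x => ?_)
    have h1 := this x
    rw [LinearMap.smul_apply, smul_eq_mul, mul_smul] at h1
    exact (smul_eq_zero.1 h1).resolve_left hk
  rcases hab with h | h
  · exact bad 0 (by simp [κ.three, h])
  · exact bad 1 (by simp [κ.three, h2, h])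

/-- The bireflection is outside. -/
theorem Ovr.biref_not_mem {H : Subgroup (GL I9 F)} (O : Ovr κ H) : pq κ (gR, 1) ∉ H := by
  classical
  intro hb
  obtain ⟨hh, hh', hq, -, -, -⟩ := base_gens κ
  set Q := H.comap (pq κ) with hQ
  set A := Q.map (MonoidHom.fst (GL (Fin 3) F) (GL (Fin 3) F)) with hA
  have hAh : ∀ k, gh κ k ∈ A := fun k =>
    ⟨(gh κ k, gh κ k), by show pq κ _ ∈ H; rw [pq_diag]; exact O.base (hh k), rfl⟩
  have hAq : gq κ ∈ A := ⟨(gq κ, gq κ), by show pq κ _ ∈ H; rw [pq_diag]; exact O.base hq, rfl⟩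
  have hAr : gR ∈ A := ⟨(gR, 1), hb, rfl⟩
  have hAI : A ≤ IGrp κ.p := by
    rintro _ ⟨x, hx, rfl⟩
    exact (pq_iso κ (O.noTv.iso hx)).1
  by_cases hnt : ∀ (v : Fin 3 → F) (φ : (Fin 3 → F) →ₗ[F] F), φ v = 0 → tv v φ ∈ A → tv v φ = 1
  · exact gR_not_mem κ ⟨hAI, hnt⟩ hAh hAq hAr
  simp only [not_forall] at hnt
  obtain ⟨v, φ, h0, hm, hne⟩ := hnt
  have hsu := std_su κ hAI hAh hAq h0 hne hm
  set B0 := H.comap ((pq κ).comp (MonoidHom.inl (GL (Fin 3) F) (GL (Fin 3) F))) with hB0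
  have hN : ∀ a ∈ Unitary.suGL 3 F κ.p, Norm B0 a := by
    intro a ha b hb'
    obtain ⟨x, hx, rfl⟩ := hsu ha
    show pq κ (x.1 * b * x.1⁻¹, 1) ∈ H
    have : (x.1 * b * x.1⁻¹, (1 : GL (Fin 3) F)) = x * (b, 1) * x⁻¹ := by
      ext1 <;> simp
    rw [this, map_mul, map_mul, map_inv]
    exact mul_mem (mul_mem hx hb') (inv_mem hx)
  have hr0 : gR ∈ B0 := hb
  have hle := su_le_of_normal κ le_rfl hN hr0 (hAI hAr) fun z e => by
    have e0 := congrFun (congrFun e 0) 0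
    have e1 := congrFun (congrFun e 1) 1
    simp [gR, dgl] at e0 e1
    exact κ.two (by rw [← e1] at e0; linear_combination -e0)
  obtain ⟨v', φ', h0', hne', hT, -⟩ := exists_tv3 κ
  refine split_tv_false κ O h0' hne' (α := 1) (β := 0) (Or.inl one_ne_zero) (hle hT) ?_
  obtain ⟨-, -, -, -, h⟩ := proj_rules κ
  show (pq κ (tv v' φ', 1) : Matrix I9 I9 F) = _
  rw [pq_val, tv_val h0', tmat, Units.val_one, Matrix.add_kronecker, add_right_comm,
    ← Matrix.kronecker_add, h, Matrix.one_kronecker_one, one_smul, zero_smul, add_zero]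

end Cfsg.Agent.C6NineOdd
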