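/-
The stabiliser of a point of W- in the group of one factor: a group of order 24.
Main results: `gE`, `wk`, `S24`, `Q8g`, `six`, `mem_S24_of`, `central_pm`, `comm_pm`.
-/
import Cfsg.Agent.Lib.C6NineOdd.Bireflection

set_option autoImplicit false
set_option linter.unusedSectionVars false
set_option linter.unusedSimpArgs false

namespace Cfsg.Agent.C6NineOdd

open Matrix Cfsg.Agent.Transvect
open scoped Matrix Kronecker commutatorElement

variable {F : Type*} [Field F] [Fintype F] (κ : Fld F)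

/-- The element -jM of one factor. -/
def gE : GL (Fin 3) F := gq κ * gq κ

/-- The three quaternion units. -/
def wk (k : Fin 3) : GL (Fin 3) F := gh κ 0 ^ (k : ℕ) * gq κ * (gh κ 0 ^ (k : ℕ))⁻¹

/-- The group of order 24. -/
def S24 : Subgroup (GL (Fin 3) F) := Subgroup.closure {gh κ 0, gq κ}

/-- Its quaternion subgroup. -/
def Q8g : Subgroup (GL (Fin 3) F) := Subgroup.closure (Set.range (wk κ))

/-- The vector spanning W-. -/
def wm : Fin 3 → F := ![0, 1, -1]

theorem gE_val : (gE κ : Matrix (Fin 3) (Fin 3) F) = -((gJ : GL (Fin 3) F) : Matrix (Fin 3) (Fin 3) F) :=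
  gq_sq κ

theorem gh0_cube : gh κ 0 ^ 3 = 1 := by
  rw [show gh κ 0 ^ 3 = gh κ 0 * gh κ 0 * gh κ 0 by rw [pow_succ, pow_two]]
  simp only [gh, dgl_mul]
  rw [← dgl_one]
  congr 1
  funext i
  by_cases hi : i = 0
  · simp only [Pi.mul_apply, hi, if_true, Pi.one_apply]
    rw [← pow_two, ← pow_succ, κ.w_cube]
  · simp [hi]

theorem gE_comm_gh : gE κ * gh κ 0 = gh κ 0 * gE κ := by
  apply Units.ext
  rw [Units.val_mul, Units.val_mul, gE_val]
  ext i j
  fin_cases i <;> fin_cases j <;> simp [gJ, gh, dgl, Matrix.mul_apply, Fin.sum_univ_three]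

theorem gE_sq : gE κ * gE κ = 1 := by
  apply Units.ext
  rw [Units.val_mul, gE_val, Units.val_one, neg_mul, mul_neg, neg_neg, ← Units.val_mul, gJ_sq, Units.val_one]

theorem gE_ne_one : gE κ ≠ 1 := fun h => by
  have h0 : (gE κ : Matrix (Fin 3) (Fin 3) F) = 1 := by rw [h, Units.val_one]
  have h' := congrFun (congrFun h0 1) 1
  rw [gE_val] at h'
  simp [gJ] at h'

theorem gE_inv : (gE κ)⁻¹ = gE κ := inv_eq_of_mul_eq_one_right (gE_sq κ)

theorem gh_pow_E (n : ℕ) : gh κ 0 ^ n * gE κ = gE κ * gh κ 0 ^ n :=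
  (Commute.pow_right (show Commute (gE κ) (gh κ 0) from gE_comm_gh κ) n).eq.symm

theorem wk_sq (k : Fin 3) : wk κ k * wk κ k = gE κ := by
  rw [wk, show gh κ 0 ^ (k : ℕ) * gq κ * (gh κ 0 ^ (k : ℕ))⁻¹ * (gh κ 0 ^ (k : ℕ) * gq κ * (gh κ 0 ^ (k : ℕ))⁻¹) =
    gh κ 0 ^ (k : ℕ) * gE κ * (gh κ 0 ^ (k : ℕ))⁻¹ by rw [gE]; group, gh_pow_E, mul_inv_cancel_right]

theorem wk_succ (k : Fin 3) : gh κ 0 * wk κ k * (gh κ 0)⁻¹ = wk κ (k + 1) := by
  have h3 := gh0_cube κ
  have e : gh κ 0 ^ ((k + 1 : Fin 3) : ℕ) = gh κ 0 * gh κ 0 ^ (k : ℕ) := by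
    rw [← pow_succ', Fin.val_add]
    conv_rhs => rw [← Nat.mod_add_div ((k : ℕ) + 1) 3, pow_add, pow_mul, h3, one_pow, mul_one]
    rfl
  rw [wk, wk, e]; group

theorem wk_gq : wk κ 0 = gq κ := by simp [wk]

theorem wk_anti {i j : Fin 3} (hij : i ≠ j) : wk κ i * wk κ j = gE κ * (wk κ j * wk κ i) := by
  have hω := κ.cube
  have rel := κ.rel
  have h1 : κ.ω - κ.ω ^ 2 ≠ 0 := by
    rw [show κ.ω - κ.ω ^ 2 = κ.ω * (1 - κ.ω) by ring]
    exact mul_ne_zero κ.ω_ne (sub_ne_zero.2 κ.ω_ne_one.symm)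
  have base : ∀ d : Fin 3, d ≠ 0 → wk κ 0 * wk κ d = gE κ * (wk κ d * wk κ 0) := by
    intro d hd
    rw [wk_gq, wk]
    apply Units.ext
    simp only [Units.val_mul, gE_val]
    fin_cases d
    · exact absurd rfl hd
    all_goals
      simp only [gh, pow_one, pow_two, dgl_mul, dgl_inv, Fin.mk_one, Fin.reduceFinMk, Fin.val_one, Fin.val_two]
      ext a b
      fin_cases a <;> fin_cases b <;>
        simp [gq, gJ, dgl, Matrix.mul_apply, Fin.sum_univ_three, Fld.w_val, κ.inv] <;> field_simp <;> grind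
  have step : ∀ i j : Fin 3, wk κ i * wk κ j = gE κ * (wk κ j * wk κ i) →
      wk κ (i + 1) * wk κ (j + 1) = gE κ * (wk κ (j + 1) * wk κ (i + 1)) := by
    intro i j h
    rw [← wk_succ, ← wk_succ,
      show gh κ 0 * wk κ i * (gh κ 0)⁻¹ * (gh κ 0 * wk κ j * (gh κ 0)⁻¹) =
        gh κ 0 * (wk κ i * wk κ j) * (gh κ 0)⁻¹ by group, h, ← mul_assoc (gh κ 0), ← gE_comm_gh]
    group
  fin_cases i
  · exact base j (Ne.symm hij)
  · obtain ⟨d, rfl⟩ : ∃ d, j = d + 1 := ⟨j - 1, by simp⟩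
    exact step 0 d (base d fun e => hij (by subst e; rfl))
  · obtain ⟨d, rfl⟩ : ∃ d, j = d + 1 + 1 := ⟨j - 1 - 1, by simp⟩
    exact step 1 (d + 1) (step 0 d (base d fun e => hij (by subst e; rfl)))

theorem gE_mem_Q8 : gE κ ∈ Q8g κ := by
  rw [← wk_sq κ 0]; exact mul_mem (Subgroup.subset_closure ⟨0, rfl⟩) (Subgroup.subset_closure ⟨0, rfl⟩)

theorem Q8_le : Q8g κ ≤ S24 κ := by
  refine (Subgroup.closure_le _).2 ?_
  rintro _ ⟨k, rfl⟩
  have hh : gh κ 0 ∈ S24 κ := Subgroup.subset_closure (by simp)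
  have hq : gq κ ∈ S24 κ := Subgroup.subset_closure (by simp)
  exact mul_mem (mul_mem (pow_mem hh _) hq) (inv_mem (pow_mem hh _))

theorem gh_norm_Q8 {x : GL (Fin 3) F} (hx : x ∈ Q8g κ) : gh κ 0 * x * (gh κ 0)⁻¹ ∈ Q8g κ := by
  refine (Subgroup.closure_le (K := (Q8g κ).comap (MulAut.conj (gh κ 0)).toMonoidHom)).2 ?_ hx
  rintro _ ⟨k, rfl⟩
  show gh κ 0 * wk κ k * (gh κ 0)⁻¹ ∈ Q8g κ
  rw [wk_succ]
  exact Subgroup.subset_closure ⟨_, rfl⟩

/-- Every element of the group of order 24 is a product of a quaternion and a power of the homology. -/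
theorem S24_form {s : GL (Fin 3) F} (hs : s ∈ S24 κ) :
    ∃ x ∈ Q8g κ, ∃ m : ℕ, s = x * gh κ 0 ^ m := by
  have hpow : ∀ (m : ℕ) {x : GL (Fin 3) F}, x ∈ Q8g κ → gh κ 0 ^ m * x * (gh κ 0 ^ m)⁻¹ ∈ Q8g κ := by
    intro m
    induction m with
    | zero => intro x hx; simpa using hx
    | succ m ih =>
      intro x hx
      rw [pow_succ', show gh κ 0 * gh κ 0 ^ m * x * (gh κ 0 * gh κ 0 ^ m)⁻¹ =
        gh κ 0 * (gh κ 0 ^ m * x * (gh κ 0 ^ m)⁻¹) * (gh κ 0)⁻¹ by group]
      exact gh_norm_Q8 κ (ih hx)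
  induction hs using Subgroup.closure_induction with
  | mem s hs =>
    rcases hs with rfl | rfl
    · exact ⟨1, one_mem _, 1, by simp⟩
    · exact ⟨gq κ, Subgroup.subset_closure ⟨0, wk_gq κ⟩, 0, by simp⟩
  | one => exact ⟨1, one_mem _, 0, by simp⟩
  | mul a b _ _ ha hb =>
    obtain ⟨x, hx, m, rfl⟩ := ha
    obtain ⟨y, hy, n, rfl⟩ := hb
    exact ⟨x * (gh κ 0 ^ m * y * (gh κ 0 ^ m)⁻¹), mul_mem hx (hpow m hy), m + n, by rw [pow_add]; group⟩
  | inv a _ ha =>
    obtain ⟨x, hx, m, rfl⟩ := ha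
    refine ⟨gh κ 0 ^ (2 * m) * x⁻¹ * (gh κ 0 ^ (2 * m))⁻¹, hpow _ (inv_mem hx), 2 * m, ?_⟩
    have e : (gh κ 0 ^ m)⁻¹ = gh κ 0 ^ (2 * m) := inv_eq_of_mul_eq_one_right (by
      rw [← pow_add, show m + 2 * m = 3 * m by ring, pow_mul, gh0_cube, one_pow])
    rw [_root_.mul_inv_rev, e]; group

/-- The properties of the elements. -/
theorem S24_props {s : GL (Fin 3) F} (hs : s ∈ S24 κ) :
    s * gJ = gJ * s ∧ app s wm = wm ∧ kr 1 s ∈ Base κ := by
  obtain ⟨-, hh', -, hq', -, -⟩ := base_gens κ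
  induction hs using Subgroup.closure_induction with
  | mem s hs =>
    rcases hs with rfl | rfl
    · refine ⟨?_, ?_, hh' 0⟩
      · apply Units.ext
        rw [Units.val_mul, Units.val_mul]
        ext i j
        fin_cases i <;> fin_cases j <;> simp [gJ, gh, dgl, Matrix.mul_apply, Fin.sum_univ_three]
      · funext i
        rw [gh, app_dgl]
        fin_cases i <;> simp [wm]
    · refine ⟨?_, ?_, hq'⟩
      · apply Units.ext
        rw [Units.val_mul, Units.val_mul]
        have hω := κ.cube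
        ext i j
        fin_cases i <;> fin_cases j <;>
          simp [gq, gJ, Matrix.mul_apply, Fin.sum_univ_three] <;> grind
      · have h1 : κ.ω - κ.ω ^ 2 ≠ 0 := by
          rw [show κ.ω - κ.ω ^ 2 = κ.ω * (1 - κ.ω) by ring]
          exact mul_ne_zero κ.ω_ne (sub_ne_zero.2 κ.ω_ne_one.symm)
        have hω := κ.cube
        funext i
        rw [app_apply]
        fin_cases i <;> simp [wm, gq, Matrix.mulVec, dotProduct, Fin.sum_univ_three] <;> field_simp <;> grind
  | one => exact ⟨by simp, by simp, by rw [kr_one]; exact one_mem _⟩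
  | mul a b _ _ ha hb =>
    refine ⟨by rw [mul_assoc, hb.1, ← mul_assoc, ha.1, mul_assoc],
      by rw [map_mul, LinearEquiv.mul_apply, hb.2.1, ha.2.1], ?_⟩
    show krR (a * b) ∈ _
    rw [map_mul]; exact mul_mem ha.2.2 hb.2.2
  | inv a _ ha =>
    refine ⟨(Commute.inv_left (show Commute a gJ from ha.1)).eq, ?_, ?_⟩
    · conv_lhs => rw [← ha.2.1]
      exact app_inv_app _ _
    · show krR a⁻¹ ∈ _
      rw [map_inv]; exact inv_mem ha.2.2

/-- An element commuting with the homology: six possibilities. -/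
theorem six {A : Subgroup (GL (Fin 3) F)} (hA : NoTv κ A) (hh : ∀ k, gh κ k ∈ A) (hq : gq κ ∈ A)
    {s : GL (Fin 3) F} (hs : s ∈ A) (hJ : s * gJ = gJ * s) (hw : app s wm = wm)
    (hc : s * gh κ 0 = gh κ 0 * s) : ∃ e m : ℕ, s = gE κ ^ e * gh κ 0 ^ m := by
  have h3 := κ.three
  have h2 := κ.two
  set M := (s : Matrix (Fin 3) (Fin 3) F) with hM
  have c := congrArg Units.val hc
  have j := congrArg Units.val hJ
  rw [Units.val_mul, Units.val_mul, ← hM] at c j
  have c01 := congrFun (congrFun c 0) 1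
  have c02 := congrFun (congrFun c 0) 2
  have c10 := congrFun (congrFun c 1) 0
  have c20 := congrFun (congrFun c 2) 0
  simp [gh, dgl, Matrix.mul_apply, Fin.sum_univ_three, Fld.w_val] at c01 c02 c10 c20
  have j11 := congrFun (congrFun j 1) 2
  have j12 := congrFun (congrFun j 1) 1
  simp [gJ, Matrix.mul_apply, Fin.sum_univ_three] at j11 j12
  have w1 := congrFun hw 1
  rw [app_apply, ← hM] at w1
  simp [wm, Matrix.mulVec, dotProduct, Fin.sum_univ_three] at w1
  have d1 := κ.d1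
  have z01 : M 0 1 = 0 := (mul_eq_zero.1 (show (κ.ω - 1) * M 0 1 = 0 by linear_combination -c01)).resolve_left d1
  have z02 : M 0 2 = 0 := (mul_eq_zero.1 (show (κ.ω - 1) * M 0 2 = 0 by linear_combination -c02)).resolve_left d1
  have z10 : M 1 0 = 0 := (mul_eq_zero.1 (show (κ.ω - 1) * M 1 0 = 0 by linear_combination c10)).resolve_left d1
  have z20 : M 2 0 = 0 := (mul_eq_zero.1 (show (κ.ω - 1) * M 2 0 = 0 by linear_combination c20)).resolve_left d1
  have T := std_tri κ hh hq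
  -- the second coordinate point
  have hμ : M 1 2 = 0 ∨ M 1 1 = 0 := by
    have hu : app s (se 1) = fun i => M i 1 := by
      funext i; rw [app_apply, se, Matrix.mulVec_single_one, ← hM]; rfl
    have h11 : (sf 1 : (Fin 3 → F) →ₗ[F] F) (se 1) = 1 := by simp [std_dual]
    have key : ∀ v ψ, Same (app s (se 1)) (sf 1 ∘ₗ (app s⁻¹).toLinearMap) v ψ →
        ∀ i, M i 1 = ψ (app s (se 1)) * v i := fun v ψ h i => by
      have := congrFun (h (app s (se 1))) i
      rw [LinearMap.comp_apply, LinearEquiv.coe_coe, app_inv_app, h11, one_smul] at this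
      rw [← congrFun hu i, this]; rfl
    rcases twelve_map κ hA hh hq hs h11 (T.frame 1) with ⟨i, h⟩ | ⟨a, b, h⟩
    · have k1 := key _ _ h 1
      have k2 := key _ _ h 2
      fin_cases i <;> simp [se] at k1 k2
      · exact Or.inr k1
      · exact Or.inl (by linear_combination k2 + j12)
      · exact Or.inr k1
    · have k0 := key _ _ h 0
      rw [z01] at k0
      simp [pV, cvec, se, Fin.sum_univ_three, Pi.single_apply] at k0
      have k1 := key _ _ h 1
      simp [pV, cvec, se, Fin.sum_univ_three, Pi.single_apply] at k1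
      rw [← k0] at k1
      exact Or.inr (by simpa using k1)
  set μ := M 1 1 + M 1 2 with hμdef
  have hμ' : μ = 1 ∨ μ = -1 := by
    rcases hμ with e | e
    · left; rw [hμdef, e] ; linear_combination w1 + e
    · right; rw [hμdef, e]; linear_combination -w1 + e
  -- the all-ones point
  have hu : app s (se 0 + se 1 + se 2) = fun i => M i 0 + M i 1 + M i 2 := by
    funext i
    simp only [map_add, Pi.add_apply, app_apply, se, Matrix.mulVec_single_one, ← hM]; rfl
  have hones : ((3 : F)⁻¹ • (sf 0 + sf 1 + sf 2 : (Fin 3 → F) →ₗ[F] F)) (se 0 + se 1 + se 2) = 1 := by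
    simp [std_dual]; field_simp; norm_num
  have key : ∀ v ψ, Same (app s (se 0 + se 1 + se 2))
      (((3 : F)⁻¹ • (sf 0 + sf 1 + sf 2)) ∘ₗ (app s⁻¹).toLinearMap) v ψ →
      ∀ i, M i 0 + M i 1 + M i 2 = ψ (app s (se 0 + se 1 + se 2)) * v i := fun v ψ h i => by
    have := congrFun (h (app s (se 0 + se 1 + se 2))) i
    rw [LinearMap.comp_apply, LinearEquiv.coe_coe, app_inv_app, hones, one_smul] at this
    rw [← congrFun hu i, this]; rfl
  have e1 : M 1 0 + M 1 1 + M 1 2 = μ := by rw [z10, hμdef]; ring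
  have e2 : M 2 0 + M 2 1 + M 2 2 = μ := by rw [z20, hμdef]; linear_combination -j11 - j12
  have μ0 : μ ≠ 0 := by
    rcases hμ' with e | e <;> rw [e] <;> simp
  obtain ⟨m, hm⟩ : ∃ m : ℕ, M 0 0 = μ * κ.ω ^ m := by
    rcases twelve_map κ hA hh hq hs hones T.ones with ⟨i, h⟩ | ⟨a, b, h⟩
    · exfalso
      have k1 := key _ _ h 1
      have k2 := key _ _ h 2
      rw [e1] at k1
      rw [e2] at k2
      fin_cases i <;> simp [se] at k1 k2 <;> first | exact μ0 k1 | exact μ0 k2
    · refine ⟨2 * (a : ℕ), ?_⟩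
      have k0 := key _ _ h 0
      have k1 := key _ _ h 1
      rw [e1] at k1
      rw [z01, z02, add_zero, add_zero] at k0
      simp [pV, cvec, se, Fin.sum_univ_three, Pi.single_apply] at k0 k1
      rw [← k0] at k1
      linear_combination -(κ.ω ^ (2 * (a : ℕ))) * k1 - M 0 0 * inv_pow κ (a : ℕ)
  have hpw : ∀ m : ℕ, gh κ 0 ^ m = dgl fun i => if i = 0 then κ.w ^ m else 1 := by
    intro m
    induction m with
    | zero => simp [← dgl_one]; rfl
    | succ m ih =>
      rw [pow_succ, ih, gh, dgl_mul]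
      congr 1
      funext i
      by_cases hi : i = 0 <;> simp [hi, pow_succ]
  rcases hμ' with hμ1 | hμ1
  · refine ⟨0, m, ?_⟩
    rw [pow_zero, one_mul, hpw]
    apply Units.ext
    rw [← hM]
    ext a b
    rw [hμ1, one_mul] at hm
    rw [hμdef] at hμ1
    fin_cases a <;> fin_cases b <;>
      simp [dgl, Fld.w_val, hm, z01, z02, z10, z20] <;>
      (refine mul_left_cancel₀ h2 ?_; grind)
  · refine ⟨1, m, ?_⟩
    rw [pow_one, hpw]
    apply Units.ext
    rw [← hM, Units.val_mul, gE_val]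
    rw [hμ1, neg_one_mul] at hm
    rw [hμdef] at hμ1
    ext a b
    fin_cases a <;> fin_cases b <;>
      simp [dgl, gJ, Matrix.mul_apply, Fin.sum_univ_three, Fld.w_val, hm, z01, z02, z10, z20] <;>
      (refine mul_left_cancel₀ h2 ?_; grind)

/-- The stabiliser of W- in a group without transvections is the group of order 24. -/
theorem mem_S24_of {A : Subgroup (GL (Fin 3) F)} (hA : NoTv κ A) (hh : ∀ k, gh κ k ∈ A)
    (hq : gq κ ∈ A) {s : GL (Fin 3) F} (hs : s ∈ A) (hJ : s * gJ = gJ * s) (hw : app s wm = wm) :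
    s ∈ S24 κ := by
  classical
  have hS : S24 κ ≤ A := (Subgroup.closure_le _).2 (by
    rintro x (rfl | rfl)
    · exact hh 0
    · exact hq)
  have T := std_tri κ hh hq
  have h00 : (sf 0 : (Fin 3 → F) →ₗ[F] F) (se 0) = 1 := by simp [std_dual]
  have hJu : ((gJ : GL (Fin 3) F) : Matrix (Fin 3) (Fin 3) F) *ᵥ app s (se 0) = app s (se 0) := by
    have e : app gJ (se 0 : Fin 3 → F) = se 0 := by
      funext i; rw [app_apply]; fin_cases i <;> simp [gJ, se, Matrix.mulVec, dotProduct, Fin.sum_univ_three]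
    show app gJ (app s (se 0)) = _
    rw [← LinearEquiv.mul_apply, ← map_mul, ← hJ, map_mul, LinearEquiv.mul_apply, e]
  have u12 : app s (se 0) 1 = app s (se 0) 2 := by
    have := congrFun hJu 1
    simp [gJ, Matrix.mulVec, dotProduct, Fin.sum_univ_three] at this
    rw [app_apply]
    simp [Matrix.mulVec, dotProduct, Fin.sum_univ_three] at this ⊢
    exact this.symm
  -- an element of the group moving the point back
  obtain ⟨w, hw0, c, hc⟩ : ∃ w ∈ S24 κ, ∃ c : F, app s (se 0) = c • app w (se 0) := by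
    have key : ∀ v ψ, Same (app s (se 0)) (sf 0 ∘ₗ (app s⁻¹).toLinearMap) v ψ →
        app s (se 0) = ψ (app s (se 0)) • v := fun v ψ h => by
      have := h (app s (se 0))
      rw [LinearMap.comp_apply, LinearEquiv.coe_coe, app_inv_app, h00, one_smul] at this
      exact this
    rcases twelve_map κ hA hh hq hs h00 (T.frame 0) with ⟨i, h⟩ | ⟨a, b, h⟩
    · have e := key _ _ h
      have hne : (sf i) (app s (se 0)) ≠ 0 := fun e0 => by
        rw [e0, zero_smul] at e
        have := (app s).map_eq_zero_iff.1 e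
        simpa [se] using congrFun this 0
      obtain rfl : i = 0 := by
        rw [e] at u12
        fin_cases i <;> simp [se, sf] at u12 hne ⊢ <;> first | exact hne u12 | exact hne u12.symm
      exact ⟨1, one_mem _, _, by rw [map_one]; exact e⟩
    · have e := key _ _ h
      have hab : a = b := by
        have hne : pD κ sf a b (app s (se 0)) ≠ 0 := fun e0 => by
          rw [e0, zero_smul] at e
          have := (app s).map_eq_zero_iff.1 e
          simpa [se] using congrFun this 0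
        rw [e] at u12
        generalize pD κ sf a b (app s (se 0)) = t at u12 hne
        simp [pV, cvec, se, Fin.sum_univ_three, Pi.single_apply] at u12
        have h' := u12.resolve_right hne
        have hne1 := κ.ω_ne_one
        have hne2 := κ.sq_ne_one
        have hω := κ.cube
        fin_cases a <;> fin_cases b <;> simp at h' ⊢ <;> grind
      refine ⟨wk κ (2 * a), Q8_le κ (Subgroup.subset_closure ⟨_, rfl⟩),
        pD κ sf a b (app s (se 0)) * (κ.ω - κ.ω ^ 2), ?_⟩
      refine e.trans ?_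
      have h1 : κ.ω - κ.ω ^ 2 ≠ 0 := by
        rw [show κ.ω - κ.ω ^ 2 = κ.ω * (1 - κ.ω) by ring]
        exact mul_ne_zero κ.ω_ne (sub_ne_zero.2 κ.ω_ne_one.symm)
      have hpv : pV κ se a b = (κ.ω - κ.ω ^ 2) • app (wk κ (2 * a)) (se 0) := by
        have hω := κ.cube
        have h1m : 1 - κ.ω ≠ 0 := sub_ne_zero.2 κ.ω_ne_one.symm
        subst hab
        funext i
        rw [app_apply, wk]
        fin_cases a <;>
          simp only [gh, pow_zero, pow_one, pow_two, dgl_mul, dgl_inv, Fin.zero_eta, Fin.mk_one,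
            Fin.reduceFinMk, Fin.reduceMul, Fin.val_zero, Fin.val_one, Fin.val_two, mul_zero, inv_one,
            one_mul, mul_one] <;>
          fin_cases i <;>
            simp [pV, cvec, se, gq, dgl, Fin.sum_univ_three, Matrix.mulVec_single_one, Matrix.mul_apply,
              Fld.w_val, κ.inv, Pi.single_apply] <;> field_simp <;> grind
      conv_lhs => rw [hpv, smul_smul]
  have hc0 : c ≠ 0 := fun e => by
    rw [e, zero_smul] at hc
    have := (app s).map_eq_zero_iff.1 hc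
    simpa [se] using congrFun this 0
  set s' := w⁻¹ * s with hs'
  obtain ⟨wJ, ww, -⟩ := S24_props κ (inv_mem hw0)
  have hs'A : s' ∈ A := mul_mem (inv_mem (hS hw0)) hs
  have hu : app s' (se 0) = c • se 0 := by
    rw [hs', map_mul, LinearEquiv.mul_apply, hc, map_smul, app_inv_app]
  have hmem : hom κ.ω (app s' (se 0)) (sf 0 ∘ₗ (app s'⁻¹).toLinearMap) ∈ A := by
    rw [← hom_conj h00 κ.ω_ne]
    exact mul_mem (mul_mem hs'A (T.frame 0)) (inv_mem hs'A)
  have h1' : (sf 0 ∘ₗ (app s'⁻¹).toLinearMap) (app s' (se 0)) = 1 := by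
    simp only [LinearMap.comp_apply, LinearEquiv.coe_coe, app_inv_app, h00]
  have h1c : (c⁻¹ • sf 0 : (Fin 3 → F) →ₗ[F] F) (c • se 0) = 1 := by simp [h00, hc0]
  have hcomm : s' * gh κ 0 = gh κ 0 * s' := by
    rw [← mul_inv_eq_iff_eq_mul, gh_eq_hom, hom_conj h00 κ.ω_ne]
    refine (Same.hom_eq ?_ h1' h1c κ.ω_ne).trans (hom_smul h00 κ.ω_ne hc0)
    intro y
    rw [hu] at hmem h1' ⊢
    exact same_centre κ hA h1' h1c hmem (by rw [hom_smul h00 κ.ω_ne hc0]; exact T.frame 0) y
  obtain ⟨e, m, hem⟩ := six κ hA hh hq hs'A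
    (by rw [hs', mul_assoc, hJ, ← mul_assoc, wJ, mul_assoc])
    (by rw [hs', map_mul, LinearEquiv.mul_apply, hw, ww]) hcomm
  rw [show s = w * (gE κ ^ e * gh κ 0 ^ m) by rw [← hem, hs', mul_inv_cancel_left]]
  exact mul_mem hw0 (mul_mem (pow_mem (Q8_le κ (gE_mem_Q8 κ)) _)
    (pow_mem (Subgroup.subset_closure (by simp)) _))

theorem gE_central {s : GL (Fin 3) F} (hs : s ∈ S24 κ) : gE κ * s = s * gE κ := by
  induction hs using Subgroup.closure_induction with
  | mem s hs =>
    rcases hs with rfl | rfl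
    · exact gE_comm_gh κ
    · rw [gE]; group
  | one => simp
  | mul a b _ _ ha hb => rw [← mul_assoc, ha, mul_assoc, hb, mul_assoc]
  | inv a _ ha => exact ((show Commute (gE κ) a from ha).inv_right).eq

/-- Commutators in the quaternion group. -/
theorem comm_pm {x y : GL (Fin 3) F} (hx : x ∈ Q8g κ) (hy : y ∈ Q8g κ) :
    ⁅x, y⁆ = 1 ∨ ⁅x, y⁆ = gE κ := by
  have hy' := Q8_le κ hy
  have key : ∀ x ∈ Q8g κ, x * y * x⁻¹ = y ∨ x * y * x⁻¹ = gE κ * y := by
    intro x hx
    induction hx using Subgroup.closure_induction with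
    | mem x hx =>
      obtain ⟨k, rfl⟩ := hx
      clear hy'
      induction hy using Subgroup.closure_induction with
      | mem y hy =>
        obtain ⟨l, rfl⟩ := hy
        by_cases hkl : k = l
        · subst hkl; left; group
        · right; rw [wk_anti κ hkl]; group
      | one => left; group
      | mul a b ha' hb' ha hb =>
        have ec := gE_central κ (Q8_le κ ha')
        rcases ha with ha | ha <;> rcases hb with hb | hb
        · left; rw [show wk κ k * (a * b) * (wk κ k)⁻¹ = (wk κ k * a * (wk κ k)⁻¹) * (wk κ k * b * (wk κ k)⁻¹) by group, ha, hb]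
        · right; rw [show wk κ k * (a * b) * (wk κ k)⁻¹ = (wk κ k * a * (wk κ k)⁻¹) * (wk κ k * b * (wk κ k)⁻¹) by group, ha, hb, ← mul_assoc, ← ec, mul_assoc]
        · right; rw [show wk κ k * (a * b) * (wk κ k)⁻¹ = (wk κ k * a * (wk κ k)⁻¹) * (wk κ k * b * (wk κ k)⁻¹) by group, ha, hb, mul_assoc]
        · left; rw [show wk κ k * (a * b) * (wk κ k)⁻¹ = (wk κ k * a * (wk κ k)⁻¹) * (wk κ k * b * (wk κ k)⁻¹) by group, ha, hb,
            show gE κ * a * (gE κ * b) = gE κ * (a * gE κ) * b by group, ← ec, ← mul_assoc (gE κ), gE_sq, one_mul]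
      | inv a ha' ha =>
        have ec := gE_central κ (inv_mem (Q8_le κ ha'))
        rcases ha with ha | ha
        · left; rw [show wk κ k * a⁻¹ * (wk κ k)⁻¹ = (wk κ k * a * (wk κ k)⁻¹)⁻¹ by group, ha]
        · right; rw [show wk κ k * a⁻¹ * (wk κ k)⁻¹ = (wk κ k * a * (wk κ k)⁻¹)⁻¹ by group, ha,
            _root_.mul_inv_rev, gE_inv, ec]
    | one => left; group
    | mul a b ha' hb' ha hb =>
      have ec := gE_central κ (Q8_le κ ha')
      rcases hb with hb | hb <;> rw [show a * b * y * (a * b)⁻¹ = a * (b * y * b⁻¹) * a⁻¹ by group, hb]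
      · exact ha
      · rw [show a * (gE κ * y) * a⁻¹ = (a * gE κ) * y * a⁻¹ by group, ← ec,
          show gE κ * a * y * a⁻¹ = gE κ * (a * y * a⁻¹) by group]
        rcases ha with ha | ha <;> rw [ha]
        · exact Or.inr rfl
        · left; rw [← mul_assoc, gE_sq, one_mul]
    | inv a ha' ha =>
      have ec := gE_central κ (inv_mem (Q8_le κ ha'))
      rcases ha with ha | ha
      · left; conv_lhs => rw [← ha]
        group
      · right
        have : a⁻¹ * (gE κ * y) * a⁻¹⁻¹ = y := by rw [← ha]; group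
        rw [show a⁻¹ * (gE κ * y) * a⁻¹⁻¹ = (a⁻¹ * gE κ) * y * a⁻¹⁻¹ by group, ← ec,
          show gE κ * a⁻¹ * y * a⁻¹⁻¹ = gE κ * (a⁻¹ * y * a⁻¹⁻¹) by group] at this
        rw [eq_inv_mul_of_mul_eq this, gE_inv]
  rcases key x hx with h | h
  · left; rw [commutatorElement_def, h, mul_inv_cancel]
  · right; rw [commutatorElement_def, h, mul_inv_cancel_right]

/-- Commutators of the group of order 24 with the quaternion group lie in the latter. -/
theorem comm_Q8 {s y : GL (Fin 3) F} (hs : s ∈ S24 κ) (hy : y ∈ Q8g κ) : ⁅s, y⁆ ∈ Q8g κ := by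
  obtain ⟨x, hx, m, rfl⟩ := S24_form κ hs
  clear hs
  have : gh κ 0 ^ m * y * (gh κ 0 ^ m)⁻¹ ∈ Q8g κ := by
    induction m with
    | zero => simpa using hy
    | succ m ih =>
      rw [pow_succ', show gh κ 0 * gh κ 0 ^ m * y * (gh κ 0 * gh κ 0 ^ m)⁻¹ =
        gh κ 0 * (gh κ 0 ^ m * y * (gh κ 0 ^ m)⁻¹) * (gh κ 0)⁻¹ by group]
      exact gh_norm_Q8 κ ih
  rw [commutatorElement_def, show x * gh κ 0 ^ m * y * (x * gh κ 0 ^ m)⁻¹ * y⁻¹ =
    x * (gh κ 0 ^ m * y * (gh κ 0 ^ m)⁻¹) * x⁻¹ * y⁻¹ by group]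
  exact mul_mem (mul_mem (mul_mem hx this) (inv_mem hx)) (inv_mem hy)

/-- Only ±1 centralise the quaternion group. -/
theorem central_pm {A : Subgroup (GL (Fin 3) F)} (hA : NoTv κ A) (hh : ∀ k, gh κ k ∈ A)
    (hq : gq κ ∈ A) {s : GL (Fin 3) F} (hs : s ∈ S24 κ)
    (hc : ∀ y ∈ Q8g κ, s * y = y * s) : s = 1 ∨ s = gE κ := by
  have hS : S24 κ ≤ A := (Subgroup.closure_le _).2 (by
    rintro x (rfl | rfl)
    · exact hh 0
    · exact hq)
  obtain ⟨hJ, hw, -⟩ := S24_props κ hs
  have h0 := hc _ (Subgroup.subset_closure ⟨0, rfl⟩)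
  have h1 := hc _ (Subgroup.subset_closure ⟨1, rfl⟩)
  rw [wk_gq] at h0
  set M := (s : Matrix (Fin 3) (Fin 3) F) with hM
  have j := congrArg Units.val hJ
  have q0 := congrArg Units.val h0
  have q1 := congrArg Units.val h1
  simp only [wk, Fin.val_one, pow_one, gh, dgl_inv, Units.val_mul, ← hM] at j q0 q1
  have e0 := congrFun (congrFun q0 0) 0
  have e1 := congrFun (congrFun q1 0) 0
  have j1 := congrFun (congrFun j 0) 1
  have j2 := congrFun (congrFun j 1) 0
  simp [gq, gJ, dgl, Matrix.mul_apply, Fin.sum_univ_three, Fld.w_val, κ.inv] at e0 e1 j1 j2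
  have h1' : κ.ω - κ.ω ^ 2 ≠ 0 := by
    rw [show κ.ω - κ.ω ^ 2 = κ.ω * (1 - κ.ω) by ring]
    exact mul_ne_zero κ.ω_ne (sub_ne_zero.2 κ.ω_ne_one.symm)
  have hω := κ.cube
  have h2 := κ.two
  field_simp at e0 e1
  have b0 : M 0 1 = 0 := by
    have hb : 2 * (κ.ω ^ 2 - κ.ω) * M 0 1 = 0 := by grind
    exact (mul_eq_zero.1 hb).resolve_left (mul_ne_zero h2 fun e => h1' (by linear_combination -e))
  have c0 : M 1 0 = 0 := by grind
  have b1 : M 0 2 = 0 := by grind
  have c1 : M 2 0 = 0 := by grind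
  obtain ⟨e, m, rfl⟩ := six κ hA hh hq (hS hs) hJ hw (by
    apply Units.ext
    rw [Units.val_mul, Units.val_mul, ← hM]
    ext a b
    fin_cases a <;> fin_cases b <;>
      simp [gh, dgl, Matrix.mul_apply, Fin.sum_univ_three, Fld.w_val, b0, b1, c0, c1, mul_comm])
  have hm : gh κ 0 ^ m * gq κ = gq κ * gh κ 0 ^ m := by
    have ec : gE κ ^ e * gq κ = gq κ * gE κ ^ e :=
      (Commute.pow_left (show Commute (gE κ) (gq κ) by rw [gE]; exact (Commute.refl _).mul_left (Commute.refl _)) e).eq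
    refine mul_left_cancel (a := gE κ ^ e) ?_
    rw [← mul_assoc, h0, ← mul_assoc, ← ec, mul_assoc]
  have m3 : gh κ 0 ^ m = gh κ 0 ^ (m % 3) := by
    conv_lhs => rw [← Nat.mod_add_div m 3, pow_add, pow_mul, gh0_cube, one_pow, mul_one]
  rw [m3] at hm ⊢
  have hlt : m % 3 < 3 := Nat.mod_lt _ (by norm_num)
  have key : m % 3 = 0 := by
    by_contra hne
    set k : Fin 3 := ⟨m % 3, hlt⟩ with hk
    have hw' : wk κ k = wk κ 0 := by
      rw [wk_gq]
      show gh κ 0 ^ (m % 3) * gq κ * (gh κ 0 ^ (m % 3))⁻¹ = gq κ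
      rw [hm, mul_inv_cancel_right]
    have := wk_anti κ (i := k) (j := 0) (fun e => hne (congrArg Fin.val e))
    rw [hw', wk_sq, gE_sq] at this
    exact gE_ne_one κ this
  rw [key, pow_zero, mul_one]
  rcases Nat.even_or_odd' e with ⟨l, rfl | rfl⟩
  · left; rw [pow_mul, pow_two, gE_sq, one_pow]
  · right; rw [pow_succ, pow_mul, pow_two, gE_sq, one_pow, one_mul]

end Cfsg.Agent.C6NineOdd
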