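/-
The kernel of the centraliser of the involution of one factor on U ⊗ W-: centralisers of the left factor.
Main results: `K1`, `cK1Z`, `cK1pair`.
-/
import Cfsg.Agent.Lib.C6NineOdd.Swap

set_option autoImplicit false
set_option linter.unusedSectionVars false
set_option linter.unusedSimpArgs false

namespace Cfsg.Agent.C6NineOdd

open Matrix Cfsg.Agent.Transvect
open scoped Matrix Kronecker commutatorElement

variable {F : Type*} [Field F] [Fintype F] (κ : Fld F)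

/-- Elements of H commuting with 1 ⊗ jM and trivial on U ⊗ W-. -/
def K1 (H : Subgroup (GL I9 F)) : Subgroup (GL I9 F) where
  carrier := {g | g ∈ H ∧ g * kr 1 gJ = kr 1 gJ * g ∧
    (g : Matrix I9 I9 F) * ((1 : Matrix (Fin 3) (Fin 3) F) ⊗ₖ Pm) = (1 : Matrix (Fin 3) (Fin 3) F) ⊗ₖ Pm}
  one_mem' := ⟨one_mem _, by simp, by simp⟩
  mul_mem' := by
    rintro a b ⟨ha, ha1, ha2⟩ ⟨hb, hb1, hb2⟩
    exact ⟨mul_mem ha hb, by rw [mul_assoc, hb1, ← mul_assoc, ha1, mul_assoc],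
      by rw [Units.val_mul, Matrix.mul_assoc, hb2, ha2]⟩
  inv_mem' := by
    rintro a ⟨ha, ha1, ha2⟩
    refine ⟨inv_mem ha, (Commute.inv_left (show Commute a (kr 1 gJ) from ha1)).eq, ?_⟩
    conv_lhs => rw [← ha2, ← Matrix.mul_assoc, ← Units.val_mul, inv_mul_cancel, Units.val_one, Matrix.one_mul]

theorem krR_mem_K1 {H : Subgroup (GL I9 F)} (O : Ovr κ H) {s : GL (Fin 3) F} (hs : s ∈ S24 κ) :
    kr 1 s ∈ K1 H := by
  obtain ⟨hJ, hw, hb⟩ := S24_props κ hs
  refine ⟨O.base hb, by rw [kr_mul, kr_mul, hJ], ?_⟩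
  show ((1 : GL (Fin 3) F) : Matrix (Fin 3) (Fin 3) F) ⊗ₖ (s : Matrix (Fin 3) (Fin 3) F) * _ = _
  rw [← Matrix.mul_kronecker_mul, one_kron_Pm_fix s hw, Units.val_one, one_mul]

/-- The left factor normalises the kernel. -/
theorem K1_conj {H : Subgroup (GL I9 F)} {g : GL I9 F} (hg : g ∈ K1 H) {n : GL (Fin 3) F}
    (hn : kr n 1 ∈ H) : kr n 1 * g * (kr n 1)⁻¹ ∈ K1 H := by
  obtain ⟨hgH, hg1, hg2⟩ := hg
  have hc : Commute (kr n 1 : GL I9 F) (kr 1 gJ) := by
    show _ * _ = _ * _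
    rw [kr_mul, kr_mul, one_mul, mul_one, one_mul, mul_one]
  refine ⟨mul_mem (mul_mem hn hgH) (inv_mem hn),
    ((hc.mul_left hg1).mul_left hc.inv_left).eq, ?_⟩
  have e1 : ((kr n 1)⁻¹ : GL I9 F).val * ((1 : Matrix (Fin 3) (Fin 3) F) ⊗ₖ Pm) =
      (((1 : Matrix (Fin 3) (Fin 3) F) ⊗ₖ Pm) * ((kr n 1)⁻¹ : GL I9 F).val : Matrix I9 I9 F) := by
    show (((n⁻¹ : GL (Fin 3) F) : Matrix (Fin 3) (Fin 3) F) ⊗ₖ ((1⁻¹ : GL (Fin 3) F) : Matrix (Fin 3) (Fin 3) F)) * _ = _ *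
      (((n⁻¹ : GL (Fin 3) F) : Matrix (Fin 3) (Fin 3) F) ⊗ₖ ((1⁻¹ : GL (Fin 3) F) : Matrix (Fin 3) (Fin 3) F))
    rw [← Matrix.mul_kronecker_mul, ← Matrix.mul_kronecker_mul, inv_one, Units.val_one]
    simp
  have e2 : (kr n 1 : GL I9 F).val * ((1 : Matrix (Fin 3) (Fin 3) F) ⊗ₖ Pm) =
      (((1 : Matrix (Fin 3) (Fin 3) F) ⊗ₖ Pm) * (kr n 1 : GL I9 F).val : Matrix I9 I9 F) := by
    show ((n : Matrix (Fin 3) (Fin 3) F) ⊗ₖ ((1 : GL (Fin 3) F) : Matrix (Fin 3) (Fin 3) F)) * _ = _ *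
      ((n : Matrix (Fin 3) (Fin 3) F) ⊗ₖ ((1 : GL (Fin 3) F) : Matrix (Fin 3) (Fin 3) F))
    rw [← Matrix.mul_kronecker_mul, ← Matrix.mul_kronecker_mul, Units.val_one]
    simp
  rw [Units.val_mul, Units.val_mul, Matrix.mul_assoc, e1, ← Matrix.mul_assoc,
    Matrix.mul_assoc (kr n 1 : GL I9 F).val, hg2, e2, Matrix.mul_assoc, ← Units.val_mul,
    mul_inv_cancel, Units.val_one, Matrix.mul_one]

theorem pm_tuple_false {H : Subgroup (GL I9 F)} (O : Ovr κ H) {t : Fin 3 → GL (Fin 3) F}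
    (ht : bdiag t ∈ H) (h0 : t 0 = 1) (hpm : ∀ i, t i = 1 ∨ t i = gE κ) : ∀ i, t i = 1 := by
  obtain ⟨-, -, -, hq', -, -⟩ := base_gens κ
  have hX : kr (gX : GL (Fin 3) F) 1 ∈ H := O.base (R9_le_base κ (mem_R9_gens κ).1)
  have bad : bdiag (fun i : Fin 3 => if i = 0 then gE κ else 1) ∉ H := fun hm => by
    refine O.biref_not_mem κ ?_
    convert hm using 1
    apply Units.ext
    rw [pq_val]
    ext ⟨i, k⟩ ⟨j, l⟩
    rw [bdiag_val]
    obtain ⟨-, -, -, -, hsum⟩ := proj_rules κ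
    have hs := congrFun (congrFun hsum k) l
    simp only [Matrix.add_apply] at hs
    simp only [Matrix.add_apply, Matrix.kroneckerMap_apply, Units.val_one, gR, dgl,
      Matrix.diagonal_apply, Matrix.one_apply] at hs ⊢
    by_cases hij : i = j
    · subst hij
      by_cases hi : i = 0
      · subst hi
        simp only [if_true, gE_val, Matrix.neg_apply, Units.val_neg, Units.val_one]
        simp only [Pp, Pm, Matrix.smul_apply, Matrix.add_apply, Matrix.sub_apply, smul_eq_mul,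
          Matrix.one_apply] at hs ⊢
        have h2 := κ.two
        field_simp
        ring
      · simp only [hi, if_false, if_true, Units.val_one, Matrix.one_apply, one_mul]
        exact hs
    · simp [hij]
  have shift : ∀ t : Fin 3 → GL (Fin 3) F, bdiag t ∈ H → bdiag (fun i => t (i - 1)) ∈ H :=
    fun t h => bdiag_shift t ▸ mul_mem (mul_mem hX h) (inv_mem hX)
  have hE : bdiag (fun _ : Fin 3 => gE κ) ∈ H := by
    rw [bdiag_const]
    show krR (gq κ * gq κ) ∈ H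
    rw [map_mul]; exact mul_mem (O.base hq') (O.base hq')
  intro i
  by_contra hne
  have e1 : (-1 : Fin 3) = 2 := rfl
  have e2 : (-1 - 1 : Fin 3) = 1 := rfl
  rcases hpm 1 with h1 | h1 <;> rcases hpm 2 with h2 | h2
  · exact hne (by fin_cases i <;> assumption)
  · refine bad ?_
    convert shift t ht using 2
    funext i; fin_cases i <;> simp [h0, h1, h2, e1, e2]
  · refine bad ?_
    convert shift _ (shift t ht) using 2
    funext i; fin_cases i <;> simp [h0, h1, h2, e1, e2]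
  · refine bad ?_
    convert mul_mem hE ht using 1
    rw [← map_mul]
    congr 1
    funext i; fin_cases i <;> simp [h0, h1, h2, gE_sq]

theorem S24_tuple {H : Subgroup (GL I9 F)} (O : Ovr κ H) {t : Fin 3 → GL (Fin 3) F}
    (ht : bdiag t ∈ H) (h0 : t 0 = 1) (hS : ∀ i, t i ∈ S24 κ) : ∀ i, t i = 1 := by
  have hA := Ablk_gens κ (O.swap κ) 0
  have hN := Ablk_noTv κ (O.swap κ) 0
  have step : ∀ (t : Fin 3 → GL (Fin 3) F), bdiag t ∈ H → t 0 = 1 → ∀ y ∈ Q8g κ,
      bdiag (fun i => ⁅t i, y⁆) ∈ H ∧ ⁅t 0, y⁆ = 1 := by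
    intro t ht h0 y hy
    refine ⟨?_, by rw [h0, commutatorElement_one_left]⟩
    have hb : bdiag (fun _ : Fin 3 => y) ∈ H := by
      rw [bdiag_const]; exact O.base (S24_props κ (Q8_le κ hy)).2.2
    rw [show (fun i => ⁅t i, y⁆) = ⁅t, fun _ => y⁆ from rfl, map_commutatorElement, commutatorElement_def]
    exact mul_mem (mul_mem (mul_mem ht hb) (inv_mem ht)) (inv_mem hb)
  have reduce : ∀ (t : Fin 3 → GL (Fin 3) F), bdiag t ∈ H → t 0 = 1 → (∀ i, t i ∈ S24 κ) →
      (∀ y ∈ Q8g κ, ∀ i, ⁅t i, y⁆ = 1) → ∀ i, t i = 1 := fun t ht h0 hS hc =>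
    pm_tuple_false κ O ht h0 fun i => central_pm κ hN hA.1 hA.2 (hS i) fun y hy =>
      commutatorElement_eq_one_iff_mul_comm.1 (hc y hy i)
  have q8 : ∀ (t : Fin 3 → GL (Fin 3) F), bdiag t ∈ H → t 0 = 1 → (∀ i, t i ∈ Q8g κ) → ∀ i, t i = 1 :=
    fun t ht h0 hQ => reduce t ht h0 (fun i => Q8_le κ (hQ i)) fun y hy =>
      pm_tuple_false κ O (step t ht h0 y hy).1 (step t ht h0 y hy).2 fun i => comm_pm κ (hQ i) hy
  exact reduce t ht h0 hS fun y hy =>
    q8 _ (step t ht h0 y hy).1 (step t ht h0 y hy).2 fun i => comm_Q8 κ (hS i) hy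

/-- The centraliser of Z ⊗ 1 in the kernel. -/
theorem cK1Z {H : Subgroup (GL I9 F)} (O : Ovr κ H) {g : GL I9 F} (hg : g ∈ K1 H)
    (hc : g * kr (gZ κ) 1 = kr (gZ κ) 1 * g) : ∃ s ∈ S24 κ, g = kr 1 s := by
  obtain ⟨hgH, hg1, hg2⟩ := hg
  have hCB : swE g ∈ CB κ (swH H) := by
    refine Subgroup.mem_inf.2 ⟨mem_swH.2 (by rw [swE_swE]; exact hgH),
      Subgroup.mem_centralizer_singleton_iff.2 ?_⟩
    rw [← swE_kr (gZ κ) 1, ← map_mul, ← map_mul, hc]
  set s : Fin 3 → GL (Fin 3) F := fun i => bl κ (swH H) i ⟨swE g, hCB⟩ with hs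
  have hgs : g = bdiag s := by
    apply Units.ext
    ext ⟨i, k⟩ ⟨j, l⟩
    rw [bdiag_val]
    by_cases hij : i = j
    · subst hij
      rw [if_pos rfl, hs, bl_val, swE_val]; rfl
    · rw [if_neg hij]
      have := CB_off κ hCB (i := k) (j := l) hij
      rwa [swE_val] at this
  have hS : ∀ i, s i ∈ S24 κ := by
    intro i
    refine mem_S24_of κ (Ablk_noTv κ (O.swap κ) i) (Ablk_gens κ (O.swap κ) i).1
      (Ablk_gens κ (O.swap κ) i).2 ⟨_, rfl⟩ ?_ ?_
    · have h : bdiag s * kr 1 gJ = kr 1 gJ * bdiag s := hgs ▸ hg1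
      rw [← bdiag_const, ← map_mul, ← map_mul] at h
      apply Units.ext
      ext k l
      have h' : ((bdiag (s * fun _ => gJ) : GL I9 F) : Matrix I9 I9 F) = (bdiag ((fun _ => gJ) * s) : GL I9 F) := by
        rw [h]
      have := congrFun (congrFun h' (i, k)) (i, l)
      rw [bdiag_val, bdiag_val, if_pos rfl, if_pos rfl] at this
      exact this
    · rw [hgs] at hg2
      have e : ∀ k l, ((s i : Matrix (Fin 3) (Fin 3) F) * (Pm : Matrix (Fin 3) (Fin 3) F)) k l = (Pm : Matrix (Fin 3) (Fin 3) F) k l := by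
        intro k l
        have := congrFun (congrFun hg2 (i, k)) (i, l)
        rw [Matrix.mul_apply, Fintype.sum_prod_type,
          Finset.sum_eq_single i (fun b _ hb => by simp [bdiag_val, Ne.symm hb])
            (fun h => absurd (Finset.mem_univ i) h)] at this
        simpa [bdiag_val, Matrix.mul_apply, Matrix.kroneckerMap_apply] using this
      have h2 := κ.two
      funext k
      have := e k 1
      rw [app_apply]
      simp [Matrix.mul_apply, Pm, gJ, Fin.sum_univ_three] at this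
      simp [wm, Matrix.mulVec, dotProduct, Fin.sum_univ_three]
      fin_cases k <;> simp [wm, Matrix.one_apply] at this ⊢ <;> field_simp at this <;> linear_combination this
  have h0 := (S24_props κ (inv_mem (hS 0))).2.2
  have ht : bdiag (fun i => (s 0)⁻¹ * s i) ∈ H := by
    rw [show (fun i => (s 0)⁻¹ * s i) = (fun _ => (s 0)⁻¹) * s from rfl, map_mul, bdiag_const, ← hgs]
    exact mul_mem (O.base h0) hgH
  have := S24_tuple κ O ht (inv_mul_cancel _) (fun i => mul_mem (inv_mem (hS 0)) (hS i))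
  refine ⟨s 0, hS 0, ?_⟩
  rw [hgs, ← bdiag_const]
  congr 1
  funext i
  exact (inv_mul_eq_one.1 (this i)).symm

theorem XZ_pow (i j : ℕ) (hi : i % 3 ≠ 0) : ∃ k : ℕ, ∃ c : ℕ,
    (gX ^ i * gZ κ ^ j) ^ i =
      dgl (fun _ => κ.w ^ c) * (gh κ 0 ^ k * (gX : GL (Fin 3) F) * (gh κ 0 ^ k)⁻¹) := by
  have hX3 : (gX : GL (Fin 3) F) ^ 3 = 1 := by
    apply Units.ext
    rw [Units.val_pow_eq_pow_val, Units.val_one]
    ext a b
    fin_cases a <;> fin_cases b <;> simp [gX, pow_succ, Matrix.mul_apply, Fin.sum_univ_three]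
  have hZ3 : gZ κ ^ 3 = 1 := by
    rw [pow_succ, pow_two, gZ, dgl_mul, dgl_mul, ← dgl_one]
    congr 1
    funext a
    simp only [Pi.mul_apply, Pi.one_apply]
    rw [← pow_two, ← pow_succ, ← pow_mul, mul_comm, pow_mul, κ.w_cube, one_pow]
  have hg : (gX ^ i * gZ κ ^ j : GL (Fin 3) F) = gX ^ (i % 3) * gZ κ ^ (j % 3) := by
    conv_lhs => rw [← Nat.mod_add_div i 3, ← Nat.mod_add_div j 3, pow_add, pow_add, pow_mul, pow_mul,
      hX3, hZ3, one_pow, one_pow, mul_one, mul_one]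
  set i' := i % 3 with hi'
  set j' := j % 3 with hj'
  have hω := κ.cube
  have cube : ∀ g : GL (Fin 3) F, g = gX ^ i' * gZ κ ^ j' → g ^ 3 = 1 → g ^ i = g ^ i' := fun g _ h3 => by
    conv_lhs => rw [← Nat.mod_add_div i 3, pow_add, pow_mul, h3, one_pow, mul_one]
  have hi3 : i' = 1 ∨ i' = 2 := by omega
  have hj3 : j' = 0 ∨ j' = 1 ∨ j' = 2 := by omega
  rw [hg]
  refine ⟨(i' * j') % 3, j', ?_⟩
  rw [cube _ rfl (by
    apply Units.ext
    rw [gZ]
    rcases hi3 with e | e <;> rcases hj3 with f | f | f <;> rw [e, f] <;>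
      simp only [pow_zero, pow_one, pow_two, pow_succ, one_mul, mul_one, dgl_mul] <;>
      ext a b <;> fin_cases a <;> fin_cases b <;>
      simp [gX, dgl, Matrix.mul_apply, Fin.sum_univ_three, Fld.w_val] <;> grind)]
  apply Units.ext
  rw [gh, gZ]
  rcases hi3 with e | e <;> rcases hj3 with f | f | f <;> rw [e, f] <;>
    simp only [Nat.reduceMul, Nat.reduceMod, pow_zero, pow_one, pow_two, one_mul, mul_one, inv_one,
      dgl_mul, dgl_inv] <;>
    ext a b <;> fin_cases a <;> fin_cases b <;>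
    simp [gX, dgl, Matrix.mul_apply, Fin.sum_univ_three, Fld.w_val, κ.inv] <;> grind

/-- The centraliser of a non-central element of the left extraspecial group. -/
theorem cK1pair {H : Subgroup (GL I9 F)} (O : Ovr κ H) {g : GL I9 F} (hg : g ∈ K1 H) {i j : ℕ}
    (hij : ¬ (3 ∣ i ∧ 3 ∣ j)) (hc : g * kr (gX ^ i * gZ κ ^ j) 1 = kr (gX ^ i * gZ κ ^ j) 1 * g) :
    ∃ s ∈ S24 κ, g = kr 1 s := by
  obtain ⟨hh, -, hq, -, -, -⟩ := base_gens κ
  have hX3 : (gX : GL (Fin 3) F) ^ 3 = 1 := by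
    apply Units.ext
    rw [Units.val_pow_eq_pow_val, Units.val_one]
    ext a b
    fin_cases a <;> fin_cases b <;> simp [gX, pow_succ, Matrix.mul_apply, Fin.sum_univ_three]
  have hZ3 : gZ κ ^ 3 = 1 := by
    rw [pow_succ, pow_two, gZ, dgl_mul, dgl_mul, ← dgl_one]
    congr 1
    funext a
    simp only [Pi.mul_apply, Pi.one_apply]
    rw [← pow_two, ← pow_succ, ← pow_mul, mul_comm, pow_mul, κ.w_cube, one_pow]
  have hc' : ∀ m : ℕ, Commute g (krL ((gX ^ i * gZ κ ^ j) ^ m)) := fun m => by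
    rw [map_pow]
    exact (show Commute g (krL (gX ^ i * gZ κ ^ j)) from hc).pow_right m
  by_cases hi : i % 3 = 0
  · refine cK1Z κ O hg ?_
    have hj : j % 3 = 1 ∨ j % 3 = 2 := by omega
    have := hc' (j % 3)
    have e : (gX ^ i * gZ κ ^ j) ^ (j % 3) = gZ κ := by
      conv_lhs => rw [← Nat.mod_add_div i 3, hi, zero_add, pow_mul, hX3, one_pow, one_mul,
        ← pow_mul, ← Nat.mod_add_div (j * (j % 3)) 3, pow_add, pow_mul, hZ3, one_pow, mul_one]
      rcases hj with e | e <;> rw [Nat.mul_mod, e] <;> simp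
    rw [e] at this
    exact this.eq
  · obtain ⟨k, c, hk⟩ := XZ_pow κ i j hi
    have h1 := hc' i
    rw [hk, map_mul] at h1
    have hcent : ∀ x : GL I9 F, Commute x (krL (dgl fun _ : Fin 3 => κ.w ^ c)) := fun x => by
      show x * kr _ 1 = kr _ 1 * x
      rw [krL_wdgl]
      apply Units.ext
      rw [Units.val_mul, Units.val_mul]
      have : ((dgl fun _ : I9 => κ.w ^ c : GL I9 F) : Matrix I9 I9 F) = (κ.ω ^ c) • 1 := by
        rw [Matrix.smul_one_eq_diagonal]; simp [dgl, Fld.w_val]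
      rw [this]; simp
    set A := gh κ 0 ^ k * (gX : GL (Fin 3) F) * (gh κ 0 ^ k)⁻¹ with hA
    have h2 : Commute g (krL A) := by
      have := (hcent g).inv_right.mul_right h1
      rwa [inv_mul_cancel_left] at this
    set n := gh κ 0 ^ k * gq κ with hn
    have hnH : kr n 1 ∈ H := by
      show krL n ∈ H
      rw [hn, map_mul, map_pow]
      exact O.base (mul_mem (pow_mem (hh 0) k) hq)
    have hnA : n * gZ κ * n⁻¹ = A⁻¹ := by
      rw [hn, hA, _root_.mul_inv_rev, mul_assoc (gh κ 0 ^ k), gq_Z]; group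
    have hninv : kr n⁻¹ 1 = ((kr n 1)⁻¹ : GL I9 F) := by
      show krL n⁻¹ = (krL n)⁻¹
      rw [map_inv]
    have hg' := K1_conj hg (n := n⁻¹) (by rw [hninv]; exact inv_mem hnH)
    rw [hninv, inv_inv] at hg'
    obtain ⟨s, hs, hgs⟩ := cK1Z κ O hg' (by
      have h3 : Commute g (krL (n * gZ κ * n⁻¹)) := by rw [hnA, map_inv]; exact h2.inv_right
      rw [map_mul, map_mul, map_inv] at h3
      show ((krL n)⁻¹ * g * krL n) * krL (gZ κ) = krL (gZ κ) * ((krL n)⁻¹ * g * krL n)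
      have h4 := h3.eq
      calc (krL n)⁻¹ * g * krL n * krL (gZ κ)
          = (krL n)⁻¹ * (g * (krL n * krL (gZ κ) * (krL n)⁻¹)) * krL n := by group
        _ = (krL n)⁻¹ * (krL n * krL (gZ κ) * (krL n)⁻¹ * g) * krL n := by rw [h4]
        _ = _ := by group)
    refine ⟨s, hs, ?_⟩
    have : g = kr n 1 * kr 1 s * (kr n 1)⁻¹ := by rw [← hgs]; group
    rw [this, kr_mul, one_mul, mul_one, ← hninv, kr_mul, mul_inv_cancel, mul_one]

end Cfsg.Agent.C6NineOdd
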