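/-
The kernel of the centraliser of the involution of one factor on U ⊗ W-.
Main results: `K1_eq`.
-/
import Cfsg.Agent.Lib.C6NineOdd.KernelJCent
import Cfsg.Agent.Lib.C6NineOdd.FixedMod
import Cfsg.Agent.Lib.Coprime.Generation

set_option autoImplicit false
set_option linter.unusedSectionVars false
set_option linter.unusedSimpArgs false

namespace Cfsg.Agent.C6NineOdd

open Matrix Cfsg.Agent.Transvect
open scoped Matrix Kronecker commutatorElement

variable {F : Type*} [Field F] [Fintype F] (κ : Fld F)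

theorem krR_injective : Function.Injective (krR : GL (Fin 3) F →* GL I9 F) := by
  intro a b h
  apply Units.ext
  ext k l
  have : ((kr 1 a : GL I9 F) : Matrix I9 I9 F) (0, k) (0, l) = (kr 1 b : GL I9 F).val (0, k) (0, l) := by
    show (krR a).val _ _ = (krR b).val _ _
    rw [h]
  simpa [kr_val] using this

theorem trace_gh (n : ℕ) :
    Matrix.trace ((gh κ 0 ^ n : GL (Fin 3) F) : Matrix (Fin 3) (Fin 3) F) = κ.ω ^ n + 2 := by
  have : (gh κ 0 ^ n : GL (Fin 3) F) = dgl fun i => if i = 0 then κ.w ^ n else 1 := by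
    induction n with
    | zero => rw [pow_zero, ← dgl_one]; congr 1; funext i; simp
    | succ n ih =>
      rw [pow_succ, ih, gh, dgl_mul]
      congr 1
      funext i
      simp only [Pi.mul_apply]
      split_ifs <;> simp [pow_succ]
  rw [this]
  simp [dgl, Matrix.trace, Fin.sum_univ_three, Fld.w_val]
  ring

theorem trace_kr_gh (n : ℕ) :
    Matrix.trace ((kr 1 (gh κ 0 ^ n) : GL I9 F) : Matrix I9 I9 F) = 3 * (κ.ω ^ n + 2) := by
  rw [← trace_gh κ n]
  simp only [Matrix.trace, Matrix.diag, Fintype.sum_prod_type, kr_val, Units.val_one, Matrix.one_apply_eq,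
    one_mul, Finset.sum_const, Finset.card_univ, Fintype.card_fin, nsmul_eq_mul]
  norm_num

/-- A conjugate of the homology inside its cyclic group is itself. -/
theorem fix_gen {g : GL I9 F} {n : ℕ} (h : g * kr 1 (gh κ 0) * g⁻¹ = kr 1 (gh κ 0 ^ n)) :
    g * kr 1 (gh κ 0) = kr 1 (gh κ 0) * g := by
  have e : ∀ m : ℕ, gh κ 0 ^ m = gh κ 0 ^ (m % 3) := fun m => by
    conv_lhs => rw [← Nat.mod_add_div m 3, pow_add, pow_mul, gh0_cube, one_pow, mul_one]
  have ht : Matrix.trace ((g * kr 1 (gh κ 0) * g⁻¹ : GL I9 F) : Matrix I9 I9 F) =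
      3 * (κ.ω ^ 1 + 2) := by
    rw [← trace_kr_gh κ 1, pow_one, Units.val_mul, Units.val_mul, Matrix.trace_mul_comm,
      ← Matrix.mul_assoc, ← Units.val_mul, inv_mul_cancel, Units.val_one, Matrix.one_mul]
  rw [h, trace_kr_gh] at ht
  have h3 := κ.three
  have ht' : κ.ω ^ n = κ.ω := by
    have := mul_left_cancel₀ h3 ht
    linear_combination this
  have hω : κ.ω ^ n = κ.ω ^ (n % 3) := by
    conv_lhs => rw [← Nat.mod_add_div n 3, pow_add, pow_mul, κ.cube, one_pow, mul_one]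
  rw [hω] at ht'
  have hn : n % 3 = 0 ∨ n % 3 = 1 ∨ n % 3 = 2 := by omega
  rcases hn with hn | hn | hn <;> rw [hn] at ht'
  · exact absurd (by simpa using ht'.symm) κ.ω_ne_one
  · rw [e n, hn, pow_one] at h
    conv_rhs => rw [← h]
    group
  · refine absurd ?_ κ.ω_ne_one
    refine mul_left_cancel₀ κ.ω_ne ?_
    linear_combination ht'

/-- A scalar in the kernel is one. -/
theorem K1_scalar (κ : Fld F) {H : Subgroup (GL I9 F)} {g : GL I9 F} (hg : g ∈ K1 H)
    (hs : g ∈ Cfsg.Geo.scalars I9 F) : g = 1 := by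
  obtain ⟨c, hc⟩ := (Cfsg.Geo.mem_scalars_iff g).1 hs
  have h := congrFun (congrFun hg.2.2 ((0 : Fin 3), (1 : Fin 3))) ((0 : Fin 3), (1 : Fin 3))
  rw [hc, Matrix.smul_mul, Matrix.one_mul, Matrix.smul_apply, smul_eq_mul] at h
  have h2 := κ.two
  have hne : ((1 : Matrix (Fin 3) (Fin 3) F) ⊗ₖ Pm) ((0 : Fin 3), (1 : Fin 3)) ((0 : Fin 3), (1 : Fin 3)) ≠ 0 := by
    simp [Pm, gJ]
    exact h2
  have hc1 : (c : F) = 1 := mul_right_cancel₀ hne (by rw [one_mul]; exact h)
  apply Units.ext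
  rw [hc, hc1, one_smul, Units.val_one]

theorem gX_cube : (gX : GL (Fin 3) F) ^ 3 = 1 := by
  apply Units.ext
  rw [Units.val_pow_eq_pow_val, Units.val_one]
  ext a b
  fin_cases a <;> fin_cases b <;> simp [gX, pow_succ, Matrix.mul_apply, Fin.sum_univ_three]

theorem gZ_cube : gZ κ ^ 3 = 1 := by
  rw [pow_succ, pow_two, gZ, dgl_mul, dgl_mul, ← dgl_one]
  congr 1
  funext a
  simp only [Pi.mul_apply, Pi.one_apply]
  rw [← pow_two, ← pow_succ, ← pow_mul, mul_comm, pow_mul, κ.w_cube, one_pow]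

theorem kr_gX_cube : (kr gX 1 : GL I9 F) ^ 3 = 1 := by
  show (krL (gX : GL (Fin 3) F)) ^ 3 = 1
  rw [← map_pow, gX_cube, map_one]

theorem kr_gZ_cube : (kr (gZ κ) 1 : GL I9 F) ^ 3 = 1 := by
  show (krL (gZ κ)) ^ 3 = 1
  rw [← map_pow, gZ_cube, map_one]

theorem gXZ_pgroup : IsPGroup 3 (Subgroup.closure {kr (gX : GL (Fin 3) F) 1, kr (gZ κ) 1}) := by
  set a : GL I9 F := kr gX 1 with ha
  set b : GL I9 F := kr (gZ κ) 1 with hb
  set c : GL I9 F := dgl fun _ : I9 => κ.w ^ 2 with hc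
  have hcc : ∀ x : GL I9 F, c * x = x * c := fun x => by
    apply Units.ext
    rw [Units.val_mul, Units.val_mul]
    have : (c : Matrix I9 I9 F) = (κ.ω ^ 2) • 1 := by
      rw [Matrix.smul_one_eq_diagonal]; simp [hc, dgl, Fld.w_val]
    rw [this]; simp
  have hab : a * b = b * a * c := by
    rw [ha, hb, hc, kr_mul, kr_mul, ← krL_wdgl, kr_mul, mul_one, mul_one, gXZ_comm]
  have ha3 : a ^ 3 = 1 := by
    rw [ha, show kr gX 1 = krL (gX : GL (Fin 3) F) from rfl, ← map_pow, gX_cube, map_one]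
  have hb3 : b ^ 3 = 1 := by
    rw [hb, show kr (gZ κ) 1 = krL (gZ κ) from rfl, ← map_pow, gZ_cube, map_one]
  have hc3 : c ^ 3 = 1 := by
    rw [hc, pow_succ, pow_two, dgl_mul, dgl_mul, ← dgl_one]
    congr 1
    funext i
    simp only [Pi.mul_apply, Pi.one_apply]
    rw [← pow_two, ← pow_succ, ← pow_mul, mul_comm, pow_mul, κ.w_cube, one_pow]
  have hp : ∀ x : GL I9 F, x ^ 3 = 1 → IsPGroup 3 (Subgroup.zpowers x) := fun x hx => by
    refine fun y => ⟨1, ?_⟩
    obtain ⟨y, n, rfl⟩ := y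
    ext
    simp only [pow_one, SubgroupClass.coe_pow, OneMemClass.coe_one]
    rw [← zpow_natCast, ← _root_.zpow_mul, mul_comm, _root_.zpow_mul, zpow_natCast, hx, _root_.one_zpow]
  set M := Subgroup.zpowers c ⊔ Subgroup.zpowers b with hM
  have hM3 : IsPGroup 3 M := by
    refine IsPGroup.to_sup_of_normal_left' (hp c hc3) (hp b hb3) ?_
    refine (Subgroup.zpowers_le).2 (Subgroup.mem_normalizer_iff.2 fun y => ?_)
    constructor
    · rintro ⟨n, rfl⟩
      refine ⟨n, ?_⟩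
      have : b * c ^ n * b⁻¹ = c ^ n := by
        rw [show b * c ^ n = c ^ n * b from (((show Commute c b from hcc b).symm).zpow_right n).eq,
          mul_inv_cancel_right]
      exact this.symm
    · rintro ⟨n, hn⟩
      refine ⟨n, ?_⟩
      have : c ^ n = b⁻¹ * c ^ n * b := by
        rw [mul_assoc, ((show Commute c b from hcc b).zpow_left n).eq, inv_mul_cancel_left]
      simp only at hn ⊢
      rw [this, hn]; group
  have haM : a ∈ Subgroup.normalizer (M : Set (GL I9 F)) := by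
    have hle : M.map (MulAut.conj a).toMonoidHom ≤ M := by
      rw [hM, Subgroup.map_sup, MonoidHom.map_zpowers, MonoidHom.map_zpowers]
      refine sup_le ((Subgroup.zpowers_le).2 ?_) ((Subgroup.zpowers_le).2 ?_)
      · show a * c * a⁻¹ ∈ _
        rw [← hcc, mul_inv_cancel_right]
        exact Subgroup.mem_sup_left (Subgroup.mem_zpowers c)
      · show a * b * a⁻¹ ∈ _
        rw [hab, mul_assoc b, ← hcc, ← mul_assoc, mul_inv_cancel_right]
        exact mul_mem (Subgroup.mem_sup_right (Subgroup.mem_zpowers b))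
          (Subgroup.mem_sup_left (Subgroup.mem_zpowers c))
    have heq := Subgroup.eq_of_le_of_card_ge hle
      (Subgroup.card_map_of_injective (MulAut.conj a).injective).ge
    refine Subgroup.mem_normalizer_iff.2 fun y => ⟨fun hy => hle ⟨y, hy, rfl⟩, fun hy => ?_⟩
    rw [← heq] at hy
    obtain ⟨z, hz, hz'⟩ := hy
    rwa [← (MulAut.conj a).injective (a₁ := z) (a₂ := y) hz']
  have := IsPGroup.to_sup_of_normal_left' hM3 (hp a ha3) ((Subgroup.zpowers_le).2 haM)
  refine this.to_le ((Subgroup.closure_le _).2 ?_)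
  rintro x (rfl | rfl)
  · exact Subgroup.mem_sup_right (Subgroup.mem_zpowers a)
  · exact Subgroup.mem_sup_left (Subgroup.mem_sup_right (Subgroup.mem_zpowers b))

/-- Nine does not divide the order of the kernel. -/
theorem K1_not_nine {H : Subgroup (GL I9 F)} (O : Ovr κ H) : ¬ 9 ∣ Nat.card (K1 H) := by
  classical
  haveI : Fact (Nat.Prime 3) := ⟨by norm_num⟩
  obtain ⟨hh, hh', hq, hq', -, -⟩ := base_gens κ
  obtain ⟨hXR, hZR, -, -⟩ := mem_R9_gens κ
  have hXH : kr (gX : GL (Fin 3) F) 1 ∈ H := O.base (R9_le_base κ hXR)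
  have hZH : kr (gZ κ) 1 ∈ H := O.base (R9_le_base κ hZR)
  set σ : GL I9 F := kr 1 (gh κ 0) with hσ
  have hσK : σ ∈ K1 H := krR_mem_K1 κ O (Subgroup.subset_closure (by simp))
  have hσ3 : σ ^ 3 = 1 := by
    rw [hσ, show kr 1 (gh κ 0) = krR (gh κ 0) from rfl, ← map_pow, gh0_cube, map_one]
  have hσne : σ ≠ 1 := fun h => by
    have : gh κ 0 = 1 := krR_injective (by rw [map_one]; exact h)
    have := congrArg (fun x : GL (Fin 3) F => (x : Matrix (Fin 3) (Fin 3) F) 0 0) this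
    simp [gh, dgl, Fld.w_val] at this
    exact κ.ω_ne_one this
  set P := Subgroup.zpowers σ with hP
  have hPc : Nat.card P = 3 := by rw [hP, Nat.card_zpowers, orderOf_eq_prime hσ3 hσne]
  have hPK : P ≤ K1 H := (Subgroup.zpowers_le).2 hσK
  have hPnat : ∀ c ∈ P, ∃ n : ℕ, σ ^ n = c := fun c hc => mem_powers_iff_mem_zpowers.2 hc
  have hσpow : ∀ n : ℕ, σ ^ n = kr 1 (gh κ 0 ^ n) := fun n => by
    rw [hσ, show kr 1 (gh κ 0) = krR (gh κ 0) from rfl, ← map_pow]; rfl
  set E := Subgroup.closure {kr (gX : GL (Fin 3) F) 1, kr (gZ κ) 1} with hE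
  have hEσ : ∀ e ∈ E, e * σ = σ * e := by
    intro e he
    induction he using Subgroup.closure_induction with
    | mem x hx =>
      rcases hx with rfl | rfl <;> exact krL_commute _ _
    | one => simp
    | mul a b _ _ ha hb => rw [mul_assoc, hb, ← mul_assoc, ha, mul_assoc]
    | inv a _ ha => exact (Commute.inv_left (show Commute a σ from ha)).eq
  have hEK : E ≤ Subgroup.normalizer (K1 H : Set (GL I9 F)) := by
    refine (Subgroup.closure_le _).2 ?_
    have h1 : ∀ n : GL (Fin 3) F, kr n 1 ∈ H → kr n 1 ∈ Subgroup.normalizer (K1 H : Set (GL I9 F)) := by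
      intro n hn
      refine Subgroup.mem_normalizer_iff.2 fun y => ⟨fun hy => K1_conj hy hn, fun hy => ?_⟩
      have e : kr n⁻¹ 1 = ((kr n 1)⁻¹ : GL I9 F) := by
        show krL n⁻¹ = (krL n)⁻¹
        rw [map_inv]
      have := K1_conj hy (n := n⁻¹) (e ▸ inv_mem hn)
      rw [e] at this
      simpa [mul_assoc] using this
    rintro x (rfl | rfl)
    · exact h1 _ hXH
    · exact h1 _ hZH
  intro h9
  obtain ⟨K, hK, hPK'⟩ := Sylow.exists_subgroup_card_pow_prime_le (G := K1 H) 3 (n := 1) (m := 2)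
    (by simpa using h9) (P.subgroupOf (K1 H))
    (by rw [Nat.card_congr (Subgroup.subgroupOfEquivOfLe hPK).toEquiv, hPc, pow_one]) (by norm_num)
  have hKcomm := IsPGroup.commutative_of_card_eq_prime_sq hK
  set N := K1 H ⊓ Subgroup.normalizer (P : Set (GL I9 F)) with hN
  have hKN : K.map (K1 H).subtype ≤ N := by
    rintro _ ⟨x, hx, rfl⟩
    refine ⟨x.2, ?_⟩
    have hc : ∀ y ∈ P, (x : GL I9 F) * y = y * x := fun y hy => by
      have := congrArg (fun z : K => ((z : K1 H) : GL I9 F))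
        (hKcomm ⟨x, hx⟩ ⟨⟨y, hPK hy⟩, hPK' hy⟩)
      simpa using this
    exact Subgroup.centralizer_le_normalizer _ (Subgroup.mem_centralizer_iff.2 fun y hy => (hc y hy).symm)
  have hN9 : 3 ^ 2 ∣ Nat.card N := by
    rw [← hK, ← Subgroup.card_map_of_injective (K1 H).subtype_injective]
    exact Subgroup.card_dvd_of_le hKN
  have hEP : E ≤ Subgroup.normalizer (P : Set (GL I9 F)) := fun e he =>
    Subgroup.centralizer_le_normalizer _ (Subgroup.mem_centralizer_iff.2 fun y hy => by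
      obtain ⟨n, rfl⟩ := hPnat y hy
      exact ((show Commute e σ from hEσ e he).pow_right n).eq.symm)
  obtain ⟨x, hxN, hxP, ⟨n, hxn⟩, hxE⟩ := exists_fixed_mod (gXZ_pgroup κ)
    (le_inf hPK Subgroup.le_normalizer : P ≤ N) hPc hN9
    (fun e he => by
      have := Subgroup.inf_normalizer_le_normalizer_inf (H := K1 H)
        (K := Subgroup.normalizer (P : Set (GL I9 F))) ⟨hEK he, Subgroup.le_normalizer (hEP he)⟩
      exact this)
    hEP inf_le_right
  obtain ⟨α, hα⟩ := hPnat _ (hxE _ (Subgroup.subset_closure (Set.mem_insert _ _)))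
  obtain ⟨β, hβ⟩ := hPnat _ (hxE (kr (gZ κ) 1) (Subgroup.subset_closure (by simp)))
  have hmul : ∀ {a : GL I9 F} {α : ℕ}, a ∈ E → σ ^ α = ⁅x, a⁆ → ∀ i : ℕ,
      x * a ^ i * x⁻¹ = σ ^ (α * i) * a ^ i := fun {a α} ha h i => by
    have e1 : x * a * x⁻¹ = σ ^ α * a := by rw [h, commutatorElement_def]; group
    rw [← conj_pow, e1, Commute.mul_pow ((show Commute a σ from hEσ a ha).symm.pow_left α), pow_mul]
  have key : ∀ i j : ℕ, 3 ∣ α * i + β * j →
      x * kr (gX ^ i * gZ κ ^ j) 1 = kr (gX ^ i * gZ κ ^ j) 1 * x := by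
    rintro i j ⟨m, hm⟩
    have e0 : kr (gX ^ i * gZ κ ^ j) 1 = (kr (gX : GL (Fin 3) F) 1) ^ i * (kr (gZ κ) 1) ^ j := by
      show krL _ = (krL gX) ^ i * (krL (gZ κ)) ^ j
      rw [map_mul, map_pow, map_pow]
    have e1 : x * (kr (gX : GL (Fin 3) F) 1 ^ i * kr (gZ κ) 1 ^ j) * x⁻¹ =
        kr gX 1 ^ i * kr (gZ κ) 1 ^ j := by
      rw [show x * (kr (gX : GL (Fin 3) F) 1 ^ i * kr (gZ κ) 1 ^ j) * x⁻¹ =
          x * kr gX 1 ^ i * x⁻¹ * (x * kr (gZ κ) 1 ^ j * x⁻¹) by group,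
        hmul (Subgroup.subset_closure (Set.mem_insert _ _)) hα,
        hmul (Subgroup.subset_closure (by simp)) hβ, mul_assoc, ← mul_assoc (kr gX 1 ^ i),
        (((show Commute (kr (gX : GL (Fin 3) F) 1) σ from
          hEσ _ (Subgroup.subset_closure (Set.mem_insert _ _))).pow_pow i (β * j))).eq,
        ← mul_assoc, ← mul_assoc, ← pow_add, hm, pow_mul, hσ3, one_pow, one_mul]
    rw [e0]
    conv_rhs => rw [← e1]
    group
  obtain ⟨i, j, hij, hd⟩ : ∃ i j : ℕ, ¬(3 ∣ i ∧ 3 ∣ j) ∧ 3 ∣ α * i + β * j := by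
    by_cases h : 3 ∣ α ∧ 3 ∣ β
    · exact ⟨1, 0, by omega, by obtain ⟨h, -⟩ := h; simpa using h⟩
    · exact ⟨β, 2 * α, by omega, ⟨α * β, by ring⟩⟩
  obtain ⟨s, hs, rfl⟩ := cK1pair κ O hxN.1 hij (key i j hd)
  obtain ⟨n', hn'⟩ := hPnat _ ((Subgroup.mem_normalizer_iff.1 hxN.2 σ).1 (Subgroup.mem_zpowers σ))
  rw [hσpow] at hn'
  have hfix := fix_gen κ hn'.symm
  have hcs : s * gh κ 0 = gh κ 0 * s := by
    apply krR_injective
    rw [map_mul, map_mul]; exact hfix
  obtain ⟨hJ, hw, -⟩ := S24_props κ hs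
  have hAs : S24 κ ≤ Ablk κ (swH H) 0 := (Subgroup.closure_le _).2 (by
    rintro y (rfl | rfl)
    · exact (Ablk_gens κ (O.swap κ) 0).1 0
    · exact (Ablk_gens κ (O.swap κ) 0).2)
  obtain ⟨e, m, rfl⟩ := six κ (Ablk_noTv κ (O.swap κ) 0) (Ablk_gens κ (O.swap κ) 0).1
    (Ablk_gens κ (O.swap κ) 0).2 (hAs hs) hJ hw hcs
  have hpow : (gE κ ^ e * gh κ 0 ^ m) ^ (3 ^ (n + 1)) = 1 := by
    apply krR_injective
    rw [map_pow, map_one, pow_succ, pow_mul]
    show (kr 1 _ ^ 3 ^ n) ^ 3 = 1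
    rw [hxn, one_pow]
  rw [Commute.mul_pow ((show Commute (gE κ) (gh κ 0) from gE_comm_gh κ).pow_pow e m), ← pow_mul,
    ← pow_mul, show m * 3 ^ (n + 1) = 3 * (m * 3 ^ n) by ring, pow_mul (gh κ 0), gh0_cube, one_pow,
    mul_one] at hpow
  have hE2 : orderOf (gE κ) = 2 :=
    haveI : Fact (Nat.Prime 2) := ⟨Nat.prime_two⟩
    orderOf_eq_prime (by rw [pow_two, gE_sq]) (gE_ne_one κ)
  have hev : 2 ∣ e * 3 ^ (n + 1) := hE2 ▸ orderOf_dvd_of_pow_eq_one hpow
  have he : 2 ∣ e := (Nat.Coprime.pow_right _ (by norm_num : Nat.Coprime 2 3)).dvd_of_dvd_mul_right hev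
  obtain ⟨e', rfl⟩ := he
  refine hxP ?_
  rw [pow_mul, pow_two, gE_sq, one_pow, one_mul, ← hσpow]
  exact Subgroup.pow_mem _ (Subgroup.mem_zpowers σ) m

/-- The kernel is the binary tetrahedral group of the right factor. -/
theorem K1_eq {H : Subgroup (GL I9 F)} (O : Ovr κ H) {g : GL I9 F} (hg : g ∈ K1 H) :
    ∃ s ∈ S24 κ, g = kr 1 s := by
  classical
  haveI : Fact (Nat.Prime 3) := ⟨by norm_num⟩
  obtain ⟨hh, hh', hq, hq', -, -⟩ := base_gens κ
  obtain ⟨hXR, hZR, -, -⟩ := mem_R9_gens κ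
  have hXH : kr (gX : GL (Fin 3) F) 1 ∈ H := O.base (R9_le_base κ hXR)
  have hZH : kr (gZ κ) 1 ∈ H := O.base (R9_le_base κ hZR)
  set σ : GL I9 F := kr 1 (gh κ 0) with hσ
  have hσK : σ ∈ K1 H := krR_mem_K1 κ O (Subgroup.subset_closure (by simp))
  have hσ3 : σ ^ 3 = 1 := by
    rw [hσ, show kr 1 (gh κ 0) = krR (gh κ 0) from rfl, ← map_pow, gh0_cube, map_one]
  have hσne : σ ≠ 1 := fun h => by
    have : gh κ 0 = 1 := krR_injective (by rw [map_one]; exact h)
    have := congrArg (fun x : GL (Fin 3) F => (x : Matrix (Fin 3) (Fin 3) F) 0 0) this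
    simp [gh, dgl, Fld.w_val] at this
    exact κ.ω_ne_one this
  set P := Subgroup.zpowers σ with hP
  have hPc : Nat.card P = 3 := by rw [hP, Nat.card_zpowers, orderOf_eq_prime hσ3 hσne]
  have hPK : P ≤ K1 H := (Subgroup.zpowers_le).2 hσK
  have hPnat : ∀ c ∈ P, ∃ n : ℕ, σ ^ n = c := fun c hc => mem_powers_iff_mem_zpowers.2 hc
  have hσpow : ∀ n : ℕ, σ ^ n = kr 1 (gh κ 0 ^ n) := fun n => by
    rw [hσ, show kr 1 (gh κ 0) = krR (gh κ 0) from rfl, ← map_pow]; rfl
  set E := Subgroup.closure {kr (gX : GL (Fin 3) F) 1, kr (gZ κ) 1} with hE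
  have hEσ : ∀ e ∈ E, e * σ = σ * e := by
    intro e he
    induction he using Subgroup.closure_induction with
    | mem x hx =>
      rcases hx with rfl | rfl <;> exact krL_commute _ _
    | one => simp
    | mul a b _ _ ha hb => rw [mul_assoc, hb, ← mul_assoc, ha, mul_assoc]
    | inv a _ ha => exact (Commute.inv_left (show Commute a σ from ha)).eq
  have hEK : E ≤ Subgroup.normalizer (K1 H : Set (GL I9 F)) := by
    refine (Subgroup.closure_le _).2 ?_
    have h1 : ∀ n : GL (Fin 3) F, kr n 1 ∈ H → kr n 1 ∈ Subgroup.normalizer (K1 H : Set (GL I9 F)) := by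
      intro n hn
      refine Subgroup.mem_normalizer_iff.2 fun y => ⟨fun hy => K1_conj hy hn, fun hy => ?_⟩
      have e : kr n⁻¹ 1 = ((kr n 1)⁻¹ : GL I9 F) := by
        show krL n⁻¹ = (krL n)⁻¹
        rw [map_inv]
      have := K1_conj hy (n := n⁻¹) (e ▸ inv_mem hn)
      rw [e] at this
      simpa [mul_assoc] using this
    rintro x (rfl | rfl)
    · exact h1 _ hXH
    · exact h1 _ hZH
  have h9 := K1_not_nine κ O
  -- the normal complement
  set P' := P.subgroupOf (K1 H) with hP'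
  have hP'c : Nat.card P' = 3 := by rw [hP', Nat.card_congr (Subgroup.subgroupOfEquivOfLe hPK).toEquiv, hPc]
  have hP'3 : IsPGroup 3 P' := IsPGroup.of_card (n := 1) (by rw [hP'c, pow_one])
  have hidx : ¬ 3 ∣ P'.index := fun hd => h9 (by
    rw [← P'.card_mul_index, hP'c]
    exact Nat.mul_dvd_mul_left 3 hd)
  set S := hP'3.toSylow hidx with hS
  have hcen : Subgroup.normalizer ((S : Subgroup (K1 H)) : Set (K1 H)) ≤ Subgroup.centralizer (S : Set (K1 H)) := by
    intro x hx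
    have hσ' : (⟨σ, hσK⟩ : K1 H) ∈ (S : Subgroup (K1 H)) := Subgroup.mem_zpowers σ
    obtain ⟨n', hn'⟩ := hPnat _ ((Subgroup.mem_normalizer_iff.1 hx _).1 hσ')
    rw [hσpow] at hn'
    have hfix := fix_gen κ (g := (x : GL I9 F)) hn'.symm
    refine Subgroup.mem_centralizer_iff.2 fun y hy => ?_
    obtain ⟨k, hk⟩ := hPnat _ (show (y : GL I9 F) ∈ P from hy)
    apply Subtype.ext
    show (y : GL I9 F) * x = x * y
    rw [← hk]
    exact ((show Commute (x : GL I9 F) σ from hfix).pow_right k).eq.symm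
  set Q := (MonoidHom.transferSylow S hcen).ker.map (K1 H).subtype with hQ
  have hQ3 : ¬ 3 ∣ Nat.card Q := by
    rw [hQ, Subgroup.card_map_of_injective (K1 H).subtype_injective]
    exact MonoidHom.not_dvd_card_ker_transferSylow S hcen
  have hQK : Q ≤ K1 H := Subgroup.map_subtype_le _
  have hQmem : ∀ y ∈ K1 H, ¬ 3 ∣ orderOf y → y ∈ Q := by
    intro y hy ho
    refine ⟨⟨y, hy⟩, ?_, rfl⟩
    rw [SetLike.mem_coe, MonoidHom.mem_ker]
    set f := MonoidHom.transferSylow S hcen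
    have h1 : orderOf (f ⟨y, hy⟩) ∣ orderOf y :=
      (orderOf_map_dvd f ⟨y, hy⟩).trans (Subgroup.orderOf_mk y hy).dvd
    have h2 : orderOf (f ⟨y, hy⟩) ∣ 3 := by
      have h3 : orderOf (f ⟨y, hy⟩) ∣ Nat.card (S : Subgroup (K1 H)) := orderOf_dvd_natCard _
      rwa [show Nat.card (S : Subgroup (K1 H)) = 3 from hP'c] at h3
    rcases (Nat.dvd_prime Nat.prime_three).1 h2 with h | h
    · exact orderOf_eq_one_iff.1 h
    · exact absurd (h.symm.dvd.trans h1) ho
  have hEQ : ∀ e ∈ E, ∀ y ∈ Q, e * y * e⁻¹ ∈ Q := fun e he y hy =>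
    hQmem _ ((Subgroup.mem_normalizer_iff.1 (hEK he) y).1 (hQK hy)) (by
      rw [show e * y * e⁻¹ = MulAut.conj e y from rfl, MulEquiv.orderOf_eq]
      exact fun h => hQ3 (h.trans (Subgroup.orderOf_mk y hy ▸ orderOf_dvd_natCard (⟨y, hy⟩ : Q))))
  -- coprime generation modulo scalars
  set π := QuotientGroup.mk' (Cfsg.Geo.scalars I9 F) with hπ
  set a := π (kr gX 1) with ha
  set b := π (kr (gZ κ) 1) with hb
  have hab : a * b = b * a := by
    rw [ha, hb, ← map_mul, ← map_mul, kr_mul, kr_mul, gXZ_comm]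
    rw [show kr (gZ κ * gX * dgl fun _ => κ.w ^ 2) ((1 : GL (Fin 3) F) * 1) =
      kr (gZ κ * gX) (1 * 1) * kr (dgl fun _ => κ.w ^ 2) 1 by rw [kr_mul, one_mul, one_mul]]
    rw [map_mul, krL_wdgl]
    have : π (dgl fun _ : I9 => κ.w ^ 2) = 1 := by
      rw [hπ, QuotientGroup.mk'_apply, QuotientGroup.eq_one_iff]
      refine (Cfsg.Geo.mem_scalars_iff _).2 ⟨κ.w ^ 2, ?_⟩
      rw [Matrix.smul_one_eq_diagonal]; simp [dgl, Fld.w_val]
    rw [this, mul_one]
  haveI : IsMulCommutative (E.map π) := by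
    rw [hE, MonoidHom.map_closure]
    refine Subgroup.isMulCommutative_closure ?_
    rintro _ ⟨x, hx, rfl⟩ _ ⟨y, hy, rfl⟩
    rcases hx with rfl | rfl <;> rcases hy with rfl | rfl
    · rfl
    · exact hab
    · exact hab.symm
    · rfl
  have hnorm : E.map π ≤ Subgroup.normalizer ((Q.map π : Subgroup _) : Set _) := by
    rintro _ ⟨e, he, rfl⟩
    refine Subgroup.mem_normalizer_iff.2 fun z => ⟨?_, ?_⟩
    · rintro ⟨y, hy, rfl⟩
      exact ⟨e * y * e⁻¹, hEQ e he y hy, by simp⟩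
    · rintro ⟨y, hy, hyz⟩
      refine ⟨e⁻¹ * y * e, ?_, ?_⟩
      · simpa using hEQ e⁻¹ (inv_mem he) y hy
      · rw [map_mul, map_mul, hyz, map_inv]; group
  have hcop : (Nat.card (E.map π)).Coprime (Nat.card (Q.map π)) := by
    obtain ⟨k, hk⟩ := IsPGroup.iff_card.1 ((gXZ_pgroup κ).map π)
    rw [hk]
    refine Nat.Coprime.pow_left k ((Nat.Prime.coprime_iff_not_dvd Nat.prime_three).2 fun h => hQ3 ?_)
    exact h.trans (Q.card_map_dvd π)
  have ha3 : a ^ 3 = 1 := by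
    rw [ha, ← map_pow, kr_gX_cube, map_one]
  have hb3 : b ^ 3 = 1 := by
    rw [hb, ← map_pow, kr_gZ_cube, map_one]
  have main := Coprime.le_of_pair (A := E.map π) (K := Q.map π) (W := (S24 κ).map (π.comp krR))
    hnorm hcop Nat.prime_three (a := a) (b := b)
    ⟨_, Subgroup.subset_closure (Set.mem_insert _ _), rfl⟩ ⟨_, Subgroup.subset_closure (by simp), rfl⟩
    (by rw [ha3]; exact one_mem _) (by rw [hb3]; exact one_mem _) (by
      rintro i j hij _ ⟨⟨y, hy, rfl⟩, hc⟩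
      replace hc : π y * (a ^ i * b ^ j) = a ^ i * b ^ j * π y :=
        Subgroup.mem_centralizer_singleton_iff.1 hc
      set n := gX ^ i * gZ κ ^ j with hn
      have e0 : kr n 1 = (kr (gX : GL (Fin 3) F) 1) ^ i * (kr (gZ κ) 1) ^ j := by
        show krL _ = (krL gX) ^ i * (krL (gZ κ)) ^ j
        rw [hn, map_mul, map_pow, map_pow]
      have hnE : kr n 1 ∈ E := e0 ▸ mul_mem (pow_mem (Subgroup.subset_closure (Set.mem_insert _ _)) i)
        (pow_mem (Subgroup.subset_closure (by simp)) j)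
      rw [ha, hb, ← map_pow, ← map_pow, ← map_mul, ← e0] at hc
      have hz : ⁅y, kr n 1⁆ ∈ Cfsg.Geo.scalars I9 F := by
        rw [← QuotientGroup.eq_one_iff, ← QuotientGroup.mk'_apply, ← hπ, map_commutatorElement,
          commutatorElement_eq_one_iff_mul_comm]
        exact hc
      have hzK : ⁅y, kr n 1⁆ ∈ K1 H := by
        rw [commutatorElement_def, mul_assoc, mul_assoc, ← mul_assoc (kr n 1)]
        exact mul_mem (hQK hy) ((Subgroup.mem_normalizer_iff.1 (hEK hnE) _).1 (inv_mem (hQK hy)))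
      have h1 := commutatorElement_eq_one_iff_mul_comm.1 (K1_scalar κ hzK hz)
      obtain ⟨s, hs, rfl⟩ := cK1pair κ O (hQK hy) hij h1
      exact ⟨s, hs, rfl⟩)
  have hQS : ∀ y ∈ Q, ∃ s ∈ S24 κ, y = kr 1 s := by
    intro y hy
    obtain ⟨s, hs, hsy⟩ := main ⟨y, hy, rfl⟩
    refine ⟨s, hs, ?_⟩
    have hz : (kr 1 s)⁻¹ * y ∈ Cfsg.Geo.scalars I9 F := by
      rw [← QuotientGroup.eq_one_iff, ← QuotientGroup.mk'_apply, ← hπ, map_mul, map_inv, inv_mul_eq_one]
      exact hsy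
    exact inv_mul_eq_one.1 (K1_scalar κ (mul_mem (inv_mem (krR_mem_K1 κ O hs)) (hQK hy)) hz) |>.symm
  have hcomp := MonoidHom.ker_transferSylow_isComplement' S hcen
  obtain ⟨⟨⟨u, hu⟩, ⟨v, hv⟩⟩, huv⟩ := (hcomp.existsUnique ⟨g, hg⟩).exists
  obtain ⟨s, hs, hus⟩ := hQS (u : GL I9 F) ⟨u, hu, rfl⟩
  obtain ⟨k, hk⟩ := hPnat _ (show (v : GL I9 F) ∈ P from hv)
  refine ⟨s * gh κ 0 ^ k, mul_mem hs (pow_mem (Subgroup.subset_closure (by simp)) k), ?_⟩
  have := congrArg (fun x : K1 H => (x : GL I9 F)) huv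
  simp only [Subgroup.coe_mul] at this
  rw [← this, hus, ← hk, hσpow, kr_mul, one_mul]

end Cfsg.Agent.C6NineOdd
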