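/-
A group on three coordinates without transvections that contains the frame homologies and the
Fourier matrix is generated by them modulo scalars.
Main results: `W3`, `mem_W3`.
-/
import Cfsg.Agent.Lib.C6NineOdd.Quat

set_option autoImplicit false
set_option linter.unusedSectionVars false
set_option linter.unusedSimpArgs false

namespace Cfsg.Agent.C6NineOdd

open Matrix Cfsg.Agent.Transvect
open scoped Matrix Kronecker

variable {F : Type*} [Field F] [Fintype F] (κ : Fld F)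

/-- The group generated by the frame homologies and the Fourier matrix. -/
def W3 : Subgroup (GL (Fin 3) F) := Subgroup.closure (Set.range (gh κ) ∪ {gq κ})

theorem W3_le {A : Subgroup (GL (Fin 3) F)} (hh : ∀ k, gh κ k ∈ A) (hq : gq κ ∈ A) : W3 κ ≤ A :=
  (Subgroup.closure_le _).2 (by rintro x (⟨k, rfl⟩ | rfl); exacts [hh k, hq])

theorem gh_mem_W3 (k : Fin 3) : gh κ k ∈ W3 κ := Subgroup.subset_closure (Or.inl ⟨k, rfl⟩)

theorem gq_mem_W3 : gq κ ∈ W3 κ := Subgroup.subset_closure (Or.inr rfl)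

theorem gZ_mem_W3 : gZ κ ∈ W3 κ := by
  rw [← gh_Z_prod]
  exact mul_mem (mul_mem (gh_mem_W3 κ 1) (gh_mem_W3 κ 2)) (gh_mem_W3 κ 2)

theorem gX_mem_W3 : gX ∈ W3 κ := by
  have h := mul_mem (mul_mem (gq_mem_W3 κ) (gZ_mem_W3 κ)) (inv_mem (gq_mem_W3 κ))
  rw [gq_Z, mul_inv_cancel_right] at h
  simpa using inv_mem h

theorem gX_gh (j : Fin 3) : gX * gh κ j = gh κ (j + 1) * gX := by
  apply Units.ext
  rw [Units.val_mul, Units.val_mul]
  ext a b
  fin_cases j <;> fin_cases a <;> fin_cases b <;>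
    simp [gX, gh, dgl, Matrix.mul_apply, Fin.sum_univ_three]

theorem gE_swap : gE κ * gh κ 2 * (gE κ)⁻¹ = gh κ 1 := by
  rw [mul_inv_eq_iff_eq_mul]
  apply Units.ext
  rw [Units.val_mul, Units.val_mul, gE_val]
  ext a b
  fin_cases a <;> fin_cases b <;> simp [gJ, gh, dgl, Matrix.mul_apply, Fin.sum_univ_three]

/-- The diagonal part. -/
def gD3 (s t : Fin 3) : GL (Fin 3) F := gh κ 1 ^ (s : ℕ) * gh κ 2 ^ (t : ℕ)

theorem gD3_mem (s t : Fin 3) : gD3 κ s t ∈ W3 κ :=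
  mul_mem (pow_mem (gh_mem_W3 κ 1) _) (pow_mem (gh_mem_W3 κ 2) _)

theorem gh_pow (k : Fin 3) (n : ℕ) :
    gh κ k ^ n = dgl fun i => if i = k then κ.w ^ n else 1 := by
  induction n with
  | zero => rw [pow_zero, ← dgl_one]; congr 1; funext i; simp
  | succ n ih =>
    rw [pow_succ, ih, gh, dgl_mul]
    congr 1
    funext i
    simp only [Pi.mul_apply]
    split_ifs <;> simp [pow_succ]

theorem gD3_val (s t : Fin 3) : (gD3 κ s t : Matrix (Fin 3) (Fin 3) F) =
    Matrix.diagonal (cvec κ s t) := by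
  rw [gD3, gh_pow, gh_pow, dgl_mul]
  ext a b
  fin_cases a <;> fin_cases b <;> simp [dgl, cvec, Matrix.diagonal, Fld.w_val]

theorem gD3_inv_val (s t : Fin 3) : (((gD3 κ s t)⁻¹ : GL (Fin 3) F) : Matrix (Fin 3) (Fin 3) F) =
    Matrix.diagonal (dvec κ s t) := by
  rw [Matrix.coe_units_inv, gD3_val]
  refine Matrix.inv_eq_right_inv ?_
  rw [Matrix.diagonal_mul_diagonal, ← Matrix.diagonal_one]
  congr 1
  funext i
  have e : ∀ n : ℕ, κ.ω ^ n * κ.ω ^ (2 * n) = 1 := fun n => by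
    rw [← pow_add, show n + 2 * n = 3 * n by ring, pow_mul, κ.cube, one_pow]
  fin_cases i <;> simp [cvec, dvec, e]

/-- The homology of the all-ones point. -/
noncomputable def gP0 : GL (Fin 3) F := gq κ * gh κ 0 * (gq κ)⁻¹

theorem gP0_val (i j : Fin 3) : (gP0 κ : Matrix (Fin 3) (Fin 3) F) i j =
    (if i = j then 1 else 0) + (κ.ω - 1) * (3 : F)⁻¹ := by
  have h3 := κ.three
  rw [gP0, gq_conj_gh, hom_val (by simp [std_dual]; field_simp; norm_num) κ.ω_ne, tmat]
  fin_cases i <;> fin_cases j <;> simp [Matrix.vecMulVec_apply, sf, se, Matrix.one_apply]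

/-- One of the nine further homologies. -/
noncomputable def gpt (s t : Fin 3) : GL (Fin 3) F := gD3 κ s t * gP0 κ * (gD3 κ s t)⁻¹

theorem gpt_val (s t i j : Fin 3) : (gpt κ s t : Matrix (Fin 3) (Fin 3) F) i j =
    (if i = j then 1 else 0) + (κ.ω - 1) * (3 : F)⁻¹ * (cvec κ s t i * dvec κ s t j) := by
  rw [gpt, Units.val_mul, Units.val_mul, gD3_val, gD3_inv_val, Matrix.mul_diagonal,
    Matrix.diagonal_mul, gP0_val]
  have e : ∀ n : ℕ, κ.ω ^ n * κ.ω ^ (2 * n) = 1 := fun n => by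
    rw [← pow_add, show n + 2 * n = 3 * n by ring, pow_mul, κ.cube, one_pow]
  by_cases h : i = j
  · subst h
    have e1 : cvec κ s t i * dvec κ s t i = 1 := by fin_cases i <;> simp [cvec, dvec, e]
    simp only [if_pos]
    linear_combination e1
  · simp only [if_neg h]; ring

theorem gpt_off (s t : Fin 3) {i j : Fin 3} (h : i ≠ j) :
    (gpt κ s t : Matrix (Fin 3) (Fin 3) F) i j ≠ 0 := by
  rw [gpt_val, if_neg h, zero_add]
  refine mul_ne_zero (mul_ne_zero κ.d1 (inv_ne_zero κ.three)) (mul_ne_zero ?_ ?_) <;>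
    · fin_cases i <;> fin_cases j <;> simp [cvec, dvec, κ.ω_ne]

/-- The conjugates of a frame homology. -/
theorem conj_pts {A : Subgroup (GL (Fin 3) F)} (hA : NoTv κ A) (hh : ∀ k, gh κ k ∈ A) (hq : gq κ ∈ A)
    {a : GL (Fin 3) F} (ha : a ∈ A) (k : Fin 3) :
    (∃ i, a * gh κ k * a⁻¹ = gh κ i) ∨ ∃ s t, a * gh κ k * a⁻¹ = gpt κ s t := by
  have h1 : (sf k : (Fin 3 → F) →ₗ[F] F) (se k) = 1 := by simp [std_dual]
  have hm : hom κ.ω (se k) (sf k) ∈ A := gh_eq_hom κ k ▸ hh k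
  have hu : ((sf k : (Fin 3 → F) →ₗ[F] F) ∘ₗ (app a⁻¹).toLinearMap) (app a (se k)) = 1 := by
    simp only [LinearMap.comp_apply, LinearEquiv.coe_coe, app_inv_app, h1]
  rw [gh_eq_hom κ k, hom_conj h1 κ.ω_ne]
  rcases twelve_map κ hA hh hq ha h1 hm with ⟨i, h⟩ | ⟨s, t, h⟩
  · left
    exact ⟨i, by rw [gh_eq_hom, Same.hom_eq h hu (by simp [std_dual]) κ.ω_ne]⟩
  · right
    refine ⟨s, t, ?_⟩
    have h3 := κ.three
    have hp : pD κ sf s t (pV κ (se : Fin 3 → Fin 3 → F) s t) = 1 := pD_pV κ std_dual s t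
    rw [Same.hom_eq h hu hp κ.ω_ne]
    apply Units.ext
    ext i j
    rw [gpt_val, hom_val hp κ.ω_ne, tmat]
    fin_cases i <;> fin_cases j <;>
      simp [Matrix.vecMulVec_apply, pV, pD, sf, se, Fin.sum_univ_three, Matrix.one_apply] <;> ring

/-- Every conjugate goes back to the first homology. -/
theorem pts_to_zero {x : GL (Fin 3) F} (h : (∃ i, x = gh κ i) ∨ ∃ s t, x = gpt κ s t) :
    ∃ w ∈ W3 κ, w * x * w⁻¹ = gh κ 0 := by
  rcases h with ⟨i, rfl⟩ | ⟨s, t, rfl⟩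
  · have hX := gX_mem_W3 κ
    have e : ∀ j : Fin 3, gX * gh κ j * gX⁻¹ = gh κ (j + 1) := fun j => by
      rw [gX_gh, mul_inv_cancel_right]
    fin_cases i
    · exact ⟨1, one_mem _, by simp⟩
    · refine ⟨gX * gX, mul_mem hX hX, ?_⟩
      show gX * gX * gh κ 1 * (gX * gX)⁻¹ = gh κ 0
      rw [show gX * gX * gh κ 1 * (gX * gX)⁻¹ = gX * (gX * gh κ 1 * gX⁻¹) * gX⁻¹ by group, e, e]
      rfl
    · exact ⟨gX, hX, e 2⟩
  · refine ⟨(gq κ)⁻¹ * (gD3 κ s t)⁻¹, mul_mem (inv_mem (gq_mem_W3 κ)) (inv_mem (gD3_mem κ s t)), ?_⟩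
    rw [gpt, gP0]; group

/-- The normal form. -/
theorem mem_W3 {A : Subgroup (GL (Fin 3) F)} (hA : NoTv κ A) (hh : ∀ k, gh κ k ∈ A) (hq : gq κ ∈ A)
    {a : GL (Fin 3) F} (ha : a ∈ A) :
    ∃ w ∈ W3 κ, ∃ c : Fˣ, (a : Matrix (Fin 3) (Fin 3) F) = (c : F) • (w : Matrix (Fin 3) (Fin 3) F) := by
  have hd1 := κ.d1
  have hW := W3_le κ hh hq
  obtain ⟨w, hw, hw0⟩ := pts_to_zero κ (conj_pts κ hA hh hq ha 0)
  have red : ∀ b : GL (Fin 3) F, (∃ v ∈ W3 κ, b = v * a) → b * gh κ 0 = gh κ 0 * b →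
      ∀ i, b * gh κ 1 * b⁻¹ ≠ gh κ i ∨ i ≠ 0 := by
    rintro b - hb i
    by_contra hcon
    push Not at hcon
    obtain ⟨e, rfl⟩ := hcon
    have : gh κ 1 = gh κ 0 := by
      calc gh κ 1 = b⁻¹ * (b * gh κ 1 * b⁻¹) * b := by group
        _ = b⁻¹ * (gh κ 0 * b) := by rw [e, mul_assoc]
        _ = gh κ 0 := by rw [← hb]; group
    have := congrArg (fun x : GL (Fin 3) F => (x : Matrix (Fin 3) (Fin 3) F) 1 1) this
    simp [gh, dgl, Fld.w_val] at this
    exact κ.ω_ne_one this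
  set a1 := w * a with ha1
  have hc0 : a1 * gh κ 0 = gh κ 0 * a1 := by
    calc a1 * gh κ 0 = (w * (a * gh κ 0 * a⁻¹) * w⁻¹) * a1 := by rw [ha1]; group
      _ = gh κ 0 * a1 := by rw [hw0]
  have ha1A : a1 ∈ A := mul_mem (hW hw) ha
  -- a conjugate commuting with the first homology is a frame homology
  have frame : ∀ {b : GL (Fin 3) F}, b ∈ A → b * gh κ 0 = gh κ 0 * b → ∃ i, b * gh κ 1 * b⁻¹ = gh κ i := by
    intro b hb hb0
    rcases conj_pts κ hA hh hq hb 1 with h | ⟨s, t, h⟩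
    · exact h
    · exfalso
      have hc : gh κ 1 * gh κ 0 = gh κ 0 * gh κ 1 := by rw [gh, gh, dgl_mul, dgl_mul, mul_comm]
      have hcc : gpt κ s t * gh κ 0 = gh κ 0 * gpt κ s t := by
        rw [← h]
        exact (((show Commute b (gh κ 0) from hb0).mul_left hc).mul_left
          (show Commute b (gh κ 0) from hb0).inv_left).eq
      have := congrArg (fun x : GL (Fin 3) F => (x : Matrix (Fin 3) (Fin 3) F) 0 1) hcc
      simp only [gh, dgl, Units.val_mul, Matrix.mul_diagonal, Matrix.diagonal_mul] at this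
      simp [Fld.w_val] at this
      have h01 := gpt_off κ s t (i := 0) (j := 1) (by decide)
      exact κ.ω_ne_one (mul_right_cancel₀ h01 (by rw [one_mul]; exact this.symm))
  obtain ⟨a2, ⟨v, hv, hva⟩, hc0', hc1⟩ :
      ∃ b, (∃ v ∈ W3 κ, b = v * a) ∧ b * gh κ 0 = gh κ 0 * b ∧ b * gh κ 1 = gh κ 1 * b := by
    obtain ⟨i, hi⟩ := frame ha1A hc0
    have hi0 : i ≠ 0 := ((red a1 ⟨w, hw, rfl⟩ hc0) i).resolve_left (not_not.2 hi)
    obtain rfl | rfl : i = 1 ∨ i = 2 := by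
      fin_cases i <;> simp_all
    · exact ⟨a1, ⟨w, hw, rfl⟩, hc0, mul_inv_eq_iff_eq_mul.1 hi⟩
    · refine ⟨gE κ * a1, ⟨gE κ * w, mul_mem (mul_mem (gq_mem_W3 κ) (gq_mem_W3 κ)) hw,
        by rw [ha1, mul_assoc]⟩, ((show Commute (gE κ) (gh κ 0) from gE_comm_gh κ).mul_left hc0).eq, ?_⟩
      calc gE κ * a1 * gh κ 1 = gE κ * (a1 * gh κ 1 * a1⁻¹) * (gE κ)⁻¹ * (gE κ * a1) := by group
        _ = gh κ 1 * (gE κ * a1) := by rw [hi, gE_swap]
  have ha2A : a2 ∈ A := hva ▸ mul_mem (hW hv) ha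
  set M := (a2 : Matrix (Fin 3) (Fin 3) F) with hM
  have e : ∀ k i j : Fin 3, a2 * gh κ k = gh κ k * a2 → i ≠ j → (i = k ∨ j = k) → M i j = 0 := by
    intro k i j h hij hk
    have := congrArg (fun x : GL (Fin 3) F => (x : Matrix (Fin 3) (Fin 3) F) i j) h
    simp only [gh, dgl, Units.val_mul, Matrix.mul_diagonal, Matrix.diagonal_mul, ← hM] at this
    rcases hk with rfl | rfl
    · simp [Ne.symm hij, Fld.w_val] at this
      refine (mul_eq_zero.1 (?_ : (κ.ω - 1) * M i j = 0)).resolve_left hd1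
      linear_combination -this
    · simp [hij, Fld.w_val] at this
      refine (mul_eq_zero.1 (?_ : (κ.ω - 1) * M i j = 0)).resolve_left hd1
      linear_combination this
  have hoff : ∀ i j : Fin 3, i ≠ j → M i j = 0 := fun i j hij => by
    have key : ∀ i j : Fin 3, i ≠ j → (i = 0 ∨ j = 0) ∨ (i = 1 ∨ j = 1) := by decide
    rcases key i j hij with h | h
    · exact e 0 i j hc0' hij h
    · exact e 1 i j hc1 hij h
  have hdiag : M = Matrix.diagonal fun i => M i i := by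
    ext i j
    by_cases hij : i = j
    · subst hij; simp
    · rw [Matrix.diagonal_apply_ne _ hij, hoff i j hij]
  have hM0 : M 0 0 ≠ 0 := fun h => by
    have := congrArg (fun x : GL (Fin 3) F => (x : Matrix (Fin 3) (Fin 3) F) 0 0) (mul_inv_cancel a2)
    simp only [Units.val_mul, Units.val_one] at this
    rw [← hM, hdiag, Matrix.diagonal_mul] at this
    simp [h] at this
  -- the image of the all-ones point
  rcases conj_pts κ hA hh hq (mul_mem ha2A hq) 0 with ⟨i, h⟩ | ⟨s, t, h⟩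
  all_goals
    rw [show a2 * gq κ * gh κ 0 * (a2 * gq κ)⁻¹ = a2 * gP0 κ * a2⁻¹ by rw [gP0]; group,
      mul_inv_eq_iff_eq_mul] at h
    have hv' := congrArg (fun x : GL (Fin 3) F => (x : Matrix (Fin 3) (Fin 3) F)) h
    simp only [Units.val_mul, ← hM] at hv'
    rw [hdiag] at hv'
  · exfalso
    have h01 := congrFun (congrFun hv' 0) 1
    rw [Matrix.diagonal_mul, gP0_val, Matrix.mul_diagonal] at h01
    simp [gh, dgl, Matrix.diagonal] at h01
    rcases h01 with h | h | h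
    · exact hM0 h
    · exact hd1 h
    · exact κ.three h
  · refine ⟨v⁻¹ * gD3 κ s t, mul_mem (inv_mem hv) (gD3_mem κ s t), Units.mk0 (M 0 0) hM0, ?_⟩
    have col : ∀ i, M i i = M 0 0 * cvec κ s t i := fun i => by
      have hi := congrFun (congrFun hv' i) 0
      rw [Matrix.diagonal_mul, Matrix.mul_diagonal, gP0_val, gpt_val] at hi
      by_cases h0 : i = 0
      · subst h0; simp [cvec]
      · simp only [if_neg h0, zero_add] at hi
        have : cvec κ s t i * dvec κ s t 0 = cvec κ s t i := by simp [dvec]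
        rw [this] at hi
        refine mul_right_cancel₀ (mul_ne_zero hd1 (inv_ne_zero κ.three)) ?_
        linear_combination hi
    have hva' : a2 = v * a := hva
    have ha' : (a : Matrix (Fin 3) (Fin 3) F) = ((v⁻¹ : GL (Fin 3) F) : Matrix (Fin 3) (Fin 3) F) * M := by
      rw [hM, hva', ← Units.val_mul, inv_mul_cancel_left]
    rw [ha', Units.val_mul, Units.val_mk0, ← Matrix.mul_smul, gD3_val, hdiag]
    congr 1
    rw [← Matrix.diagonal_smul]
    congr 1
    funext i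
    simp [col i]

end Cfsg.Agent.C6NineOdd
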