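/-
The centraliser of the involution of one factor lies in the normaliser.
Main results: `mW_noTv`, `CJ_form`, `CJ_le_base`.
-/
import Cfsg.Agent.Lib.C6NineOdd.CentJHom
import Cfsg.Agent.Lib.C6NineOdd.NormalForm

set_option autoImplicit false
set_option linter.unusedSectionVars false
set_option linter.unusedSimpArgs false

namespace Cfsg.Agent.C6NineOdd

open Matrix Cfsg.Agent.Transvect
open scoped Matrix Kronecker commutatorElement

variable {F : Type*} [Field F] [Fintype F] (κ : Fld F)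

theorem mWm_S24 {s : GL (Fin 3) F} (hs : s ∈ S24 κ) :
    mWm (kr 1 s) = (1 : Matrix (Fin 3) (Fin 3) F) := by
  obtain ⟨-, hw, -⟩ := S24_props κ hs
  have := congrFun hw 1
  rw [app_apply] at this
  simp [wm, Matrix.mulVec, dotProduct, Fin.sum_univ_three] at this
  rw [mWm_kr, sub_eq_add_neg, this, one_smul, Units.val_one]

theorem kr_S24_mem_CJ {H : Subgroup (GL I9 F)} (O : Ovr κ H) {s : GL (Fin 3) F} (hs : s ∈ S24 κ) :
    kr 1 s ∈ CJ H :=
  mem_CJ.2 ⟨O.base (S24_props κ hs).2.2, (krR_mem_K1 κ O hs).2.1⟩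

/-- The exceptional cases of the fixed point count. -/
theorem small_cases {p c n d : ℕ} (hp : p.Prime) (h5 : 5 ≤ p) (hm : p % 3 = 2) (hd : n = c * d)
    (h3 : 3 ∣ n) (hn : n ≤ 24) (h2 : 2 ∣ c) (hc : 0 < c) (hd2 : 2 ≤ d) (hdvd : p ∣ c * (d - 1)) :
    (p = 5 ∨ p = 11) ∧ (c = 2 ∨ c = 4) := by
  have hc12 : c * 2 ≤ 24 := le_trans (Nat.mul_le_mul_left c hd2) (hd ▸ hn)
  rcases hp.dvd_mul.1 hdvd with h | h
  · exfalso
    obtain ⟨e, he⟩ := ((Nat.coprime_primes hp Nat.prime_two).2 (by omega)).mul_dvd_of_dvd_of_dvd h h2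
    rcases Nat.lt_or_ge e 2 with he' | he'
    · interval_cases e
      · omega
      · have hc10 : c = 10 := by omega
        subst hc10
        omega
    · have := Nat.mul_le_mul_left (p * 2) he'
      omega
  · have hdp : p + 1 ≤ d := by have := Nat.le_of_dvd (by omega) h; omega
    have e1 := Nat.mul_le_mul (show 2 ≤ c by omega) hdp
    have e3 := Nat.mul_le_mul (le_refl c) (show 6 ≤ d by omega)
    have h8 : p ≠ 8 := fun e => absurd (e ▸ hp) (by norm_num)
    exact ⟨by omega, by omega⟩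

/-- Counting the orbit of an element of order three under an automorphism of odd prime power order. -/
theorem orbit_count {G : Type*} [Group G] [Finite G] (φ : MulAut G) {p k : ℕ} (hp : p.Prime)
    (h5 : 5 ≤ p) {C : Subgroup G} {x E y : G} (hper : (φ ^ p ^ k) x = x)
    (hfix : ∀ y, φ y = y ↔ y ∈ C) (hx3 : x ^ 3 = 1) (hx1 : x ≠ 1) (hxC : x ∉ C) (hE2 : E * E = 1)
    (hE1 : E ≠ 1) (hEc : ∀ z, Commute E z) (hEC : E ∈ C) (hyC : y ∉ C) (hy4 : y ^ 4 = 1) :
    4 * p + Nat.card C + 1 ≤ Nat.card G := by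
  classical
  have hit : ∀ (i : ℕ) (z : G), (⇑φ)^[i] z = (φ ^ i) z := fun i z => by
    induction i with
    | zero => simp
    | succ i ih => rw [Function.iterate_succ_apply', ih, pow_succ', MulAut.mul_apply]
  set r := Function.minimalPeriod φ x with hr
  have hP : Function.IsPeriodicPt φ (p ^ k) x := (hit _ _).trans hper
  obtain ⟨i0, -, hri⟩ := (Nat.dvd_prime_pow hp).1 hP.minimalPeriod_dvd
  rw [← hr] at hri
  have hi1 : i0 ≠ 0 := fun e => hxC ((hfix x).1 (by
    rw [e, pow_zero] at hri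
    exact Function.minimalPeriod_eq_one_iff_isFixedPt.1 hri))
  have hrp : p ≤ r := hri ▸ Nat.le_self_pow hi1 _
  have hrodd : Nat.Coprime r 2 :=
    hri ▸ Nat.Coprime.pow_left _ ((Nat.coprime_primes hp Nat.prime_two).2 (by omega))
  have hrx : (φ ^ r) x = x := (hit _ _).symm.trans Function.iterate_minimalPeriod
  have hx2 : x⁻¹ ≠ x := fun e => hx1 (by
    have h2' : x * x = 1 := mul_eq_one_iff_inv_eq.2 e
    rw [pow_succ, pow_two, h2', one_mul] at hx3
    exact hx3)
  have same : ∀ i j : Fin p, (φ ^ (i : ℕ)) x = (φ ^ (j : ℕ)) x → i = j := fun i j h => by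
    rw [← hit, ← hit] at h
    exact Fin.ext (Function.iterate_injOn_Iio_minimalPeriod (show (i : ℕ) < r by omega)
      (show (j : ℕ) < r by omega) h)
  have opp : ∀ i j : Fin p, (φ ^ (i : ℕ)) x ≠ (φ ^ (j : ℕ)) x⁻¹ := fun i j h => by
    set m := (i : ℕ) + (r - (j : ℕ)) with hm
    have h1 : (φ ^ m) x = x⁻¹ := by
      rw [hm, add_comm, pow_add, MulAut.mul_apply, h, ← MulAut.mul_apply, ← pow_add,
        Nat.sub_add_cancel (by omega), map_inv, hrx]
    have h2 : (φ ^ (2 * m)) x = x := by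
      rw [two_mul, pow_add, MulAut.mul_apply, h1, map_inv, h1, inv_inv]
    have h3 : r ∣ m := hrodd.dvd_of_dvd_mul_left
      (Function.IsPeriodicPt.minimalPeriod_dvd ((hit _ _).trans h2))
    refine hx2 ?_
    rw [← h1, ← hit]
    exact (Function.isPeriodicPt_minimalPeriod φ x).trans_dvd h3
  let ep : Bool → G := fun δ => cond δ E 1
  let xp : Bool → G := fun ε => cond ε x⁻¹ x
  let f : Fin p × Bool × Bool → G := fun q => ep q.2.2 * (φ ^ (q.1 : ℕ)) (xp q.2.1)
  have hep : ∀ δ, ep δ * ep δ = 1 := fun δ => by cases δ <;> simp [ep, hE2]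
  have hepc : ∀ δ z, Commute (ep δ) z := fun δ z => by
    cases δ
    · exact Commute.one_left z
    · exact hEc z
  have hepf : ∀ δ, φ (ep δ) = ep δ := fun δ => by
    cases δ
    · exact map_one φ
    · exact (hfix E).2 hEC
  have hxp : ∀ ε, xp ε ^ 3 = 1 := fun ε => by cases ε <;> simp [xp, hx3]
  have hf3 : ∀ q, f q ^ 3 = ep q.2.2 := fun q => by
    simp only [f]
    rw [(hepc _ _).mul_pow, ← map_pow, hxp, map_one, mul_one, pow_succ, pow_two, hep, one_mul]
  have hfC : ∀ q, f q ∉ C := by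
    intro q hq
    have e := (hfix _).2 hq
    simp only [f, map_mul, hepf] at e
    have e' := mul_left_cancel e
    rw [← MulAut.mul_apply, ← pow_succ', pow_succ, MulAut.mul_apply] at e'
    have e2 := (φ ^ (q.1 : ℕ)).injective e'
    cases hε : q.2.1 <;> simp only [xp, hε, cond_true, cond_false] at e2
    · exact hxC ((hfix x).1 e2)
    · exact hxC (inv_inv x ▸ inv_mem ((hfix _).1 e2))
  have hinj : Function.Injective f := by
    rintro ⟨i, ε, δ⟩ ⟨j, ε', δ'⟩ e
    have e3 := congrArg (fun z => z ^ 3) e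
    simp only [hf3] at e3
    obtain rfl : δ = δ' := by
      cases δ <;> cases δ' <;> first | rfl | exact absurd e3 hE1 | exact absurd e3.symm hE1
    have e4 : (φ ^ (i : ℕ)) (xp ε) = (φ ^ (j : ℕ)) (xp ε') := mul_left_cancel e
    cases ε <;> cases ε' <;> simp only [xp, cond_true, cond_false] at e4
    · rw [same i j e4]
    · exact absurd e4 (opp i j)
    · exact absurd e4.symm (opp j i)
    · rw [map_inv, map_inv, _root_.inv_inj] at e4
      rw [same i j e4]
  let F' : ((Fin p × Bool × Bool) ⊕ C) ⊕ Unit → G := Sum.elim (Sum.elim f Subtype.val) fun _ => y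
  have hF' : Function.Injective F' := by
    refine (hinj.sumElim Subtype.val_injective fun q c h => hfC q (h ▸ c.2)).sumElim
      (fun _ _ _ => rfl) ?_
    rintro (q | c) _ h
    · have e4 : f q ^ 4 = 1 := by rw [show f q = y from h, hy4]
      rw [pow_succ, hf3] at e4
      simp only [f, ← mul_assoc, hep, one_mul] at e4
      rw [map_eq_one_iff _ (φ ^ (q.1 : ℕ)).injective] at e4
      cases hε : q.2.1 <;> simp only [xp, hε, cond_true, cond_false] at e4
      · exact hx1 e4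
      · exact hx1 (inv_eq_one.1 e4)
    · exact hyC ((show (c : G) = y from h) ▸ c.2)
  have hle := Nat.card_le_card_of_injective F' hF'
  simp only [Nat.card_sum, Nat.card_prod, Nat.card_fin, Nat.card_eq_fintype_card (α := Bool),
    Fintype.card_bool, Nat.card_unique] at hle
  omega

/-- A small subgroup misses one of the quaternion units. -/
theorem exists_four_outside (C : Subgroup ((S24 κ).map (krR : GL (Fin 3) F →* GL I9 F)))
    (hc : Nat.card C = 2 ∨ Nat.card C = 4) : ∃ y, y ∉ C ∧ y ^ 4 = 1 := by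
  let W : Fin 3 → (S24 κ).map (krR : GL (Fin 3) F →* GL I9 F) := fun l => ⟨_, Subgroup.mem_map_of_mem krR
    (Q8_le κ (Subgroup.subset_closure ⟨l, rfl⟩) : wk κ l ∈ S24 κ)⟩
  have hW4 : ∀ l, W l ^ 4 = 1 := fun l => Subtype.ext (by
    show krR (wk κ l) ^ 4 = 1
    rw [← map_pow, show wk κ l ^ 4 = (wk κ l * wk κ l) * (wk κ l * wk κ l) by
      simp only [pow_succ, pow_zero, one_mul, mul_assoc], wk_sq, gE_sq, map_one])
  by_contra! hall
  have h0' : W 0 ∈ C := by by_contra h; exact hall _ h (hW4 0)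
  have h1' : W 1 ∈ C := by by_contra h; exact hall _ h (hW4 1)
  haveI : Fact (Nat.Prime 2) := ⟨Nat.prime_two⟩
  have hcomm : ∀ a b : C, a * b = b * a := by
    rcases hc with h | h
    · haveI := isCyclic_of_prime_card (α := C) (p := 2) h
      exact fun a b => IsCyclic.commGroup.mul_comm a b
    · exact IsPGroup.commutative_of_card_eq_prime_sq (p := 2) (by rw [h]; norm_num)
  have e := congrArg (fun z : C => ((z.1).1 : GL I9 F)) (hcomm ⟨_, h0'⟩ ⟨_, h1'⟩)
  change krR (wk κ 0) * krR (wk κ 1) = krR (wk κ 1) * krR (wk κ 0) at e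
  rw [← map_mul, ← map_mul] at e
  have e' := krR_injective e
  rw [wk_anti κ (show (0 : Fin 3) ≠ 1 by decide), mul_eq_right] at e'
  exact gE_ne_one κ e'

/-- Elements of prime power order centralise the right binary tetrahedral group. -/
theorem comm_S24 {H : Subgroup (GL I9 F)} (O : Ovr κ H) {g : GL I9 F} (hg : g ∈ CJ H) {k : ℕ}
    (hgk : g ^ κ.p ^ k = 1) {s : GL (Fin 3) F} (hs : s ∈ S24 κ) :
    g * kr 1 s = kr 1 s * g := by
  classical
  haveI : Fact κ.p.Prime := ⟨κ.prime⟩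
  set G' := (S24 κ).map (krR : GL (Fin 3) F →* GL I9 F) with hG'
  have hnorm : ∀ g ∈ CJ H, ∀ y ∈ G', g * y * g⁻¹ ∈ G' := by
    rintro g hg _ ⟨s, hs, rfl⟩
    have hy := kr_S24_mem_CJ κ O hs
    have hm : mW H ⟨_, hy⟩ = 1 := Units.ext (by rw [mW_val, Units.val_one]; exact mWm_S24 κ hs)
    have hm' : mW H ⟨g * kr 1 s * g⁻¹, mul_mem (mul_mem hg hy) (inv_mem hg)⟩ = 1 := by
      rw [show (⟨g * kr 1 s * g⁻¹, _⟩ : CJ H) = ⟨g, hg⟩ * ⟨_, hy⟩ * ⟨g, hg⟩⁻¹ from rfl,
        map_mul, map_mul, hm, mul_one, map_inv, mul_inv_cancel]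
    obtain ⟨t, ht, e⟩ := K1_eq κ O (mW_ker κ hm')
    exact ⟨t, ht, e.symm⟩
  have hgN : g ∈ Subgroup.normalizer (G' : Set (GL I9 F)) :=
    Subgroup.mem_normalizer_iff.2 fun y => ⟨hnorm g hg y, fun hy => by
      have := hnorm g⁻¹ (inv_mem hg) _ hy
      simpa [mul_assoc] using this⟩
  set φ : MulAut G' := G'.normalizerMonoidHom ⟨g, hgN⟩ with hφ
  set σ : Equiv.Perm G' := MulAut.toPerm G' φ with hσ
  have hσk : σ ^ κ.p ^ k = 1 := by
    rw [hσ, hφ, ← map_pow, ← map_pow]
    rw [show (⟨g, hgN⟩ : Subgroup.normalizer (G' : Set (GL I9 F))) ^ κ.p ^ k = 1 from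
      Subtype.ext (by simp [hgk]), map_one, map_one]
  have hmod := Equiv.Perm.card_compl_support_modEq hσk
  set C : Subgroup G' := (Subgroup.centralizer {g}).subgroupOf G' with hC
  have hCcard : σ.supportᶜ.card = Nat.card C := by
    rw [Nat.card_eq_fintype_card, eq_comm]
    refine Fintype.card_of_subtype _ fun y => ?_
    rw [Finset.mem_compl, Equiv.Perm.notMem_support, hC, Subgroup.mem_subgroupOf,
      Subgroup.mem_centralizer_singleton_iff]
    show (φ y = y) ↔ _
    constructor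
    · intro e
      have := congrArg (fun z : G' => (z : GL I9 F)) e
      simp only [hφ] at this
      exact (mul_inv_eq_iff_eq_mul.1 this).symm
    · intro e
      apply Subtype.ext
      show g * (y : GL I9 F) * g⁻¹ = y
      rw [← e, mul_inv_cancel_right]
  rw [hCcard, show Fintype.card G' = Nat.card G' from Nat.card_eq_fintype_card.symm] at hmod
  have hn24 : Nat.card G' ≤ 24 := by
    rw [hG', Subgroup.card_map_of_injective krR_injective]
    exact S24_card_le κ
  have h0 : (gh κ 0) ∈ S24 κ := Subgroup.subset_closure (by simp)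
  have hEs : gE κ ∈ S24 κ := Q8_le κ (gE_mem_Q8 κ)
  have h3 : 3 ∣ Nat.card G' := by
    haveI : Fact (Nat.Prime 3) := ⟨Nat.prime_three⟩
    have hne : gh κ 0 ≠ 1 := fun e => by
      have := congrArg (fun x : GL (Fin 3) F => (x : Matrix (Fin 3) (Fin 3) F) 0 0) e
      simp [gh, dgl, Fld.w_val] at this
      exact κ.ω_ne_one this
    have := orderOf_dvd_natCard (⟨_, Subgroup.mem_map_of_mem krR h0⟩ : G')
    rwa [Subgroup.orderOf_mk, orderOf_injective krR krR_injective, orderOf_eq_prime (gh0_cube κ) hne] at this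
  have hEg : krR (gE κ) ∈ Subgroup.centralizer {g} := by
    refine Subgroup.mem_centralizer_singleton_iff.2 ?_
    apply Units.ext
    have e : ((krR (gE κ) : GL I9 F) : Matrix I9 I9 F) = -((kr 1 gJ : GL I9 F) : Matrix I9 I9 F) := by
      show ((1 : GL (Fin 3) F) : Matrix (Fin 3) (Fin 3) F) ⊗ₖ (gE κ : Matrix (Fin 3) (Fin 3) F) = _
      rw [gE_val]
      ext ⟨a, b⟩ ⟨c, d⟩
      simp [kr_val]
    rw [Units.val_mul, Units.val_mul, e, neg_mul, mul_neg, ← Units.val_mul, ← Units.val_mul,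
      (mem_CJ.1 hg).2]
  have h2 : 2 ∣ Nat.card C := by
    haveI : Fact (Nat.Prime 2) := ⟨Nat.prime_two⟩
    have hc := hEg
    have := orderOf_dvd_natCard (⟨⟨_, Subgroup.mem_map_of_mem krR hEs⟩, hc⟩ : C)
    rwa [← Subgroup.orderOf_coe, ← Subgroup.orderOf_coe, orderOf_injective krR krR_injective,
      orderOf_eq_prime (by rw [pow_two, gE_sq]) (gE_ne_one κ)] at this
  obtain ⟨d, hd⟩ := Subgroup.card_subgroup_dvd_card C
  have hpos : 0 < Nat.card C := Nat.card_pos
  have hfix : ∀ y : G', φ y = y ↔ y ∈ C := fun y => by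
    rw [hC, Subgroup.mem_subgroupOf, Subgroup.mem_centralizer_singleton_iff]
    exact ⟨fun e => (mul_inv_eq_iff_eq_mul.1 (congrArg Subtype.val e)).symm,
      fun e => Subtype.ext (show g * (y : GL I9 F) * g⁻¹ = y by rw [← e, mul_inv_cancel_right])⟩
  have hd1 : d = 1 := by
    by_contra hd1
    have hdvd : κ.p ∣ Nat.card C * (d - 1) := by
      have := (Nat.modEq_iff_dvd' (Nat.le_of_dvd Nat.card_pos ⟨d, hd⟩)).1 hmod
      rwa [hd, ← Nat.mul_sub_one] at this
    have hd2 : 2 ≤ d := by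
      rcases Nat.lt_or_ge d 2 with h | h
      · interval_cases d
        · rw [mul_zero] at hd
          exact absurd hd (Nat.card_pos (α := G')).ne'
        · exact absurd rfl hd1
      · exact h
    obtain ⟨hp, hc24⟩ := small_cases κ.prime κ.five κ.mod3 hd h3 hn24 h2 hpos hd2 hdvd
    set x : G' := ⟨_, Subgroup.mem_map_of_mem krR h0⟩ with hx
    set E' : G' := ⟨_, Subgroup.mem_map_of_mem krR hEs⟩ with hE'
    have hx3 : x ^ 3 = 1 := Subtype.ext (by
      show krR (gh κ 0) ^ 3 = 1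
      rw [← map_pow, gh0_cube, map_one])
    have hx1 : x ≠ 1 := fun e => by
      have : gh κ 0 = 1 := krR_injective (by rw [map_one]; exact congrArg Subtype.val e)
      have := congrArg (fun z : GL (Fin 3) F => (z : Matrix (Fin 3) (Fin 3) F) 0 0) this
      simp [gh, dgl, Fld.w_val] at this
      exact κ.ω_ne_one this
    have hxC : x ∉ C := fun h => by
      haveI : Fact (Nat.Prime 3) := ⟨Nat.prime_three⟩
      have := orderOf_dvd_natCard (⟨x, h⟩ : C)
      rw [Subgroup.orderOf_mk, orderOf_eq_prime hx3 hx1] at this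
      omega
    have hE2 : E' * E' = 1 := Subtype.ext (by
      show krR (gE κ) * krR (gE κ) = 1
      rw [← map_mul, gE_sq, map_one])
    have hE1 : E' ≠ 1 := fun e =>
      gE_ne_one κ (krR_injective (by rw [map_one]; exact congrArg Subtype.val e))
    have hEc : ∀ y : G', Commute E' y := by
      rintro ⟨_, t, ht, rfl⟩
      refine Subtype.ext ?_
      show krR (gE κ) * krR t = krR t * krR (gE κ)
      rw [← map_mul, ← map_mul, gE_central κ ht]
    have hEC : E' ∈ C := by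
      rw [hC, Subgroup.mem_subgroupOf]
      exact hEg
    obtain ⟨y, hyC, hy4⟩ := exists_four_outside κ C hc24
    have hper : (φ ^ κ.p ^ k) x = x := by
      have := congrArg (fun e : Equiv.Perm G' => e x) hσk
      rw [hσ, ← map_pow] at this
      exact this
    have hle := orbit_count φ κ.prime κ.five hper hfix hx3 hx1 hxC hE2 hE1 hEc hEC hyC hy4
    rw [hd] at hle hn24
    rcases hp with hp | hp <;> rw [hp] at hle hdvd <;> rcases hc24 with hc | hc <;>
      rw [hc] at hle hn24 hdvd <;> omega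
  rw [hd1, mul_one] at hd
  have htop : C = ⊤ := Subgroup.eq_top_of_card_eq _ hd.symm
  have hmem : (⟨_, Subgroup.mem_map_of_mem krR hs⟩ : G') ∈ C := by rw [htop]; exact Subgroup.mem_top _
  rw [hC, Subgroup.mem_subgroupOf, Subgroup.mem_centralizer_singleton_iff] at hmem
  exact hmem.symm

theorem pq_commJ (y : GL (Fin 3) F × GL (Fin 3) F) :
    pq κ y * kr 1 gJ = kr 1 gJ * pq κ y := by
  obtain ⟨h1, h2, h3, h4, -⟩ := proj_rules κ
  have h2' := κ.two
  have e : ((kr 1 gJ : GL I9 F) : Matrix I9 I9 F) = (pq κ (1, -1) : Matrix I9 I9 F) := by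
    rw [pq_val]
    ext ⟨a, b⟩ ⟨c, d⟩
    simp [kr_val, Pp, Pm, gJ, Matrix.kroneckerMap_apply, Matrix.one_apply]
    fin_cases b <;> fin_cases d <;> by_cases h : a = c <;> simp [h] <;> field_simp <;> ring
  rw [Units.ext e, ← map_mul, ← map_mul]
  congr 1
  ext1 <;> simp

theorem pq_entry0 (y : GL (Fin 3) F × GL (Fin 3) F) (i j : Fin 3) :
    (pq κ y : Matrix I9 I9 F) (i, 0) (j, 0) = (y.1 : Matrix (Fin 3) (Fin 3) F) i j := by
  have h2 := κ.two
  rw [pq_val]
  simp [Pp, Pm, gJ, Matrix.kroneckerMap_apply]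
  field_simp
  ring

theorem mWm_pq (y : GL (Fin 3) F × GL (Fin 3) F) :
    mWm (pq κ y) = (y.2 : Matrix (Fin 3) (Fin 3) F) := by
  have h2 := κ.two
  ext i j
  simp [mWm, pq_val, Pp, Pm, gJ, Matrix.kroneckerMap_apply]
  field_simp
  ring

/-- The split form of an element commuting with the right binary tetrahedral group. -/
theorem exists_pq {g : GL I9 F} (hJ : g * kr 1 gJ = kr 1 gJ * g)
    (hh : g * kr 1 (gh κ 0) = kr 1 (gh κ 0) * g) (hq : g * kr 1 (gq κ) = kr 1 (gq κ) * g)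
    (x : GL (Fin 3) F) (hx : (x : Matrix (Fin 3) (Fin 3) F) = mWm g) :
    ∃ A : GL (Fin 3) F, g = pq κ (A, x) := by
  obtain ⟨h1, h2, h3, h4, -⟩ := proj_rules κ
  have e1 := split6 κ hJ hh hq
  have e2 := split6 κ (g := g⁻¹) (Commute.inv_left (show Commute g _ from hJ)).eq
    (Commute.inv_left (show Commute g _ from hh)).eq (Commute.inv_left (show Commute g _ from hq)).eq
  set A : Matrix (Fin 3) (Fin 3) F := Matrix.of fun i j => (g : Matrix I9 I9 F) (i, 0) (j, 0)
  set A' : Matrix (Fin 3) (Fin 3) F :=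
    Matrix.of fun i j => ((g⁻¹ : GL I9 F) : Matrix I9 I9 F) (i, 0) (j, 0)
  have hm : (A * A') ⊗ₖ Pp + (mWm g * mWm g⁻¹) ⊗ₖ Pm = (1 : Matrix I9 I9 F) := by
    rw [← Units.val_one, ← mul_inv_cancel g, Units.val_mul, e1, e2]
    simp only [Matrix.add_mul, Matrix.mul_add, ← Matrix.mul_kronecker_mul, h1, h2, h3, h4,
      Matrix.kronecker_zero, add_zero, zero_add]
  have hAA : A * A' = 1 := by
    ext i j
    have := congrFun (congrFun hm (i, 0)) (j, 0)
    have h2' := κ.two
    simp [Pp, Pm, gJ, Matrix.kroneckerMap_apply] at this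
    field_simp at this
    rw [Matrix.one_apply] at this ⊢
    simp only [Prod.mk.injEq, and_true] at this
    exact mul_left_cancel₀ h2' (by linear_combination this)
  refine ⟨⟨A, A', hAA, mul_eq_one_comm.1 hAA⟩, Units.ext ?_⟩
  rw [pq_val, hx, e1]

/-- The kernel on U ⊗ W- consists of scalars on U ⊗ W+ as well. -/
theorem pq_ker {H : Subgroup (GL I9 F)} (O : Ovr κ H) {A : GL (Fin 3) F} (h : pq κ (A, 1) ∈ H) :
    ∃ c : F, (A : Matrix (Fin 3) (Fin 3) F) = c • 1 := by
  have hC : pq κ (A, 1) ∈ CJ H := mem_CJ.2 ⟨h, pq_commJ κ _⟩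
  have hm : mW H ⟨_, hC⟩ = 1 := Units.ext (by rw [mW_val, mWm_pq])
  obtain ⟨s, -, e⟩ := K1_eq κ O (mW_ker κ hm)
  refine ⟨(s : Matrix (Fin 3) (Fin 3) F) 0 0, ?_⟩
  ext i j
  have := congrArg (fun x : GL I9 F => (x : Matrix I9 I9 F) (i, 0) (j, 0)) e
  simp only [pq_entry0, kr_val] at this
  rw [this, Matrix.smul_apply, Units.val_one, smul_eq_mul, mul_comm]

/-- A diagonal matrix of norm one entries. -/
theorem diag_iso {n : Type} [Fintype n] [DecidableEq n] {d : n → Fˣ}
    (h : ∀ i, (d i : F) * (d i : F) ^ κ.p = 1) : IsI κ.p (dgl d) := fun x y => by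
  simp only [hq, app_dgl, mul_pow]
  exact Finset.sum_congr rfl fun i _ => by linear_combination x i * y i ^ κ.p * h i

theorem app_mW {g : GL I9 F} (hg : g * kr 1 gJ = kr 1 gJ * g) (u : Fin 3 → F) :
    app g (fun q => u q.1 * wm q.2) = fun q => (mWm g *ᵥ u) q.1 * wm q.2 := by
  funext ⟨i, k⟩
  have e01 : ∀ j, (g : Matrix I9 I9 F) (i, 0) (j, 2) = (g : Matrix I9 I9 F) (i, 0) (j, 1) := fun j => by
    have := CJ_entry hg i j 0 1
    rwa [show (-0 : Fin 3) = 0 from rfl, show (-1 : Fin 3) = 2 from rfl] at this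
  have e11 : ∀ j, (g : Matrix I9 I9 F) (i, 2) (j, 2) = (g : Matrix I9 I9 F) (i, 1) (j, 1) := fun j => by
    have := CJ_entry hg i j 1 1
    rwa [show (-1 : Fin 3) = 2 from rfl] at this
  have e12 : ∀ j, (g : Matrix I9 I9 F) (i, 2) (j, 1) = (g : Matrix I9 I9 F) (i, 1) (j, 2) := fun j => by
    have := CJ_entry hg i j 1 2
    rwa [show (-1 : Fin 3) = 2 from rfl, show (-2 : Fin 3) = 1 from rfl] at this
  simp only [app_apply, Matrix.mulVec, dotProduct, Fintype.sum_prod_type, Fin.sum_univ_three, mWm, wm,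
    Matrix.of_apply]
  fin_cases k <;> simp [e01, e11, e12] <;> ring

/-- The image on U ⊗ W- preserves the form. -/
theorem mW_iso {H : Subgroup (GL I9 F)} (O : Ovr κ H) : (mW H).range ≤ IGrp κ.p := by
  rintro _ ⟨g, rfl⟩ x y
  have hw2 : hq κ.p (wm : Fin 3 → F) wm = 2 := by
    simp [hq, wm, Fin.sum_univ_three, zero_pow κ.p0, Unitary.neg_pow_q κ.card]
    norm_num
  have fac : ∀ u v : Fin 3 → F, hq κ.p (fun q : I9 => u q.1 * wm q.2) (fun q => v q.1 * wm q.2) =
      hq κ.p u v * 2 := fun u v => by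
    rw [← hw2]
    simp only [hq, Fintype.sum_prod_type, Finset.sum_mul_sum, mul_pow]
    exact Finset.sum_congr rfl fun i _ => Finset.sum_congr rfl fun k _ => by ring
  have := O.noTv.iso (mem_CJ.1 g.2).1 (fun q => x q.1 * wm q.2) (fun q => y q.1 * wm q.2)
  rw [app_mW (mem_CJ.1 g.2).2, app_mW (mem_CJ.1 g.2).2, fac, fac] at this
  exact mul_right_cancel₀ κ.two this

theorem tv_pow' {ι : Type} [Fintype ι] [DecidableEq ι] {v : ι → F} {φ : (ι → F) →ₗ[F] F}
    (h0 : φ v = 0) (n : ℕ) : tv v φ ^ n = tv v ((n : F) • φ) := by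
  induction n with
  | zero => simp
  | succ n ih =>
    rw [pow_succ, ih, ← tv_add (by simp [h0]) h0]
    push_cast
    rw [add_smul, one_smul]

/-- The second components of the split elements. -/
noncomputable def Lsp (H : Subgroup (GL I9 F)) : Subgroup (GL (Fin 3) F) :=
  (H.comap (pq κ)).map (MonoidHom.snd (GL (Fin 3) F) (GL (Fin 3) F))

/-- A transvection on U ⊗ W- lifts to a split element. -/
theorem lift_split {H : Subgroup (GL I9 F)} (O : Ovr κ H) {v : Fin 3 → F}
    {φ : (Fin 3 → F) →ₗ[F] F} (h0 : φ v = 0) (hx : tv v φ ∈ (mW H).range) : tv v φ ∈ Lsp κ H := by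
  classical
  haveI := κ.charP
  obtain ⟨g0, hg0⟩ := hx
  obtain ⟨k, r, hr, hor⟩ := Nat.exists_eq_pow_mul_and_not_dvd (orderOf_pos g0.1).ne' κ.p κ.prime.ne_one
  have hcop : Nat.Coprime r (κ.p ^ (k + 1)) :=
    Nat.Coprime.pow_right _ ((Nat.Prime.coprime_iff_not_dvd κ.prime).2 hr).symm
  obtain ⟨m, hm0, hm1⟩ := Nat.chineseRemainder hcop 0 1
  have hmF : (m : F) = 1 := by
    have : m ≡ 1 [MOD κ.p] := hm1.of_dvd (dvd_pow_self κ.p (by omega))
    have := (CharP.natCast_eq_natCast F κ.p).2 this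
    simpa using this
  set g := g0 ^ m with hg
  have hgk : (g : GL I9 F) ^ κ.p ^ k = 1 := by
    rw [hg, SubgroupClass.coe_pow, ← pow_mul]
    obtain ⟨t, rfl⟩ := Nat.modEq_zero_iff_dvd.1 hm0
    rw [show r * t * κ.p ^ k = κ.p ^ k * r * t by ring, ← hor, pow_mul, pow_orderOf_eq_one, one_pow]
  have hgm : mW H g = tv v φ := by rw [hg, map_pow, hg0, tv_pow' h0, hmF, one_smul]
  have hh0 : (gh κ 0) ∈ S24 κ := Subgroup.subset_closure (by simp)
  have hq0 : (gq κ) ∈ S24 κ := Subgroup.subset_closure (by simp)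
  obtain ⟨A, hA⟩ := exists_pq κ (mem_CJ.1 g.2).2 (comm_S24 κ O g.2 hgk hh0) (comm_S24 κ O g.2 hgk hq0)
    (tv v φ) (by rw [← hgm, mW_val])
  exact ⟨(A, tv v φ), show pq κ (A, tv v φ) ∈ H from hA ▸ (mem_CJ.1 g.2).1, rfl⟩

/-- The image on U ⊗ W- contains no transvection. -/
theorem mW_noTv {H : Subgroup (GL I9 F)} (O : Ovr κ H) : NoTv κ (mW H).range := by
  classical
  refine ⟨mW_iso κ O, fun v φ h0 hm => ?_⟩
  by_contra hne
  obtain ⟨hh, -, hq, -, -, -⟩ := base_gens κ
  have lift : ∀ {w : GL (Fin 3) F}, kr w 1 ∈ H → w ∈ Lsp κ H := fun {w} hw =>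
    ⟨(w, w), by show pq κ _ ∈ H; rw [pq_diag]; exact hw, rfl⟩
  have hLI : Lsp κ H ≤ IGrp κ.p := by
    rintro _ ⟨y, hy, rfl⟩
    exact (pq_iso κ (O.noTv.iso hy)).2
  have hsu := std_su κ hLI (fun j => lift (O.base (hh j))) (lift (O.base hq)) h0 hne
    (lift_split κ O h0 hm)
  -- two diagonal elements of order two
  have hm1 : ((-1 : Fˣ) : F) * ((-1 : Fˣ) : F) ^ κ.p = 1 := by
    rw [Units.val_neg, Units.val_one, Unitary.neg_pow_q κ.card, one_pow]; ring
  set D : GL (Fin 3) F := dgl ![-1, 1, -1] with hD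
  set t : GL (Fin 3) F := dgl ![1, -1, -1] with ht
  have hDsu : D ∈ Unitary.suGL 3 F κ.p := by
    refine Subgroup.mem_inf.2 ⟨mem_IGrp_iff_GU.1 (diag_iso κ fun i => ?_), Transvect.mem_sl_iff.2 ?_⟩
    · fin_cases i <;> first | exact hm1 | simp
    · simp [hD, dgl, Matrix.det_diagonal, Fin.prod_univ_three]
  obtain ⟨⟨b, _⟩, hbH, rfl : _ = D⟩ := hsu hDsu
  replace hbH : pq κ (b, D) ∈ H := hbH
  have hXH : kr gX 1 ∈ H := O.base (R9_le_base κ (mem_R9_gens κ).1)
  have scal : ∀ {a x : GL (Fin 3) F} {n : GL (Fin 3) F}, pq κ (a, x) ∈ H → kr n 1 ∈ H →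
      x * n = n * x → ∃ c : F, ((⁅a, n⁆ : GL (Fin 3) F) : Matrix (Fin 3) (Fin 3) F) = c • 1 := by
    intro a x n ha hn e
    refine pq_ker κ O (A := ⁅a, n⁆) ?_
    have : ((⁅a, n⁆, 1) : GL (Fin 3) F × GL (Fin 3) F) = ⁅(a, x), (n, n)⁆ := by
      ext1
      · simp [commutatorElement_def]
      · simp [commutatorElement_eq_one_iff_mul_comm.2 e, commutatorElement_def, mul_assoc]
        rw [← mul_assoc x, e]; group
    rw [this, map_commutatorElement, pq_diag]
    exact mul_mem (mul_mem (mul_mem ha hn) (inv_mem ha)) (inv_mem hn)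
  have hbc : ∀ j, b * gh κ j = gh κ j * b := by
    intro j
    obtain ⟨c, hc⟩ := scal hbH (O.base (hh j)) (by rw [hD, gh, dgl_mul, dgl_mul, mul_comm])
    have e : ((b * gh κ j * b⁻¹ : GL (Fin 3) F) : Matrix (Fin 3) (Fin 3) F) =
        c • (gh κ j : Matrix (Fin 3) (Fin 3) F) := by
      have e1 : b * gh κ j * b⁻¹ = ⁅b, gh κ j⁆ * gh κ j := by rw [commutatorElement_def]; group
      rw [e1, Units.val_mul, hc, smul_mul_assoc, one_mul]
    have htr := congrArg Matrix.trace e
    rw [Units.val_mul, Units.val_mul, Matrix.trace_units_conj, Matrix.trace_smul] at htr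
    have hne0 : Matrix.trace (gh κ j : Matrix (Fin 3) (Fin 3) F) ≠ 0 := by
      have : Matrix.trace (gh κ j : Matrix (Fin 3) (Fin 3) F) = κ.ω + 2 := by
        fin_cases j <;> simp [Matrix.trace, gh, dgl, Fin.sum_univ_three, Fld.w_val] <;> ring
      rw [this]
      intro h
      exact κ.three (by linear_combination κ.rel - (κ.ω - 1) * h)
    have hc1 : c = 1 := by
      refine mul_right_cancel₀ hne0 ?_
      rw [one_mul, ← smul_eq_mul]; exact htr.symm
    rw [hc1, one_smul] at hc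
    exact commutatorElement_eq_one_iff_mul_comm.1 (Units.ext (by rw [hc, Units.val_one]))
  set M := (b : Matrix (Fin 3) (Fin 3) F) with hM
  have hoff : ∀ i j : Fin 3, i ≠ j → M i j = 0 := fun i j hij => by
    have := congrArg (fun y : GL (Fin 3) F => (y : Matrix (Fin 3) (Fin 3) F) i j) (hbc i)
    simp [gh, dgl, Matrix.mul_diagonal, Matrix.diagonal_mul, ← hM, hij.symm, Fld.w_val] at this
    exact (mul_eq_zero.1 (show (κ.ω - 1) * M i j = 0 by linear_combination -this)).resolve_left κ.d1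
  have hM0 : ∀ i, M i i ≠ 0 := fun i h => by
    have := congrArg (fun y : GL (Fin 3) F => (y : Matrix (Fin 3) (Fin 3) F) i i) (mul_inv_cancel b)
    simp only [Units.val_mul, ← hM, Units.val_one, Matrix.one_apply_eq, Matrix.mul_apply] at this
    rw [Finset.sum_eq_zero (fun j _ => ?_)] at this
    · exact zero_ne_one this
    · by_cases hj : i = j
      · rw [← hj, h, zero_mul]
      · rw [hoff i j hj, zero_mul]
  set d : Fin 3 → Fˣ := fun i => Units.mk0 (M i i) (hM0 i) with hd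
  have hb : b = dgl d := Units.ext (by
    ext i j
    by_cases hij : i = j
    · subst hij; simp [dgl, hd, ← hM]
    · simp [dgl, ← hM, hij, hoff i j hij])
  obtain ⟨c2, hc2⟩ := pq_ker κ O (A := b * b) (by
    have : ((b * b, 1) : GL (Fin 3) F × GL (Fin 3) F) = (b, D) * (b, D) := by
      ext1
      · rfl
      · simp only [Prod.snd_mul, hD, dgl_mul]
        rw [← dgl_one]; congr 1; funext i; fin_cases i <;> simp
    rw [this, map_mul]; exact mul_mem hbH hbH)
  have hsq : ∀ i j, (d i : F) * d i = d j * d j := fun i j => by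
    have a1 := congrFun (congrFun hc2 i) i
    have a2 := congrFun (congrFun hc2 j) j
    rw [hb, dgl_mul] at a1 a2
    simp [dgl] at a1 a2
    rw [a1, a2]
  set e : Fin 3 → Fˣ := fun i => d (i - 1) * (d i)⁻¹ with he
  have hconj : ∀ s : Fin 3 → Fˣ, ⁅(gX : GL (Fin 3) F), dgl s⁆ = dgl fun i => s (i - 1) * (s i)⁻¹ := by
    intro s
    have e1 : gX * dgl s = dgl (fun i => s (i - 1)) * gX := Units.ext (by
      ext i j
      simp only [Units.val_mul, dgl, Matrix.mul_diagonal, Matrix.diagonal_mul, gX, Matrix.of_apply]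
      by_cases h : i = j + 1
      · subst h; simp [add_sub_cancel_right]
      · simp [h])
    rw [commutatorElement_def, e1, mul_assoc (dgl fun i => s (i - 1)), mul_inv_cancel, mul_one, dgl_inv,
      dgl_mul]
    rfl
  have hat : pq κ (dgl e, t) ∈ H := by
    have : ((dgl e, t) : GL (Fin 3) F × GL (Fin 3) F) =
        ⁅((gX : GL (Fin 3) F), (gX : GL (Fin 3) F)), (b, D)⁆ := by
      rw [show (⁅((gX : GL (Fin 3) F), (gX : GL (Fin 3) F)), (b, D)⁆ : GL (Fin 3) F × GL (Fin 3) F) =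
          (⁅(gX : GL (Fin 3) F), b⁆, ⁅(gX : GL (Fin 3) F), D⁆) from by ext1 <;> simp [commutatorElement_def], hb, hD,
        hconj, hconj, ht]
      congr 1
      congr 1
      funext i
      fin_cases i <;> simp <;> rfl
    rw [this, map_commutatorElement, pq_diag]
    exact mul_mem (mul_mem (mul_mem hXH hbH) (inv_mem hXH)) (inv_mem hbH)
  obtain ⟨c, hc⟩ := scal hat (O.base (kr_gJ_mem_base κ).1) (by
    apply Units.ext
    rw [Units.val_mul, Units.val_mul, ht]
    ext i j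
    fin_cases i <;> fin_cases j <;> simp [dgl, gJ, Matrix.mul_apply, Fin.sum_univ_three])
  have hee : dgl e * gJ = ⁅dgl e, gJ⁆ * gJ * dgl e := by rw [commutatorElement_def]; group
  have he12 : (e 1 : F) = e 2 := by
    have e00 := congrArg (fun y : GL (Fin 3) F => (y : Matrix (Fin 3) (Fin 3) F) 0 0) hee
    have e1' := congrArg (fun y : GL (Fin 3) F => (y : Matrix (Fin 3) (Fin 3) F) 1 2) hee
    simp only [Units.val_mul, hc, smul_mul_assoc, one_mul] at e00 e1'
    simp [dgl, gJ, Matrix.mul_apply, Fin.sum_univ_three, Matrix.diagonal] at e00 e1'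
    rw [e00, one_mul] at e1'
    exact e1'
  simp only [he, show (1 : Fin 3) - 1 = 0 from rfl, show (2 : Fin 3) - 1 = 1 from rfl, Units.val_mul,
    Units.val_inv_eq_inv_val] at he12
  have h0n := (d 0).ne_zero
  have h1n := (d 1).ne_zero
  have h2n := (d 2).ne_zero
  field_simp at he12
  -- d 1 ^ 2 = d 0 * d 2
  have h20 : (d 2 : F) = d 0 := mul_left_cancel₀ h0n (by linear_combination he12 - hsq 0 1)
  have h10 : (d 1 : F) = d 0 ∨ (d 1 : F) = -d 0 := by
    rcases mul_eq_zero.1 (show ((d 1 : F) - d 0) * (d 1 + d 0) = 0 by linear_combination hsq 1 0) with h | h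
    exacts [Or.inl (sub_eq_zero.1 h), Or.inr (eq_neg_of_add_eq_zero_left h)]
  rcases h10 with h10 | h10
  · -- the lift is trivial
    have he1 : dgl e = 1 := by
      rw [← dgl_one]; congr 1; funext i; apply Units.ext
      fin_cases i <;> simp [he, h20, h10, h0n, show (-1 : Fin 3) = 2 from rfl]
    rw [he1] at hat
    set B2 := H.comap ((pq κ).comp (MonoidHom.inr (GL (Fin 3) F) (GL (Fin 3) F))) with hB2
    have hN : ∀ a ∈ Unitary.suGL 3 F κ.p, Norm B2 a := by
      intro a ha x hx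
      obtain ⟨y, hy, rfl⟩ := hsu ha
      show pq κ (1, y.2 * x * y.2⁻¹) ∈ H
      have : ((1 : GL (Fin 3) F), y.2 * x * y.2⁻¹) = y * (1, x) * y⁻¹ := by ext1 <;> simp
      rw [this, map_mul, map_mul, map_inv]
      exact mul_mem (mul_mem hy hx) (inv_mem hy)
    have hle := su_le_of_normal κ le_rfl hN (b := t) hat
      (diag_iso κ fun i => by fin_cases i <;> first | exact hm1 | simp) fun z hz => by
        have a0 := congrFun (congrFun hz 0) 0
        have a1 := congrFun (congrFun hz 1) 1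
        simp [ht, dgl] at a0 a1
        exact κ.two (by linear_combination a0 - a1)
    obtain ⟨v', φ', h0', hne', hT, -⟩ := exists_tv3 κ
    refine split_tv_false κ O h0' hne' (α := 0) (β := 1) (Or.inr (by simp)) (hle hT) ?_
    obtain ⟨-, -, -, -, hP⟩ := proj_rules κ
    show (pq κ (1, tv v' φ') : Matrix I9 I9 F) = _
    rw [pq_val, tv_val h0', tmat, Units.val_one, Matrix.add_kronecker, ← add_assoc,
      ← Matrix.kronecker_add, hP, Matrix.one_kronecker_one, one_smul, zero_smul, zero_add]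
  · -- the lift is the element itself
    have het : dgl e = t := by
      rw [ht]; congr 1; funext i; apply Units.ext
      fin_cases i <;> simp [he, h20, h10, h0n, neg_div, div_neg, inv_neg, show (-1 : Fin 3) = 2 from rfl]
    rw [het, pq_diag] at hat
    obtain ⟨gh', gq'⟩ := Ablk_gens κ O 0
    refine gR_not_mem κ (Ablk_noTv κ O 0) gh' gq' ?_
    let m : GL I9 F := dgl fun _ => -1
    have hm : m ∈ H := O.base (Subgroup.mem_sup_right (Subgroup.mem_inf.2 ⟨(Cfsg.Geo.mem_scalars_iff m).2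
      ⟨-1, by rw [Units.val_neg, Units.val_one, Matrix.smul_one_eq_diagonal]; simp [m, dgl]⟩,
      diag_iso κ fun _ => hm1⟩))
    have hR : kr gR 1 = m * kr t 1 := by
      apply Units.ext
      rw [Units.val_mul]
      ext ⟨i, k⟩ ⟨j, l⟩
      simp [m, dgl, Matrix.diagonal_mul, kr_val, ht, gR]
      fin_cases i <;> fin_cases j <;> simp
    exact ⟨⟨_, krL_mem_CB κ (show kr gR 1 ∈ H from hR ▸ mul_mem hm hat)⟩, bl_krL κ _ 0⟩

theorem krW3_mem {w : GL (Fin 3) F} (hw : w ∈ W3 κ) : kr w 1 ∈ Base κ := by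
  obtain ⟨hh, -, hq, -, -, -⟩ := base_gens κ
  exact ((Subgroup.closure_le ((Base κ).comap krL)).2 (by
    rintro x (⟨k, rfl⟩ | rfl); exacts [hh k, hq]) : W3 κ ≤ _) hw

/-- The normal form in the centraliser. -/
theorem CJ_form {H : Subgroup (GL I9 F)} (O : Ovr κ H) {g : GL I9 F} (hg : g ∈ CJ H) :
    ∃ z ∈ Cfsg.Geo.scalars I9 F ⊓ IGrp κ.p, ∃ w ∈ W3 κ, ∃ s ∈ S24 κ, g = z * kr w s := by
  obtain ⟨hh, -, hq, -, -, -⟩ := base_gens κ
  have gh' : ∀ j, gh κ j ∈ (mW H).range := fun j => ⟨⟨_, mW_kr_mem (O.base (hh j))⟩, mW_kr _⟩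
  have gq' : gq κ ∈ (mW H).range := ⟨⟨_, mW_kr_mem (O.base hq)⟩, mW_kr _⟩
  obtain ⟨w, hw, c, hc⟩ := mem_W3 κ (mW_noTv κ O) gh' gq' ⟨⟨g, hg⟩, rfl⟩
  set z : GL I9 F := dgl fun _ => c with hz
  have hzv : (z : Matrix I9 I9 F) = (c : F) • 1 := by
    rw [Matrix.smul_one_eq_diagonal]; simp [hz, dgl]
  have hwI : w ∈ IGrp κ.p := W3_le κ (fun j => mW_iso κ O (gh' j)) (mW_iso κ O gq') hw
  have hcc : (c : F) * (c : F) ^ κ.p = 1 := by
    have hg' := mW_iso κ O ⟨⟨g, hg⟩, rfl⟩ (Pi.single 0 1) (Pi.single 0 1)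
    have happ : ∀ u, app (mW H ⟨g, hg⟩) u = (c : F) • app w u := fun u => by
      rw [app_apply, app_apply, hc, Matrix.smul_mulVec]
    have H3 := hq_isHerm (ι := Fin 3) κ
    rw [happ, H3.smul_left, H3.smul_right, hwI, hq_single] at hg'
    simpa using hg'
  have hzS : z ∈ Cfsg.Geo.scalars I9 F ⊓ IGrp κ.p :=
    Subgroup.mem_inf.2 ⟨(Cfsg.Geo.mem_scalars_iff z).2 ⟨c, hzv⟩, scalar_iso κ hzv hcc⟩
  set y := z * kr w 1 with hy
  have hyB : y ∈ Base κ := mul_mem (Subgroup.mem_sup_right hzS) (krW3_mem κ hw)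
  have hyC : y ∈ CJ H := by
    refine mem_CJ.2 ⟨O.base hyB, ?_⟩
    have h1 : Commute (kr w 1 : GL I9 F) (kr 1 gJ) := krL_commute _ _
    have h2 : Commute z (kr 1 gJ) := by
      apply Units.ext
      rw [Units.val_mul, Units.val_mul, hzv]
      simp
    exact (h2.mul_left h1).eq
  have hym : mW H ⟨y, hyC⟩ = mW H ⟨g, hg⟩ := by
    apply Units.ext
    rw [hc, mW_val]
    show mWm y = _
    ext i j
    simp [mWm, hy, hzv, kr_val]
  have hk : mW H (⟨y, hyC⟩⁻¹ * ⟨g, hg⟩) = 1 := by rw [map_mul, map_inv, hym, inv_mul_cancel]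
  obtain ⟨s, hs, e⟩ := K1_eq κ O (mW_ker κ hk)
  refine ⟨z, hzS, w, hw, s, hs, ?_⟩
  have e' : y⁻¹ * g = kr 1 s := e
  rw [show g = y * (y⁻¹ * g) by group, e', hy, mul_assoc, kr_mul, mul_one, one_mul]

/-- The centraliser of the involution lies in the base group. -/
theorem CJ_le_base {H : Subgroup (GL I9 F)} (O : Ovr κ H) {g : GL I9 F} (hg : g ∈ H)
    (hc : g * kr 1 gJ = kr 1 gJ * g) : g ∈ Base κ := by
  obtain ⟨z, hz, w, hw, s, hs, rfl⟩ := CJ_form κ O (mem_CJ.2 ⟨hg, hc⟩)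
  rw [kr_eq]
  exact mul_mem (Subgroup.mem_sup_right hz) (mul_mem (krW3_mem κ hw) (S24_props κ hs).2.2)

end Cfsg.Agent.C6NineOdd
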