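/-
Matrices with entries in the Eisenstein integers, evaluated at the cube root of unity.
Main results: `ev`, `ev_mul`, `exists_refl_pair`.
-/
import Cfsg.Agent.Lib.C6NineOdd.Quat

set_option autoImplicit false
set_option linter.unusedSectionVars false
set_option linter.unusedSimpArgs false

namespace Cfsg.Agent.C6NineOdd

open Matrix Cfsg.Agent.Transvect
open scoped Matrix Kronecker

variable {F : Type*} [Field F] [Fintype F] (κ : Fld F)

/-- The product of two Eisenstein integers a + b ω. -/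
def eisMul (x y : ℤ × ℤ) : ℤ × ℤ :=
  (x.1 * y.1 - x.2 * y.2, x.1 * y.2 + x.2 * y.1 - x.2 * y.2)

/-- The powers of ω. -/
def eisPow (n : ℕ) : ℤ × ℤ := if n % 3 = 0 then (1, 0) else if n % 3 = 1 then (0, 1) else (-1, -1)

/-- Nine by nine matrices of Eisenstein integers. -/
abbrev EM : Type := I9 → I9 → ℤ × ℤ

/-- The product. -/
def emul (A B : EM) : EM := fun p q => ∑ r, eisMul (A p r) (B r q)

/-- The diagonal matrix of powers of ω. -/
def ediag (d : I9 → ℕ) : EM := fun p q => if p = q then eisPow (d p) else 0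

/-- Evaluation of a number. -/
def evs (x : ℤ × ℤ) : F := (x.1 : F) + (x.2 : F) * κ.ω

/-- Evaluation of a matrix. -/
def ev (A : EM) : Matrix I9 I9 F := Matrix.of fun p q => evs κ (A p q)

theorem evs_zero : evs κ 0 = 0 := by simp [evs]

theorem evs_add (x y : ℤ × ℤ) : evs κ (x + y) = evs κ x + evs κ y := by
  simp [evs]; ring

theorem evs_sum {ι : Type*} (s : Finset ι) (f : ι → ℤ × ℤ) :
    evs κ (∑ i ∈ s, f i) = ∑ i ∈ s, evs κ (f i) := by
  classical
  induction s using Finset.induction with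
  | empty => simp [evs_zero]
  | insert a s ha ih => rw [Finset.sum_insert ha, Finset.sum_insert ha, evs_add, ih]

theorem evs_mul (x y : ℤ × ℤ) : evs κ (eisMul x y) = evs κ x * evs κ y := by
  simp [evs, eisMul]
  linear_combination -((x.2 : F) * y.2) * κ.rel

theorem evs_pow (n : ℕ) : evs κ (eisPow n) = κ.ω ^ n := by
  conv_rhs => rw [← Nat.mod_add_div n 3, pow_add, pow_mul, κ.cube, one_pow, mul_one]
  rw [eisPow]
  have h : n % 3 = 0 ∨ n % 3 = 1 ∨ n % 3 = 2 := by omega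
  rcases h with h | h | h <;> simp [h, evs]
  linear_combination -κ.rel

theorem ev_mul (A B : EM) : ev κ (emul A B) = ev κ A * ev κ B := by
  ext p q
  simp only [ev, Matrix.of_apply, Matrix.mul_apply, emul, evs_sum, evs_mul]

theorem ev_add (A B : EM) : ev κ (A + B) = ev κ A + ev κ B := by
  ext p q; simp [ev, evs_add]

theorem ev_zero : ev κ 0 = 0 := by
  ext p q; simp [ev, evs_zero]

theorem ev_nsmul (n : ℕ) (A : EM) : ev κ (n • A) = (n : F) • ev κ A := by
  induction n with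
  | zero => simp [ev_zero]
  | succ n ih => rw [succ_nsmul, ev_add, ih, Nat.cast_succ, add_smul, one_smul]

theorem ev_ediag (d : I9 → ℕ) : ev κ (ediag d) = Matrix.diagonal fun p => κ.ω ^ d p := by
  ext p q
  by_cases h : p = q
  · subst h; simp [ev, ediag, evs_pow]
  · simp [ev, ediag, h, evs_zero]

theorem ev_dgl (d : I9 → ℕ) (e : I9 → Fˣ) (h : ∀ p, e p = κ.w ^ d p) :
    ((dgl e : GL I9 F) : Matrix I9 I9 F) = ev κ (ediag d) := by
  rw [ev_ediag]
  simp [dgl, h, Fld.w_val]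

/-- The unscaled Fourier matrix on both factors. -/
def eQ : EM := fun p q => eisPow ((p.1 : ℕ) * q.1 + (p.2 : ℕ) * q.2)

/-- The identity. -/
def eOne : EM := fun p q => if p = q then (1, 0) else 0

/-- The reflection of one factor. -/
def eJ1 : EM := fun p q => if p.1 = q.1 ∧ p.2 + q.2 = 0 then (1, 0) else 0

/-- The reflection of both factors. -/
def eZ : EM := fun p q => if p.1 + q.1 = 0 ∧ p.2 + q.2 = 0 then (1, 0) else 0

/-- Three times the conjugate reflection. -/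
def eT : EM := fun p q => eisPow (2 * ((q.1 - p.1 : Fin 3) : ℕ) * ((q.2 + p.2 : Fin 3) : ℕ))

/-- The exponents of the first diagonal element. -/
def eD1 : I9 → ℕ := fun p => if p.1 + p.2 = 0 then 1 else 0

/-- The exponents of the second diagonal element. -/
def eD2 : I9 → ℕ := fun p => if p.1 = p.2 then 1 else 0

theorem ev_J1 : ((kr 1 gJ : GL I9 F) : Matrix I9 I9 F) = ev κ eJ1 := by
  ext ⟨i, k⟩ ⟨j, l⟩
  by_cases h : i = j <;> by_cases h' : k + l = 0 <;>
    simp [ev, eJ1, kr_val, gJ, h, h', evs]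

theorem ev_Z : ((kr gJ gJ : GL I9 F) : Matrix I9 I9 F) = ev κ eZ := by
  ext ⟨i, k⟩ ⟨j, l⟩
  by_cases h : i + j = 0 <;> by_cases h' : k + l = 0 <;>
    simp [ev, eZ, kr_val, gJ, h, h', evs]

theorem ev_one : (1 : Matrix I9 I9 F) = ev κ eOne := by
  ext p q
  by_cases h : p = q
  · subst h; simp [ev, eOne, evs]
  · simp [ev, eOne, h, evs]

set_option maxRecDepth 100000 in
theorem eis_facts :
    emul (emul eQ (ediag eD1)) ((3 : ℕ) • eJ1) = emul (emul eT eQ) (ediag eD1) ∧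
    (let R1 := emul (emul (ediag eD2) eT) (ediag fun p => 2 * eD2 p);
     let R2 := emul (emul (ediag fun p => 2 * eD1 p) eT) (ediag eD1);
     emul ((3 : ℕ) • emul eJ1 R1 + (3 : ℕ) • emul eJ1 R2 + (9 : ℕ) • eOne) (eOne + eZ) =
       emul (emul R1 R2 + (18 : ℕ) • eJ1) (eOne + eZ)) := by
  decide +kernel

/-- Two conjugates of the reflection, with the key identity on the fixed space of z. -/
theorem exists_refl_pair : ∃ g1 ∈ Base κ, ∃ g2 ∈ Base κ,
    g1 * kr gJ gJ = kr gJ gJ * g1 ∧ g2 * kr gJ gJ = kr gJ gJ * g2 ∧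
    ((kr 1 gJ * (g1 * kr 1 gJ * g1⁻¹) : GL I9 F).val + (kr 1 gJ * (g2 * kr 1 gJ * g2⁻¹) : GL I9 F).val -
      ((g1 * kr 1 gJ * g1⁻¹) * (g2 * kr 1 gJ * g2⁻¹) : GL I9 F).val -
      (2 : F) • (kr 1 gJ : GL I9 F).val + 1) * (1 + (kr gJ gJ : GL I9 F).val) = 0 := by
  obtain ⟨-, -, hq, hq', hd1, hd2⟩ := base_gens κ
  obtain ⟨f1, f2⟩ := eis_facts
  have h3 := κ.three
  have hqJ : gq κ * gJ = gJ * gq κ := (S24_props κ (Subgroup.subset_closure (by simp) : gq κ ∈ S24 κ)).1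
  set Qg : GL I9 F := kr (gq κ) (gq κ) with hQg
  have hQB : Qg ∈ Base κ := by rw [hQg, kr_eq]; exact mul_mem hq hq'
  have hzq : Qg * kr gJ gJ = kr gJ gJ * Qg := by rw [hQg, kr_mul, kr_mul, hqJ]
  have hzd : ∀ d : I9 → Fˣ, (∀ i k, d (-i, -k) = d (i, k)) → dgl d * kr gJ gJ = kr gJ gJ * dgl d := by
    intro d hd
    apply Units.ext
    ext ⟨i, k⟩ ⟨j, l⟩
    simp only [Units.val_mul, dgl, Matrix.diagonal_mul, Matrix.mul_diagonal, kr_val]
    by_cases h : i + j = 0
    · by_cases h' : k + l = 0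
      · rw [show j = -i from eq_neg_of_add_eq_zero_right h, show l = -k from eq_neg_of_add_eq_zero_right h', hd]
        ring
      · simp [gJ, h']
    · simp [gJ, h]
  have hz1 : gD1 κ * kr gJ gJ = kr gJ gJ * gD1 κ := hzd _ (fun i k => by simp [← neg_add_rev, add_comm k])
  have hz2 : gD2 κ * kr gJ gJ = kr gJ gJ * gD2 κ := hzd _ (fun i k => by simp)
  set h0 := Qg * gD1 κ with hh0
  set T := h0 * kr 1 gJ * h0⁻¹ with hT
  have v1 : ((gD1 κ : GL I9 F) : Matrix I9 I9 F) = ev κ (ediag eD1) :=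
    ev_dgl κ _ _ fun p => by by_cases h : p.1 + p.2 = 0 <;> simp [eD1, h]
  have v2 : ((gD2 κ : GL I9 F) : Matrix I9 I9 F) = ev κ (ediag eD2) :=
    ev_dgl κ _ _ fun p => by by_cases h : p.1 = p.2 <;> simp [eD2, h]
  have vi : ∀ (d : I9 → ℕ) (e : I9 → Fˣ), (∀ p, e p = κ.w ^ d p) →
      ((dgl e)⁻¹ : GL I9 F).val = ev κ (ediag fun p => 2 * d p) := fun d e he => by
    rw [dgl_inv]
    refine ev_dgl κ _ _ fun p => ?_
    rw [Pi.inv_apply, he, inv_eq_iff_mul_eq_one, ← pow_add, show d p + 2 * d p = 3 * d p by ring,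
      pow_mul, κ.w_cube, one_pow]
  have v1i : ((gD1 κ)⁻¹ : GL I9 F).val = ev κ (ediag fun p => 2 * eD1 p) :=
    vi _ _ fun p => by by_cases h : p.1 + p.2 = 0 <;> simp [eD1, h]
  have v2i : ((gD2 κ)⁻¹ : GL I9 F).val = ev κ (ediag fun p => 2 * eD2 p) :=
    vi _ _ fun p => by by_cases h : p.1 = p.2 <;> simp [eD2, h]
  have vQ : (Qg : Matrix I9 I9 F) = ((κ.ω - κ.ω ^ 2)⁻¹ * (κ.ω - κ.ω ^ 2)⁻¹) • ev κ eQ := by
    ext ⟨i, k⟩ ⟨j, l⟩
    rw [hQg, kr_val]
    simp [gq, ev, eQ, evs_pow, pow_add]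
    ring
  have vT : (3 : F) • (T : Matrix I9 I9 F) = ev κ eT := by
    have e1 : ((3 : F) • (T : Matrix I9 I9 F)) * (h0 : Matrix I9 I9 F) = ev κ eT * (h0 : Matrix I9 I9 F) := by
      have e := congrArg (ev κ) f1
      simp only [ev_mul, ev_nsmul, ← v1, ← ev_J1 κ] at e
      push_cast at e
      rw [Matrix.smul_mul, ← Units.val_mul, hT, inv_mul_cancel_right, hh0, Units.val_mul, Units.val_mul,
        vQ]
      simp only [Matrix.smul_mul, Matrix.mul_smul, smul_smul, ← Matrix.mul_assoc] at e ⊢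
      rw [mul_comm (3 : F), ← smul_smul, e]
    have := congrArg (· * ((h0⁻¹ : GL I9 F) : Matrix I9 I9 F)) e1
    simpa [Matrix.mul_assoc] using this
  refine ⟨gD2 κ * h0, mul_mem hd2 (mul_mem hQB hd1), gD1 κ * gD1 κ * h0,
    mul_mem (mul_mem hd1 hd1) (mul_mem hQB hd1),
    ((show Commute (gD2 κ) _ from hz2).mul_left ((show Commute Qg _ from hzq).mul_left hz1)).eq,
    (((show Commute (gD1 κ) _ from hz1).mul_left hz1).mul_left
      ((show Commute Qg _ from hzq).mul_left hz1)).eq, ?_⟩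
  have r1 : (gD2 κ * h0) * kr 1 gJ * (gD2 κ * h0)⁻¹ = gD2 κ * T * (gD2 κ)⁻¹ := by rw [hT]; group
  have r2 : (gD1 κ * gD1 κ * h0) * kr 1 gJ * (gD1 κ * gD1 κ * h0)⁻¹ =
      (gD1 κ * gD1 κ) * T * (gD1 κ * gD1 κ)⁻¹ := by rw [hT]; group
  have d11 : (gD1 κ * gD1 κ : GL I9 F).val = ev κ (ediag fun p => 2 * eD1 p) := by
    rw [← v1i]
    congr 1
    rw [gD1, dgl_inv, dgl_mul]
    congr 1
    funext p
    have := κ.w_cube
    by_cases h : p.1 + p.2 = 0
    · simp only [Pi.mul_apply, Pi.inv_apply, h, if_true]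
      rw [eq_inv_iff_mul_eq_one, ← pow_two, ← pow_succ, this]
    · simp [h]
  have d11i : ((gD1 κ * gD1 κ)⁻¹ : GL I9 F).val = ev κ (ediag eD1) := by
    rw [← v1]
    congr 1
    refine inv_eq_of_mul_eq_one_right ?_
    rw [gD1, dgl_mul, dgl_mul, ← dgl_one]
    congr 1
    funext p
    have := κ.w_cube
    by_cases h : p.1 + p.2 = 0
    · simp only [Pi.mul_apply, Pi.one_apply, h, if_true]
      rw [← pow_two, ← pow_succ, this]
    · simp [h]
  rw [r1, r2]
  have e := congrArg (ev κ) f2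
  simp only [ev_mul, ev_add, ev_nsmul, ← v2, ← v2i, ← d11, ← d11i, ← vT, ← ev_J1 κ, ← ev_Z κ,
    ← ev_one κ, Matrix.smul_mul, Matrix.mul_smul, smul_smul] at e
  push_cast at e
  have h9 : (9 : F) ≠ 0 := by
    rw [show (9 : F) = 3 * 3 by norm_num]; exact mul_ne_zero h3 h3
  refine smul_right_injective (Matrix I9 I9 F) h9 ?_
  simp only [smul_zero]
  rw [← sub_eq_zero] at e
  rw [← e, ← Matrix.sub_mul, ← Matrix.smul_mul]
  congr 1
  simp only [Units.val_mul, Matrix.coe_units_inv, Matrix.mul_assoc]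
  match_scalars <;> ring

end Cfsg.Agent.C6NineOdd
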