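/-
The kernel of the centraliser of z on the negative eigenspace.
Main results: `KZ`, `KZ_entry`, `KZ_conj`, `KZ_eq`.
-/
import Cfsg.Agent.Lib.C6NineOdd.CentJ
import Cfsg.Agent.Lib.C6NineOdd.Eis

set_option autoImplicit false
set_option linter.unusedSectionVars false
set_option linter.unusedSimpArgs false

namespace Cfsg.Agent.C6NineOdd

open Matrix Cfsg.Agent.Transvect
open scoped Matrix Kronecker commutatorElement

variable {F : Type*} [Field F] [Fintype F] (κ : Fld F)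

/-- Elements of H commuting with z and trivial on its negative eigenspace. -/
def KZ (H : Subgroup (GL I9 F)) : Subgroup (GL I9 F) where
  carrier := {g | g ∈ H ∧ g * kr gJ gJ = kr gJ gJ * g ∧
    (g : Matrix I9 I9 F) * (1 - (kr gJ gJ : GL I9 F).val) = 1 - (kr gJ gJ : GL I9 F).val}
  one_mem' := ⟨one_mem _, by simp, by simp⟩
  mul_mem' := by
    rintro a b ⟨ha, ha1, ha2⟩ ⟨hb, hb1, hb2⟩
    exact ⟨mul_mem ha hb, by rw [mul_assoc, hb1, ← mul_assoc, ha1, mul_assoc],
      by rw [Units.val_mul, Matrix.mul_assoc, hb2, ha2]⟩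
  inv_mem' := by
    rintro a ⟨ha, ha1, ha2⟩
    refine ⟨inv_mem ha, (Commute.inv_left (show Commute a (kr gJ gJ) from ha1)).eq, ?_⟩
    conv_lhs => rw [← ha2, ← Matrix.mul_assoc, ← Units.val_mul, inv_mul_cancel, Units.val_one, Matrix.one_mul]

theorem mul_z_apply (M : Matrix I9 I9 F) (p q : I9) :
    (M * (kr gJ gJ : GL I9 F).val) p q = M p (-q.1, -q.2) := by
  rw [Matrix.mul_apply, Finset.sum_eq_single (-q.1, -q.2)]
  · simp [kr_val, gJ]
  · rintro ⟨a, b⟩ - hne
    simp only [kr_val, gJ, Matrix.of_apply]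
    by_cases h : a + q.1 = 0 <;> by_cases h' : b + q.2 = 0
    · exact absurd (Prod.ext (eq_neg_of_add_eq_zero_left h) (eq_neg_of_add_eq_zero_left h')) hne
    all_goals simp [h, h']
  · simp

theorem KZ_entry {H : Subgroup (GL I9 F)} {g : GL I9 F} (hg : g ∈ KZ H) (p q : I9) :
    (g : Matrix I9 I9 F) p q - (g : Matrix I9 I9 F) p (-q.1, -q.2) =
      (1 : Matrix I9 I9 F) p q - (1 : Matrix I9 I9 F) p (-q.1, -q.2) := by
  have := congrFun (congrFun hg.2.2 p) q
  rw [Matrix.mul_sub, Matrix.mul_one, Matrix.sub_apply, mul_z_apply, Matrix.sub_apply] at this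
  rw [this, ← mul_z_apply (1 : Matrix I9 I9 F), Matrix.one_mul]

/-- The kernel is normalised by the centraliser of z. -/
theorem KZ_conj {H : Subgroup (GL I9 F)} {g h : GL I9 F} (hg : g ∈ KZ H) (hh : h ∈ H)
    (hc : h * kr gJ gJ = kr gJ gJ * h) : h * g * h⁻¹ ∈ KZ H := by
  obtain ⟨hgH, hg1, hg2⟩ := hg
  have hC : Commute h (kr gJ gJ) := hc
  refine ⟨mul_mem (mul_mem hh hgH) (inv_mem hh), ((hC.mul_left hg1).mul_left hC.inv_left).eq, ?_⟩
  have e : ∀ x : GL I9 F, Commute x (kr gJ gJ) → (x : Matrix I9 I9 F) * (1 - (kr gJ gJ : GL I9 F).val) =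
      (1 - (kr gJ gJ : GL I9 F).val) * (x : Matrix I9 I9 F) := fun x hx => by
    rw [Matrix.mul_sub, Matrix.sub_mul, Matrix.mul_one, Matrix.one_mul, ← Units.val_mul, ← Units.val_mul,
      hx.eq]
  rw [Units.val_mul, Units.val_mul, Matrix.mul_assoc, e _ hC.inv_left, ← Matrix.mul_assoc,
    Matrix.mul_assoc (h : Matrix I9 I9 F), hg2, e _ hC, Matrix.mul_assoc, ← Units.val_mul,
    mul_inv_cancel, Units.val_one, Matrix.mul_one]

theorem KZ_kr_right {H : Subgroup (GL I9 F)} {t : GL (Fin 3) F} (h : kr 1 t ∈ KZ H) : t = 1 := by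
  apply Units.ext
  ext k l
  fin_cases l
  · simpa [kr_val, Matrix.one_apply, show (-1 : Fin 3) = 2 from rfl, show (-2 : Fin 3) = 1 from rfl] using KZ_entry h ((1 : Fin 3), k) ((1 : Fin 3), (0 : Fin 3))
  · simpa [kr_val, Matrix.one_apply, show (-1 : Fin 3) = 2 from rfl, show (-2 : Fin 3) = 1 from rfl] using KZ_entry h ((1 : Fin 3), k) ((1 : Fin 3), (1 : Fin 3))
  · simpa [kr_val, Matrix.one_apply, show (-1 : Fin 3) = 2 from rfl, show (-2 : Fin 3) = 1 from rfl] using KZ_entry h ((2 : Fin 3), k) ((1 : Fin 3), (1 : Fin 3))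

theorem KZ_kr_left {H : Subgroup (GL I9 F)} {n : GL (Fin 3) F} (h : kr n 1 ∈ KZ H) : n = 1 := by
  apply Units.ext
  ext k l
  fin_cases l
  · simpa [kr_val, Matrix.one_apply, show (-1 : Fin 3) = 2 from rfl, show (-2 : Fin 3) = 1 from rfl] using KZ_entry h (k, (1 : Fin 3)) ((0 : Fin 3), (1 : Fin 3))
  · simpa [kr_val, Matrix.one_apply, show (-1 : Fin 3) = 2 from rfl, show (-2 : Fin 3) = 1 from rfl] using KZ_entry h (k, (1 : Fin 3)) ((1 : Fin 3), (1 : Fin 3))
  · simpa [kr_val, Matrix.one_apply, show (-1 : Fin 3) = 2 from rfl, show (-2 : Fin 3) = 1 from rfl] using KZ_entry h (k, (2 : Fin 3)) ((1 : Fin 3), (1 : Fin 3))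

theorem mz_val : ((kr gJ (gE κ) : GL I9 F) : Matrix I9 I9 F) = -(kr gJ gJ : GL I9 F).val := by
  ext p q
  rw [kr_val, gE_val, Matrix.neg_apply, Matrix.neg_apply, kr_val, mul_neg]

theorem mz_comm {g : GL I9 F} (hg : g * kr gJ gJ = kr gJ gJ * g) :
    g * kr gJ (gE κ) = kr gJ (gE κ) * g := by
  apply Units.ext
  rw [Units.val_mul, Units.val_mul, mz_val, Matrix.mul_neg, Matrix.neg_mul, ← Units.val_mul,
    ← Units.val_mul, hg]

theorem mz_sq : kr gJ (gE κ) * kr gJ (gE κ) = 1 := by rw [kr_mul, gJ_sq, gE_sq, kr_one]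

theorem mz_mem {H : Subgroup (GL I9 F)} (O : Ovr κ H) : kr gJ (gE κ) ∈ KZ H := by
  have hE : gE κ ∈ S24 κ := Q8_le κ (gE_mem_Q8 κ)
  refine ⟨?_, ?_, ?_⟩
  · rw [kr_eq]
    exact mul_mem (O.base (kr_gJ_mem_base κ).1) (O.base (S24_props κ hE).2.2)
  · rw [kr_mul, kr_mul, (S24_props κ hE).1]
  · have e : (kr gJ gJ : GL I9 F).val * (kr gJ gJ : GL I9 F).val = 1 := by
      rw [← Units.val_mul, kr_mul, gJ_sq, kr_one, Units.val_one]
    rw [mz_val, Matrix.neg_mul, Matrix.mul_sub, e, Matrix.mul_one, neg_sub]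

/-- The part of the kernel commuting with one factor's involution. -/
theorem KZ_J {H : Subgroup (GL I9 F)} (O : Ovr κ H) {g : GL I9 F} (hg : g ∈ KZ H)
    (hc : g * kr 1 gJ = kr 1 gJ * g) : g = 1 ∨ g = kr gJ (gE κ) := by
  obtain ⟨z0, hz0, w, -, s, hs, hgz⟩ := CJ_form κ O (mem_CJ.2 ⟨hg.1, hc⟩)
  obtain ⟨c, hcv⟩ := (Cfsg.Geo.mem_scalars_iff z0).1 (Subgroup.mem_inf.1 hz0).1
  set n : GL (Fin 3) F := dgl (fun _ : Fin 3 => c) * w with hn
  have hgn : g = kr n s := by
    rw [hgz]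
    apply Units.ext
    ext p q
    rw [Units.val_mul, hcv, Matrix.smul_mul, Matrix.one_mul, Matrix.smul_apply, kr_val, kr_val, hn,
      Units.val_mul, smul_eq_mul]
    simp [dgl, mul_assoc]
  have hsc : ∀ x ∈ S24 κ, s * x = x * s := by
    intro x hx
    obtain ⟨hxJ, -, hxB⟩ := S24_props κ hx
    have hm : ⁅g, kr 1 x⁆ ∈ KZ H := by
      rw [commutatorElement_def, mul_assoc, mul_assoc, ← mul_assoc (kr 1 x)]
      exact mul_mem hg (KZ_conj (inv_mem hg) (O.base hxB) (by rw [kr_mul, kr_mul, hxJ, one_mul, mul_one]))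
    have e : ⁅g, kr 1 x⁆ = kr 1 ⁅s, x⁆ := by
      rw [hgn, commutatorElement_def, commutatorElement_def,
        show (kr n s)⁻¹ = kr n⁻¹ s⁻¹ from Units.ext rfl,
        show (kr (1 : GL (Fin 3) F) x)⁻¹ = kr 1⁻¹ x⁻¹ from Units.ext rfl, kr_mul, kr_mul, kr_mul]
      simp
    exact commutatorElement_eq_one_iff_mul_comm.1 (KZ_kr_right (e ▸ hm))
  rcases central_pm κ (Ablk_noTv κ (O.swap κ) 0) (Ablk_gens κ (O.swap κ) 0).1
    (Ablk_gens κ (O.swap κ) 0).2 hs (fun y hy => hsc y (Q8_le κ hy)) with rfl | rfl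
  · left
    rw [hgn] at hg ⊢
    rw [KZ_kr_left hg, kr_one]
  · right
    have h1 := mul_mem hg (mz_mem κ O)
    rw [hgn, kr_mul, gE_sq] at h1
    have h2 := KZ_kr_left h1
    rw [hgn, show n = gJ from by rw [← inv_eq_of_mul_eq_one_left h2, inv_eq_of_mul_eq_one_left gJ_sq]]

/-- The kernel on the negative eigenspace of z has order two. -/
theorem KZ_eq {H : Subgroup (GL I9 F)} (O : Ovr κ H) {g : GL I9 F} (hg : g ∈ KZ H) :
    g = 1 ∨ g = kr gJ (gE κ) := by
  classical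
  haveI : Fact (Nat.Prime 2) := ⟨Nat.prime_two⟩
  obtain ⟨-, -, -, hq', -, -⟩ := base_gens κ
  set m : GL I9 F := kr gJ (gE κ) with hm
  have hm2 : m ^ 2 = 1 := by rw [pow_two]; exact mz_sq κ
  have hmne : m ≠ 1 := fun h => by
    have := congrArg (fun x : GL I9 F => (x : Matrix I9 I9 F) (0, 0) (0, 0)) h
    simp [hm, kr_val, gE_val, gJ] at this
    exact κ.two (by linear_combination -this)
  set P := Subgroup.zpowers m with hP
  have hPc : Nat.card P = 2 := by rw [hP, Nat.card_zpowers, orderOf_eq_prime hm2 hmne]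
  have hPK : P ≤ KZ H := (Subgroup.zpowers_le).2 (mz_mem κ O)
  have hPmem : ∀ y ∈ P, y = 1 ∨ y = m := fun y hy => by
    obtain ⟨k, rfl⟩ := mem_powers_iff_mem_zpowers.2 hy
    show m ^ k = 1 ∨ m ^ k = m
    rw [← Nat.div_add_mod k 2, pow_add, pow_mul, hm2, one_pow, one_mul]
    rcases Nat.mod_two_eq_zero_or_one k with h | h <;> simp [h]
  have hcentral : ∀ x : GL I9 F, x * kr gJ gJ = kr gJ gJ * x → ∀ y ∈ P, y * x = x * y := fun x hx y hy => by
    rcases hPmem y hy with rfl | rfl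
    · simp
    · exact (mz_comm κ hx).symm
  set u : GL I9 F := kr 1 (gq κ) with hu
  have huz : u * kr gJ gJ = kr gJ gJ * u := by
    rw [hu, kr_mul, kr_mul, (S24_props κ (Subgroup.subset_closure (by simp) : gq κ ∈ S24 κ)).1,
      one_mul, mul_one]
  have hu2 : u ^ 2 = kr 1 (gE κ) := by rw [pow_two, hu, kr_mul, one_mul]; rfl
  have hu4 : u ^ 2 ^ 2 = 1 := by
    rw [show (2 : ℕ) ^ 2 = 2 * 2 by norm_num, pow_mul, hu2, pow_two, kr_mul, one_mul, gE_sq, kr_one]
  have hUz : ∀ e ∈ Subgroup.zpowers u, e ∈ H ∧ e * kr gJ gJ = kr gJ gJ * e := by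
    rintro e ⟨k, rfl⟩
    exact ⟨Subgroup.zpow_mem _ (O.base hq') k, ((show Commute u _ from huz).zpow_left k).eq⟩
  have h4 : ¬ 4 ∣ Nat.card (KZ H) := by
    intro h4
    have hE : IsPGroup 2 (Subgroup.zpowers u) := by
      rintro ⟨e, k, rfl⟩
      refine ⟨2, Subtype.ext ?_⟩
      show (u ^ k) ^ 2 ^ 2 = 1
      rw [← zpow_natCast, ← _root_.zpow_mul, mul_comm, _root_.zpow_mul, zpow_natCast, hu4, _root_.one_zpow]
    obtain ⟨x, hxK, hxP, -, hxE⟩ := exists_fixed_mod hE hPK hPc (by simpa using h4)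
      (fun e he => Subgroup.mem_normalizer_iff.2 fun y => ⟨fun hy => KZ_conj hy (hUz e he).1 (hUz e he).2,
        fun hy => by
          obtain ⟨h1, h2⟩ := hUz e⁻¹ (inv_mem he)
          simpa [mul_assoc] using KZ_conj hy h1 h2⟩)
      (fun e he => Subgroup.centralizer_le_normalizer _
        (Subgroup.mem_centralizer_iff.2 fun y hy => hcentral e (hUz e he).2 y hy))
      (fun e he => Subgroup.centralizer_le_normalizer _
        (Subgroup.mem_centralizer_iff.2 fun y hy => hcentral e he.2.1 y hy))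
    set e := ⁅x, u⁆ with he
    have heP := hxE u (Subgroup.mem_zpowers u)
    have hee : e * e = 1 := by
      rcases hPmem e heP with h | h
      · simp [h]
      · rw [h]; exact mz_sq κ
    have hxu : x * u ^ 2 * x⁻¹ = u ^ 2 := by
      have e1 : x * u * x⁻¹ = e * u := by rw [he, commutatorElement_def]; group
      rw [← conj_pow, e1, Commute.mul_pow (show Commute e u from hcentral u huz e heP), pow_two e, hee,
        one_mul]
    rw [hu2, mul_inv_eq_iff_eq_mul] at hxu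
    have hJ : x * kr 1 gJ = kr 1 gJ * x := by
      apply Units.ext
      have e1 : ((kr 1 (gE κ) : GL I9 F) : Matrix I9 I9 F) = -((kr 1 gJ : GL I9 F) : Matrix I9 I9 F) := by
        ext p q
        rw [kr_val, gE_val, Matrix.neg_apply, Matrix.neg_apply, kr_val, mul_neg]
      have := congrArg Units.val hxu
      rw [Units.val_mul, Units.val_mul, e1, Matrix.mul_neg, Matrix.neg_mul, neg_inj] at this
      rw [Units.val_mul, Units.val_mul]
      exact this
    exact hxP (by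
      rcases KZ_J κ O hxK hJ with rfl | rfl
      · exact one_mem _
      · exact Subgroup.mem_zpowers m)
  set P' := P.subgroupOf (KZ H) with hP'
  have hP'c : Nat.card P' = 2 := by
    rw [hP', Nat.card_congr (Subgroup.subgroupOfEquivOfLe hPK).toEquiv, hPc]
  have hP'2 : IsPGroup 2 P' := IsPGroup.of_card (n := 1) (by rw [hP'c, pow_one])
  have hidx : ¬ 2 ∣ P'.index := fun hd => h4 (by
    rw [← P'.card_mul_index, hP'c]
    exact Nat.mul_dvd_mul_left 2 hd)
  set S := hP'2.toSylow hidx with hS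
  have hcen : Subgroup.normalizer ((S : Subgroup (KZ H)) : Set (KZ H)) ≤
      Subgroup.centralizer (S : Set (KZ H)) := fun x _ =>
    Subgroup.mem_centralizer_iff.2 fun y hy => Subtype.ext (hcentral x x.2.2.1 y hy)
  set Q := (MonoidHom.transferSylow S hcen).ker.map (KZ H).subtype with hQ
  have hQ2 : ¬ 2 ∣ Nat.card Q := by
    rw [hQ, Subgroup.card_map_of_injective (KZ H).subtype_injective]
    exact MonoidHom.not_dvd_card_ker_transferSylow S hcen
  have hQK : Q ≤ KZ H := Subgroup.map_subtype_le _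
  have hQmem : ∀ y ∈ KZ H, ¬ 2 ∣ orderOf y → y ∈ Q := by
    intro y hy ho
    refine ⟨⟨y, hy⟩, ?_, rfl⟩
    rw [SetLike.mem_coe, MonoidHom.mem_ker]
    set f := MonoidHom.transferSylow S hcen
    have h1 : orderOf (f ⟨y, hy⟩) ∣ orderOf y :=
      (orderOf_map_dvd f ⟨y, hy⟩).trans (Subgroup.orderOf_mk y hy).dvd
    have h2 : orderOf (f ⟨y, hy⟩) ∣ 2 := by
      have h3 : orderOf (f ⟨y, hy⟩) ∣ Nat.card (S : Subgroup (KZ H)) := orderOf_dvd_natCard _
      rwa [show Nat.card (S : Subgroup (KZ H)) = 2 from hP'c] at h3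
    rcases (Nat.dvd_prime Nat.prime_two).1 h2 with h | h
    · exact orderOf_eq_one_iff.1 h
    · exact absurd (h.symm.dvd.trans h1) ho
  have hodd : ∀ y ∈ Q, ¬ 2 ∣ orderOf y := fun y hy h =>
    hQ2 (h.trans (Subgroup.orderOf_mk y hy ▸ orderOf_dvd_natCard (⟨y, hy⟩ : Q)))
  have hQconj : ∀ {h : GL I9 F}, h ∈ H → h * kr gJ gJ = kr gJ gJ * h → ∀ y ∈ Q, h * y * h⁻¹ ∈ Q :=
    fun {h} hh hc y hy => hQmem _ (KZ_conj (hQK hy) hh hc) (by
      rw [show h * y * h⁻¹ = MulAut.conj h y from rfl, MulEquiv.orderOf_eq]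
      exact hodd y hy)
  have hj1 : kr 1 gJ ∈ H := O.base (kr_gJ_mem_base κ).2
  have hj1z : (kr 1 gJ : GL I9 F) * kr gJ gJ = kr gJ gJ * kr 1 gJ := by
    rw [kr_mul, kr_mul, one_mul, mul_one]
  have hj2 : (kr 1 gJ : GL I9 F) * kr 1 gJ = 1 := by rw [kr_mul, one_mul, gJ_sq, kr_one]
  -- conjugates of the involution invert the complement
  have inv : ∀ {h : GL I9 F}, h ∈ H → h * kr gJ gJ = kr gJ gJ * h → ∀ y ∈ Q,
      (h * kr 1 gJ * h⁻¹) * y * (h * kr 1 gJ * h⁻¹)⁻¹ = y⁻¹ := by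
    intro h hh hc
    set r := h * kr 1 gJ * h⁻¹ with hr
    have hrH : r ∈ H := mul_mem (mul_mem hh hj1) (inv_mem hh)
    have hC : Commute h (kr gJ gJ) := hc
    have hrz : r * kr gJ gJ = kr gJ gJ * r := ((hC.mul_left hj1z).mul_left hC.inv_left).eq
    have hr2 : r * r = 1 := by
      rw [hr, show h * kr 1 gJ * h⁻¹ * (h * kr 1 gJ * h⁻¹) = h * (kr 1 gJ * kr 1 gJ) * h⁻¹ by group, hj2,
        mul_one, mul_inv_cancel]
    let φ : Q →* Q := MonoidHom.mk' (fun y => ⟨r * (y : GL I9 F) * r⁻¹, hQconj hrH hrz y y.2⟩) fun a b =>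
      Subtype.ext (by
        show r * ((a : GL I9 F) * (b : GL I9 F)) * r⁻¹ = r * (a : GL I9 F) * r⁻¹ * (r * (b : GL I9 F) * r⁻¹)
        group)
    have hfix : MonoidHom.FixedPointFree φ := fun ⟨y, hyQ⟩ hy => by
      have e : r * y * r⁻¹ = y := congrArg Subtype.val hy
      have hy' : h⁻¹ * y * h ∈ Q := by simpa using hQconj (inv_mem hh) hC.inv_left.eq y hyQ
      have hcj : h⁻¹ * y * h * kr 1 gJ = kr 1 gJ * (h⁻¹ * y * h) := by
        rw [mul_inv_eq_iff_eq_mul, hr] at e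
        calc h⁻¹ * y * h * kr 1 gJ = h⁻¹ * ((y : GL I9 F) * (h * kr 1 gJ * h⁻¹)) * h := by group
          _ = h⁻¹ * (h * kr 1 gJ * h⁻¹ * (y : GL I9 F)) * h := by rw [e]
          _ = _ := by group
      apply Subtype.ext
      rcases KZ_J κ O (hQK hy') hcj with h1 | h1
      · rw [mul_assoc, inv_mul_eq_one] at h1
        show (y : GL I9 F) = 1
        calc (y : GL I9 F) = (y : GL I9 F) * h * h⁻¹ := by group
          _ = 1 := by rw [← h1, mul_inv_cancel]
      · exfalso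
        refine hodd _ hy' ?_
        rw [h1, orderOf_eq_prime hm2 hmne]
    have hinv : Function.Involutive φ := fun y => Subtype.ext (by
      show r * (r * y * r⁻¹) * r⁻¹ = y
      rw [show r * (r * (y : GL I9 F) * r⁻¹) * r⁻¹ = (r * r) * y * (r * r)⁻¹ by group, hr2]
      simp)
    intro y hy
    exact congrArg Subtype.val (congrFun (hfix.coe_eq_inv_of_involutive hinv) ⟨y, hy⟩)
  obtain ⟨g1, hg1, g2, hg2, hz1, hz2, hid⟩ := exists_refl_pair κ
  have hQ1 : ∀ y ∈ Q, y = 1 := by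
    intro y hy
    have i0 := inv (one_mem H) (by simp) y hy
    rw [one_mul, inv_one, mul_one] at i0
    have i1 := inv (O.base hg1) hz1 y hy
    have i2 := inv (O.base hg2) hz2 y hy
    set r1 := g1 * kr 1 gJ * g1⁻¹ with hr1
    set r2 := g2 * kr 1 gJ * g2⁻¹ with hr2
    have pair : ∀ a b : GL I9 F, a * y * a⁻¹ = y⁻¹ → b * y * b⁻¹ = y⁻¹ → y * (a * b) = a * b * y := by
      intro a b ha hb
      have ha' : a * y⁻¹ * a⁻¹ = y := by
        rw [show a * y⁻¹ * a⁻¹ = (a * y * a⁻¹)⁻¹ by group, ha, inv_inv]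
      have : a * b * y * (a * b)⁻¹ = y := by
        rw [show a * b * y * (a * b)⁻¹ = a * (b * y * b⁻¹) * a⁻¹ by group, hb, ha']
      exact (mul_inv_eq_iff_eq_mul.1 this).symm
    have hvm : ∀ a : GL I9 F, y * a = a * y →
        (y : Matrix I9 I9 F) * a.val = a.val * (y : Matrix I9 I9 F) := fun a h => by
      rw [← Units.val_mul, h, Units.val_mul]
    set z : Matrix I9 I9 F := (kr gJ gJ : GL I9 F).val
    set J : Matrix I9 I9 F := (kr 1 gJ : GL I9 F).val
    obtain ⟨-, hyz, hym⟩ := hQK hy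
    have hYz : (y : Matrix I9 I9 F) * z = z * y := hvm _ hyz
    have hJz : J * z = z * J := by rw [← Units.val_mul, hj1z, Units.val_mul]
    have plus : ((y : Matrix I9 I9 F) * J - J * y) * (1 + z) = 0 := by
      have e1 := hvm _ (pair _ _ i0 i1)
      have e2 := hvm _ (pair _ _ i0 i2)
      have e3 := hvm _ (pair _ _ i1 i2)
      set A := (kr 1 gJ * r1 : GL I9 F).val
      set B := (kr 1 gJ * r2 : GL I9 F).val
      set C := (r1 * r2 : GL I9 F).val
      have hc : (y : Matrix I9 I9 F) * ((A + B - C - (2 : F) • J + 1) * (1 + z)) =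
          (A + B - C + 1) * (1 + z) * (y : Matrix I9 I9 F) - (2 : F) • (y * J * (1 + z)) := by
        have hzc : (1 + z) * (y : Matrix I9 I9 F) = (y : Matrix I9 I9 F) * (1 + z) := by
          rw [Matrix.add_mul, Matrix.mul_add, one_mul, mul_one, hYz]
        rw [Matrix.mul_assoc _ (1 + z), hzc]
        simp only [Matrix.mul_add, Matrix.add_mul, Matrix.mul_sub, Matrix.sub_mul, Matrix.mul_smul,
          Matrix.smul_mul, Matrix.one_mul, Matrix.mul_one, smul_add, ← Matrix.mul_assoc, e1, e2, e3]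
        abel
      have hid' : (A + B - C + 1) * (1 + z) = (2 : F) • (J * (1 + z)) := by
        rw [← Matrix.smul_mul, ← sub_eq_zero, ← Matrix.sub_mul, ← hid]
        congr 1
        abel
      rw [show (A + B - C - (2 : F) • J + 1) * (1 + z) = 0 from hid, Matrix.mul_zero, hid', eq_comm,
        Matrix.smul_mul, ← smul_sub, smul_eq_zero] at hc
      have := hc.resolve_left κ.two
      rw [Matrix.mul_assoc J (1 + z), show (1 + z) * (y : Matrix I9 I9 F) = (y : Matrix I9 I9 F) * (1 + z) by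
        rw [Matrix.add_mul, Matrix.mul_add, one_mul, mul_one, hYz], ← Matrix.mul_assoc,
        ← Matrix.sub_mul] at this
      rw [← neg_eq_zero, ← Matrix.neg_mul, neg_sub]
      exact this
    have minus : ((y : Matrix I9 I9 F) * J - J * y) * (1 - z) = 0 := by
      have e : J * (1 - z) = (1 - z) * J := by
        rw [Matrix.mul_sub, Matrix.sub_mul, mul_one, one_mul, hJz]
      rw [Matrix.sub_mul, Matrix.mul_assoc, e, ← Matrix.mul_assoc, hym, Matrix.mul_assoc J, hym, e, sub_self]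
    have hsum : (2 : F) • ((y : Matrix I9 I9 F) * J - J * y) = 0 := by
      have := congrArg₂ (· + ·) plus minus
      rw [← Matrix.mul_add, add_zero, show (1 + z) + (1 - z) = (2 : F) • (1 : Matrix I9 I9 F) by
        rw [two_smul]; abel, Matrix.mul_smul, mul_one] at this
      exact this
    have hcomm : y * kr 1 gJ = kr 1 gJ * y := by
      apply Units.ext
      rw [Units.val_mul, Units.val_mul]
      exact sub_eq_zero.1 ((smul_eq_zero.1 hsum).resolve_left κ.two)
    rcases KZ_J κ O (hQK hy) hcomm with h1 | h1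
    · exact h1
    · exact absurd (by rw [h1, orderOf_eq_prime hm2 hmne]) (hodd y hy)
  have hcomp := MonoidHom.ker_transferSylow_isComplement' S hcen
  obtain ⟨⟨⟨a, ha⟩, ⟨b, hb⟩⟩, hab⟩ := (hcomp.existsUnique ⟨g, hg⟩).exists
  have := congrArg (fun x : KZ H => (x : GL I9 F)) hab
  simp only [Subgroup.coe_mul] at this
  rw [← this, hQ1 (a : GL I9 F) ⟨a, ha, rfl⟩, one_mul]
  exact hPmem _ hb

end Cfsg.Agent.C6NineOdd
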