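/-
A transvection in a group on four coordinates containing the frame homologies and the two
Fourier matrices spreads to the special unitary group.
Main results: `spread4`.
-/
import Cfsg.Agent.Lib.C6NineOdd.NormalForm4
import Cfsg.Agent.Lib.C6NineOdd.Spread

set_option autoImplicit false
set_option linter.unusedSectionVars false
set_option linter.unusedSimpArgs false

namespace Cfsg.Agent.C6NineOdd

open Matrix Cfsg.Agent.Transvect Cfsg.Agent.Unitary
open scoped Matrix

variable {F : Type*} [Field F] [Fintype F] (κ : Fld F)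

/-- The norm of an Eisenstein integer. -/
def eisN (e : ℤ × ℤ) : ℤ := e.1 * e.1 - e.1 * e.2 + e.2 * e.2

theorem evs_norm (e : ℤ × ℤ) : evs κ e * evs κ e ^ κ.p = (eisN e : F) := by
  haveI := κ.charP
  haveI := κ.fact
  have hf : ∀ n : ℤ, (n : F) ^ κ.p = (n : F) := fun n => by
    exact map_intCast (frobenius F κ.p) n
  rw [evs, add_pow_char, mul_pow, hf, hf, κ.conj, eisN]
  push_cast
  have hω := κ.cube
  have rel := κ.rel
  grind

/-- An isotropic pair has no vanishing combination with coefficients of equal norm. -/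
theorem pair_ne {a b x y : F} (hab : a * a ^ κ.p = b * b ^ κ.p) (ha : a ≠ 0) (hx : x ≠ 0)
    (hxy : x * x ^ κ.p + y * y ^ κ.p = 0) : a * x + b * y ≠ 0 := fun e => by
  have h1 : a * x = -(b * y) := eq_neg_of_add_eq_zero_left e
  have h2 : a * x * (a * x) ^ κ.p = b * y * (b * y) ^ κ.p := by
    rw [h1, neg_pow_q κ.card]; ring
  rw [mul_pow, mul_pow] at h2
  have : 2 * (a * a ^ κ.p * (x * x ^ κ.p)) = 0 := by
    linear_combination h2 + a * a ^ κ.p * hxy - (y * y ^ κ.p) * hab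
  simp [κ.two, ha, hx, pow_eq_zero_iff κ.p0] at this

/-- A matrix row sees both, none or one of the coordinates a and b. -/
def RowOK (E : EM4) (a b r : Fin 4) : Prop :=
  (E r a = 0 ∧ E r b = 0) ∨ (E r a = 0 ∧ (eisN (E r b) = 1 ∨ eisN (E r b) = 3)) ∨
    (E r b = 0 ∧ (eisN (E r a) = 1 ∨ eisN (E r a) = 3)) ∨ (eisN (E r a) = 1 ∧ eisN (E r b) = 1)

instance (E : EM4) (a b r : Fin 4) : Decidable (RowOK E a b r) := by unfold RowOK; infer_instance

theorem rows_ok : ∀ a b : Fin 4, a ≠ b → ∃ s : Bool,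
    (∀ r, RowOK (cond s eA4 eB4) a b r) ∧
    ∀ r r', cond s eA4 eB4 r a = 0 → cond s eA4 eB4 r b = 0 →
      cond s eA4 eB4 r' a = 0 → cond s eA4 eB4 r' b = 0 → r = r' := by decide

variable {A : Subgroup (GL (Fin 4) F)}

theorem gh4_app (k : Fin 4) (x : Fin 4 → F) :
    app (gh4 κ k) x = x + ((κ.ω - 1) * hq κ.p x (Pi.single k 1)) • Pi.single k 1 := by
  funext i
  rw [gh4, app_dgl, hq_single]
  by_cases h : i = k
  · subst h; simp [eh4, Fld.w_val]; ring
  · simp [eh4, h, Fld.w_val]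

/-- The frame of two coordinates and a unit vector orthogonal to them. -/
theorem frame4 (hA : A ≤ IGrp κ.p) (hW : W4 κ ≤ A) {i j : Fin 4} (hij : i ≠ j) {w : Fin 4 → F}
    (hwi : w i = 0) (hwj : w j = 0) (hw : hq κ.p w w = 1)
    (hmv : ∀ l : Fin 3, ∃ v : Fin 3 → F,
      (v 0 • Pi.single i 1 + v 1 • Pi.single j 1 + v 2 • w : Fin 4 → F) ∈ centres κ.p A ∧ v l ≠ 0 ∧
        ∃ l', l' ≠ l ∧ v l' ≠ 0)
    (y : Fin 3 → F) (hy : Cfsg.hermForm 3 F κ.p y y = 0) :
    (y 0 • Pi.single i 1 + y 1 • Pi.single j 1 + y 2 • w : Fin 4 → F) ∈ centres κ.p A := by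
  have H := hq_isHerm (ι := Fin 4) κ
  have hgh : ∀ k, gh4 κ k ∈ A := fun k => hW (Subgroup.subset_closure (Or.inl ⟨k, rfl⟩))
  set W : Fin 3 → Fin 4 → F := ![Pi.single i 1, Pi.single j 1, w] with hWdef
  have hsum : ∀ z : Fin 3 → F, ∑ l, z l • W l =
      z 0 • Pi.single i 1 + z 1 • Pi.single j 1 + z 2 • w := fun z => by
    simp [Fin.sum_univ_three, hWdef]
  have hWW : ∀ a b, hq κ.p (W a) (W b) = if a = b then 1 else 0 := by
    have hrev : ∀ k, hq κ.p (Pi.single k 1) w = w k ^ κ.p := fun k => by rw [H.conj_symm, hq_single]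
    intro a b
    fin_cases a <;> fin_cases b <;>
      simp [hWdef, hq_single, hrev, hwi, hwj, hw, hij, hij.symm, zero_pow κ.p0, Pi.single_apply]
  have h := frame_su κ hA hWW ⟨gh4 κ i * (gh4 κ j * gh4 κ j),
    mul_mem (hgh i) (mul_mem (hgh j) (hgh j)), fun x => by
      simp only [map_mul, LinearEquiv.mul_apply, gh4_app, hWdef, Matrix.cons_val_zero, Matrix.cons_val_one,
        H.add_left, H.smul_left, hq_single, Pi.single_apply, if_true, if_neg hij, if_neg hij.symm,
        mul_zero, add_zero]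
      module⟩
    (fun l => by simpa only [hsum] using hmv l) y hy
  rwa [hsum] at h

/-- A matrix carrying one frame homology to another moves the zero of a coordinate. -/
theorem coord_move {g : GL (Fin 4) F} {a b : Fin 4} (h : g * gh4 κ a = gh4 κ b * g) (y : Fin 4 → F) :
    app g y b = (g : Matrix (Fin 4) (Fin 4) F) b a * y a := by
  rw [app_apply, Matrix.mulVec, dotProduct, Finset.sum_eq_single a]
  · intro c _ hc
    have := congrArg (fun x : GL (Fin 4) F => (x : Matrix (Fin 4) (Fin 4) F) b c) h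
    simp [gh4, dgl, eh4, Matrix.mul_diagonal, Matrix.diagonal_mul, hc, Fld.w_val] at this
    have e : (κ.ω - 1) * (g : Matrix (Fin 4) (Fin 4) F) b c = 0 := by linear_combination -this
    rw [(mul_eq_zero.1 e).resolve_left κ.d1, zero_mul]
  · simp

/-- An isotropic vector of the other three coordinates is a centre if one with three nonzero coordinates is. -/
theorem coord_plane (hA : A ≤ IGrp κ.p) (hW : W4 κ ≤ A) {u : Fin 4 → F} (hu : u ∈ centres κ.p A)
    {k : Fin 4} (hk : u k = 0) (hne : ∀ i, i ≠ k → u i ≠ 0) (y : Fin 4 → F)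
    (hy : Cfsg.hermForm 4 F κ.p y y = 0) (hy0 : y k = 0) : y ∈ centres κ.p A := by
  set i := k.succAbove 0
  set j := k.succAbove 1
  set l := k.succAbove 2
  have hij : i ≠ j := fun e => absurd (Fin.succAbove_right_injective e) (by decide)
  have hil : i ≠ l := fun e => absurd (Fin.succAbove_right_injective e) (by decide)
  have hjl : j ≠ l := fun e => absurd (Fin.succAbove_right_injective e) (by decide)
  have dec : ∀ z : Fin 4 → F, z k = 0 →
      z = z i • Pi.single i 1 + z j • Pi.single j 1 + z l • Pi.single l 1 := fun z hz => by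
    conv_lhs => rw [pi_eq_sum_univ' z, Fin.sum_univ_succAbove _ k, hz, zero_smul, zero_add,
      Fin.sum_univ_three]
  have hsum : ∀ z : Fin 4 → F, z k = 0 →
      Cfsg.hermForm 4 F κ.p z z = z i * z i ^ κ.p + z j * z j ^ κ.p + z l * z l ^ κ.p := fun z hz => by
    rw [Cfsg.hermForm, Fin.sum_univ_succAbove _ k, hz, zero_mul, zero_add, Fin.sum_univ_three]
  have h := frame4 κ hA hW hij (w := Pi.single l 1) (by simp [hil]) (by simp [hjl])
    (by rw [hq_single]; simp) (fun m => ⟨![u i, u j, u l], by simpa [← dec u hk] using hu, by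
      fin_cases m <;> simp <;> exact hne _ (Fin.succAbove_ne k _), by
      obtain ⟨m', hm'⟩ := exists_ne m
      exact ⟨m', hm', by fin_cases m' <;> simp <;> exact hne _ (Fin.succAbove_ne k _)⟩⟩)
    ![y i, y j, y l] (by
      show ∑ a, (![y i, y j, y l] : Fin 3 → F) a * (![y i, y j, y l] : Fin 3 → F) a ^ κ.p = 0
      rw [Fin.sum_univ_three, ← hy, hsum y hy0]
      simp)
  simpa [← dec y hy0] using h

/-- A centre with at most one zero coordinate. -/
theorem exists_wide_centre (hA : A ≤ IGrp κ.p) (hW : W4 κ ≤ A) {u : Fin 4 → F} (hu0 : u ≠ 0)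
    (hu : u ∈ centres κ.p A) :
    ∃ v ∈ centres κ.p A, ∀ r r', v r = 0 → v r' = 0 → r = r' := by
  by_contra! hall
  obtain ⟨r, r', hr, hr', hrr⟩ := hall u hu
  obtain ⟨a, b, hab, hsum, hzero⟩ : ∃ a b : Fin 4, a ≠ b ∧
      (∀ z : Fin 4 → F, z r = 0 → z r' = 0 → ∀ f : Fin 4 → F, ∑ i, f i * z i = f a * z a + f b * z b) ∧
      Cfsg.hermForm 4 F κ.p u u = u a * u a ^ κ.p + u b * u b ^ κ.p := by
    obtain ⟨a, b, h1, h2, h3, h4, h5⟩ : ∃ a b : Fin 4, a ≠ b ∧ a ≠ r ∧ a ≠ r' ∧ b ≠ r ∧ b ≠ r' := by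
      have : ∀ r r' : Fin 4, r ≠ r' → ∃ a b, a ≠ b ∧ a ≠ r ∧ a ≠ r' ∧ b ≠ r ∧ b ≠ r' := by decide
      exact this r r' hrr
    have hu4 : (Finset.univ : Finset (Fin 4)) = {r, r', a, b} := by
      refine (Finset.eq_univ_of_card _ ?_).symm
      rw [Finset.card_insert_of_notMem (by simp [hrr, h2.symm, h4.symm]),
        Finset.card_insert_of_notMem (by simp [h3.symm, h5.symm]), Finset.card_pair h1]
      rfl
    refine ⟨a, b, h1, fun z hz hz' f => ?_, ?_⟩
    · rw [hu4, Finset.sum_insert (by simp [hrr, h2.symm, h4.symm]),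
        Finset.sum_insert (by simp [h3.symm, h5.symm]), Finset.sum_pair h1, hz, hz']
      ring
    · rw [Cfsg.hermForm, hu4, Finset.sum_insert (by simp [hrr, h2.symm, h4.symm]),
        Finset.sum_insert (by simp [h3.symm, h5.symm]), Finset.sum_pair h1, hr, hr']
      ring
  have hiso : u a * u a ^ κ.p + u b * u b ^ κ.p = 0 := hzero ▸ hu.1
  have hne : u a ≠ 0 ∧ u b ≠ 0 := by
    have z : ∀ x y : F, x * x ^ κ.p + y * y ^ κ.p = 0 → x = 0 → y = 0 := fun x y e hx => by
      simpa [hx, κ.p0, pow_eq_zero_iff] using e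
    by_contra hcon
    have hz : u a = 0 ∧ u b = 0 := by
      by_cases ha : u a = 0
      · exact ⟨ha, z _ _ hiso ha⟩
      · have hb : u b = 0 := by by_contra hb; exact hcon ⟨ha, hb⟩
        exact ⟨z _ _ (by linear_combination hiso) hb, hb⟩
    refine hu0 (funext fun i => ?_)
    have := hsum u hr hr' (Pi.single i 1)
    rw [hz.1, hz.2, Finset.sum_eq_single i (fun c _ hc => by simp [hc]) (by simp)] at this
    simpa using this
  obtain ⟨s, hok, huniq⟩ := rows_ok a b hab
  set G : GL (Fin 4) F := cond s (gA4 κ) (gB4 κ) with hG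
  have hGv : (G : Matrix (Fin 4) (Fin 4) F) = qc κ • ev4 κ (cond s eA4 eB4) := by
    cases s <;> rfl
  have hGA : G ∈ A := by
    cases s
    · exact hW (Subgroup.subset_closure (Or.inr (by simp [hG])))
    · exact hW (Subgroup.subset_closure (Or.inr (by simp [hG])))
  obtain ⟨t, t', ht, ht', htt⟩ := hall (app G u) (centres_conjI hGA (hA hGA) hu)
  have key : ∀ q, app G u q = 0 → cond s eA4 eB4 q a = 0 ∧ cond s eA4 eB4 q b = 0 := by
    intro q hq
    set E := cond s eA4 eB4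
    rw [app_apply, Matrix.mulVec, dotProduct, hsum u hr hr', hGv] at hq
    simp only [Matrix.smul_apply, ev4, Matrix.of_apply, smul_eq_mul] at hq
    have e : evs κ (E q a) * u a + evs κ (E q b) * u b = 0 :=
      (mul_eq_zero.1 (show qc κ * _ = 0 by linear_combination hq)).resolve_left (qc_ne κ)
    have nz : ∀ x : ℤ × ℤ, eisN x = 1 ∨ eisN x = 3 → evs κ x ≠ 0 := fun x hx e0 => by
      have := evs_norm κ x
      rw [e0, zero_mul] at this
      rcases hx with hx | hx <;> rw [hx] at this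
      · simp at this
      · exact κ.three (by simpa using this.symm)
    rcases hok q with h | ⟨h1, h2⟩ | ⟨h1, h2⟩ | ⟨h1, h2⟩
    · exact h
    · rw [h1, evs_zero, zero_mul, zero_add] at e
      exact absurd e (mul_ne_zero (nz _ h2) hne.2)
    · rw [h1, evs_zero, zero_mul, add_zero] at e
      exact absurd e (mul_ne_zero (nz _ h2) hne.1)
    · exact absurd e (pair_ne κ (by rw [evs_norm, evs_norm, h1, h2]) (nz _ (Or.inl h1)) hne.1 hiso)
  exact htt (huniq t t' (key t ht).1 (key t ht).2 (key t' ht').1 (key t' ht').2)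

/-- Two coordinates whose norms do not cancel. -/
theorem exists_pair {x : Fin 4 → F} (hx : ∀ i, x i ≠ 0) :
    ∃ a b i j : Fin 4, (∀ f : Fin 4 → F, ∑ c, f c = f a + f b + f i + f j) ∧ i ≠ j ∧ a ≠ b ∧
      a ≠ i ∧ a ≠ j ∧ b ≠ i ∧ b ≠ j ∧ x a * x a ^ κ.p + x b * x b ^ κ.p ≠ 0 := by
  by_cases h1 : x 0 * x 0 ^ κ.p + x 1 * x 1 ^ κ.p ≠ 0
  · exact ⟨0, 1, 2, 3, fun f => by rw [Fin.sum_univ_four], by decide, by decide, by decide, by decide,
      by decide, by decide, h1⟩
  by_cases h2 : x 0 * x 0 ^ κ.p + x 2 * x 2 ^ κ.p ≠ 0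
  · exact ⟨0, 2, 1, 3, fun f => by rw [Fin.sum_univ_four]; ring, by decide, by decide, by decide, by decide,
      by decide, by decide, h2⟩
  refine ⟨1, 2, 0, 3, fun f => by rw [Fin.sum_univ_four]; ring, by decide, by decide, by decide, by decide,
    by decide, by decide, fun h3 => ?_⟩
  push Not at h1 h2
  have : 2 * (x 0 * x 0 ^ κ.p) = 0 := by linear_combination h1 + h2 - h3
  simp [κ.two, hx 0, κ.p0] at this

/-- A transvection spreads to the special unitary group. -/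
theorem spread4 (hA : A ≤ IGrp κ.p) (hW : W4 κ ≤ A) {v : Fin 4 → F} {φ : (Fin 4 → F) →ₗ[F] F}
    (h0 : φ v = 0) (hne : tv v φ ≠ 1) (hm : tv v φ ∈ A) : suGL 4 F κ.p ≤ A := by
  classical
  have H := hq_isHerm (ι := Fin 4) κ
  obtain ⟨ε, hε⟩ := exists_eps κ.card
  have hε' : ε * ε ^ κ.p = -1 := by rw [← pow_succ', hε]
  have hε0 : ε ≠ 0 := fun e => by simp [e] at hε'
  -- a unit vector proportional to a part of a vector
  have unit : ∀ (x : Fin 4 → F) (a b : Fin 4), a ≠ b → x a * x a ^ κ.p + x b * x b ^ κ.p ≠ 0 →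
      ∃ γ : F, γ ≠ 0 ∧ hq κ.p (Pi.single a (γ * x a) + Pi.single b (γ * x b) : Fin 4 → F)
        (Pi.single a (γ * x a) + Pi.single b (γ * x b)) = 1 := by
    intro x a b hab hN
    have hfix : (x a * x a ^ κ.p + x b * x b ^ κ.p)⁻¹ ^ κ.p = (x a * x a ^ κ.p + x b * x b ^ κ.p)⁻¹ := by
      haveI := κ.charP
      haveI := κ.fact
      rw [_root_.inv_pow, add_pow_char, mul_pow, mul_pow, ← pow_mul, ← pow_mul, ← pow_two, ← κ.card,
        FiniteField.pow_card, FiniteField.pow_card, mul_comm (x a ^ κ.p), mul_comm (x b ^ κ.p)]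
    obtain ⟨γ, hγ⟩ := exists_norm_eq κ.card hfix
    rw [pow_succ'] at hγ
    refine ⟨γ, fun e => inv_ne_zero hN (by simp [← hγ, e]), ?_⟩
    rw [hq, Finset.sum_eq_add a b hab (fun c _ hc => by simp [hc.1, hc.2]) (by simp) (by simp)]
    simp [hab, hab.symm, mul_pow]
    linear_combination (x a * x a ^ κ.p + x b * x b ^ κ.p) * hγ + mul_inv_cancel₀ hN
  have dec : ∀ {a b i j : Fin 4}, (∀ f : Fin 4 → F, ∑ c, f c = f a + f b + f i + f j) →
      ∀ (x : Fin 4 → F) {γ : F}, γ ≠ 0 → x = x i • Pi.single i 1 + x j • Pi.single j 1 +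
        γ⁻¹ • (Pi.single a (γ * x a) + Pi.single b (γ * x b)) := by
    intro a b i j hs x γ hγ
    funext c
    conv_lhs => rw [pi_eq_sum_univ' x, Finset.sum_apply, hs]
    simp [Pi.single_apply, mul_ite, smul_ite]
    split_ifs <;> field_simp <;> ring
  obtain ⟨hv0, hv⟩ := centre_of_tv κ hA h0 hm hne
  obtain ⟨u, hu, huniq⟩ := exists_wide_centre κ hA hW hv0 hv
  obtain ⟨u1, hu1, k, hk, hkne⟩ : ∃ u1 ∈ centres κ.p A, ∃ k, u1 k = 0 ∧ ∀ i, i ≠ k → u1 i ≠ 0 := by
    by_cases hz : ∃ k, u k = 0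
    · obtain ⟨k, hk⟩ := hz
      exact ⟨u, hu, k, hk, fun i hi e => hi (huniq i k e hk)⟩
    push Not at hz
    obtain ⟨a, b, i, j, hs, hij, hab, hai, haj, hbi, hbj, hN⟩ := exists_pair κ hz
    obtain ⟨γ, hγ, hw⟩ := unit u a b hab hN
    set w : Fin 4 → F := Pi.single a (γ * u a) + Pi.single b (γ * u b) with hwdef
    have hwi : w i = 0 := by simp [hwdef, hai.symm, hbi.symm]
    have hwj : w j = 0 := by simp [hwdef, haj.symm, hbj.symm]
    have h := frame4 κ hA hW hij hwi hwj hw (fun l => ⟨![u i, u j, γ⁻¹], by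
        show u i • Pi.single i 1 + u j • Pi.single j 1 + γ⁻¹ • w ∈ _
        rw [hwdef, ← dec hs u hγ]; exact hu, by
        fin_cases l <;> simp [hz, hγ], by
        obtain ⟨l', hl'⟩ := exists_ne l
        exact ⟨l', hl', by fin_cases l' <;> simp [hz, hγ]⟩⟩)
      ![0, 1, ε] (by
        simp [Cfsg.hermForm, Fin.sum_univ_three, zero_pow κ.p0, hε'])
    refine ⟨_, h, i, by simp [hwi, hij], fun c hc => ?_⟩
    have hcc : c = a ∨ c = b ∨ c = j := by
      have := hs (fun x => if x = c then 1 else 0)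
      by_contra! hcon
      simp [Ne.symm hcon.1, Ne.symm hcon.2.1, Ne.symm hcon.2.2, Ne.symm hc] at this
    rcases hcc with rfl | rfl | rfl
    · simp [hwdef, hab, haj, hε0, hγ, hz]
    · simp [hwdef, hab.symm, hbj, hε0, hγ, hz]
    · simp [hwj]
  have hto : ∀ k', ∃ g ∈ A, g * gh4 κ k' = gh4 κ 0 * g := fun k' => by
    obtain ⟨g, hg, e⟩ := to_zero4 κ k'
    exact ⟨g, hW hg, mul_inv_eq_iff_eq_mul.1 e⟩
  obtain ⟨gk, hgkA, hgk⟩ := hto k
  have cen1 : ∀ y, Cfsg.hermForm 4 F κ.p y y = 0 → (∃ c, y c = 0) → y ∈ centres κ.p A := by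
    rintro y hy ⟨c, hc⟩
    obtain ⟨g, hgA, hg⟩ := hto c
    have hg' : gk⁻¹ * g * gh4 κ c = gh4 κ k * (gk⁻¹ * g) := by
      rw [mul_assoc, hg, ← mul_assoc, show gk⁻¹ * gh4 κ 0 = gh4 κ k * gk⁻¹ by
        rw [inv_mul_eq_iff_eq_mul, ← mul_assoc, hgk, mul_assoc, mul_inv_cancel, mul_one], mul_assoc]
    have hmA : gk⁻¹ * g ∈ A := mul_mem (inv_mem hgkA) hgA
    have h' := coord_plane κ hA hW hu1 hk hkne (app (gk⁻¹ * g) y)
      ((hA hmA y y).trans hy) (by rw [coord_move κ hg', hc, mul_zero])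
    have := centres_conjI (inv_mem hmA) (hA (inv_mem hmA)) h'
    rwa [app_inv_app] at this
  refine le_of_centres κ.card (Or.inl le_rfl) fun x hx => ?_
  by_cases hz : ∃ c, x c = 0
  · exact cen1 x hx hz
  push Not at hz
  obtain ⟨a, b, i, j, hs, hij, hab, hai, haj, hbi, hbj, hN⟩ := exists_pair κ hz
  obtain ⟨γ, hγ, hw⟩ := unit x a b hab hN
  set w : Fin 4 → F := Pi.single a (γ * x a) + Pi.single b (γ * x b) with hwdef
  have hwi : w i = 0 := by simp [hwdef, hai.symm, hbi.symm]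
  have hwj : w j = 0 := by simp [hwdef, haj.symm, hbj.symm]
  have hiso : ∀ z : Fin 3 → F, Cfsg.hermForm 4 F κ.p (z 0 • Pi.single i 1 + z 1 • Pi.single j 1 + z 2 • w)
      (z 0 • Pi.single i 1 + z 1 • Pi.single j 1 + z 2 • w) = Cfsg.hermForm 3 F κ.p z z := fun z => by
    have hrev : ∀ k, hq κ.p (Pi.single k 1) w = w k ^ κ.p := fun k => by rw [H.conj_symm, hq_single]
    rw [← hq_eq_hermForm]
    simp [Cfsg.hermForm, Fin.sum_univ_three, H.add_left, H.add_right κ.card, H.smul_left, H.smul_right,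
      hq_single, hrev, hwi, hwj, hw, hij, hij.symm, zero_pow κ.p0]
  have h := frame4 κ hA hW hij hwi hwj hw (fun l => by
      fin_cases l
      · exact ⟨![1, ε, 0], cen1 _ (by rw [hiso]; simp [Cfsg.hermForm, Fin.sum_univ_three, zero_pow κ.p0, hε'])
          ⟨a, by simp [hai, haj]⟩, by simp, 1, by decide, by simpa using hε0⟩
      · exact ⟨![1, ε, 0], cen1 _ (by rw [hiso]; simp [Cfsg.hermForm, Fin.sum_univ_three, zero_pow κ.p0, hε'])
          ⟨a, by simp [hai, haj]⟩, by simpa using hε0, 0, by decide, by simp⟩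
      · exact ⟨![1, 0, ε], cen1 _ (by rw [hiso]; simp [Cfsg.hermForm, Fin.sum_univ_three, zero_pow κ.p0, hε'])
          ⟨j, by simp [hwj, hij.symm]⟩, by simpa using hε0, 0, by decide, by simp⟩)
    ![x i, x j, γ⁻¹] (by
      rw [← hiso]
      show Cfsg.hermForm 4 F κ.p (x i • Pi.single i 1 + x j • Pi.single j 1 + γ⁻¹ • w)
        (x i • Pi.single i 1 + x j • Pi.single j 1 + γ⁻¹ • w) = 0
      rw [hwdef, ← dec hs x hγ]; exact hx)
  change x i • Pi.single i 1 + x j • Pi.single j 1 + γ⁻¹ • w ∈ _ at h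
  rwa [hwdef, ← dec hs x hγ] at h

end Cfsg.Agent.C6NineOdd
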