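/-
The centraliser of z lies in the normaliser.
Main results: `CZ`, `mZ`, `mZ_noTv`, `CZ_le_base`.
-/
import Cfsg.Agent.Lib.C6NineOdd.KernelZ
import Cfsg.Agent.Lib.C6NineOdd.SpreadFour
import Cfsg.Agent.Lib.C6NineOdd.CentJ

set_option autoImplicit false
set_option linter.unusedSectionVars false
set_option linter.unusedSimpArgs false

namespace Cfsg.Agent.C6NineOdd

open Matrix Cfsg.Agent.Transvect
open scoped Matrix Kronecker commutatorElement

variable {F : Type*} [Field F] [Fintype F] (κ : Fld F)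

/-- The elements of H commuting with z. -/
def CZ (H : Subgroup (GL I9 F)) : Subgroup (GL I9 F) :=
  H ⊓ Subgroup.centralizer {kr gJ gJ}

theorem mem_CZ {H : Subgroup (GL I9 F)} {g : GL I9 F} :
    g ∈ CZ H ↔ g ∈ H ∧ g * kr gJ gJ = kr gJ gJ * g := by
  rw [CZ, Subgroup.mem_inf, Subgroup.mem_centralizer_singleton_iff]

/-- Representatives of the pairs exchanged by z. -/
def r4 : Fin 4 → I9 := ![(0, 1), (1, 0), (1, 1), (1, 2)]

theorem z_mul_apply (M : Matrix I9 I9 F) (p q : I9) :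
    ((kr gJ gJ : GL I9 F).val * M) p q = M (-p.1, -p.2) q := by
  rw [Matrix.mul_apply, Finset.sum_eq_single (-p.1, -p.2)]
  · simp [kr_val, gJ]
  · rintro ⟨a, b⟩ - hne
    simp only [kr_val, gJ, Matrix.of_apply]
    by_cases h : p.1 + a = 0 <;> by_cases h' : p.2 + b = 0
    · exact absurd (Prod.ext (eq_neg_of_add_eq_zero_right h) (eq_neg_of_add_eq_zero_right h')) hne
    all_goals simp [h, h']
  · simp

theorem CZ_entry {g : GL I9 F} (h : g * kr gJ gJ = kr gJ gJ * g) (a b c d : Fin 3) :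
    (g : Matrix I9 I9 F) (-a, -b) (-c, -d) = (g : Matrix I9 I9 F) (a, b) (c, d) := by
  have := congrArg (fun x : GL I9 F => (x : Matrix I9 I9 F) (a, b) (-c, -d)) h
  simp only [Units.val_mul, mul_z_apply, z_mul_apply, neg_neg] at this
  exact this.symm

/-- The matrix on the negative eigenspace. -/
def mZm (g : GL I9 F) : Matrix (Fin 4) (Fin 4) F :=
  Matrix.of fun a b => (g : Matrix I9 I9 F) (r4 a) (r4 b) - (g : Matrix I9 I9 F) (r4 a) (-(r4 b).1, -(r4 b).2)

theorem mZm_mul {g h : GL I9 F} (hh : h * kr gJ gJ = kr gJ gJ * h) :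
    mZm (g * h) = mZm g * mZm h := by
  ext a b
  simp only [mZm, Matrix.of_apply, Units.val_mul, Matrix.mul_apply, ← Finset.sum_sub_distrib]
  rw [Fintype.sum_prod_type]
  set c := (r4 b).1
  set d := (r4 b).2
  rw [show r4 b = (c, d) from rfl]
  have e : ∀ x y, (h : Matrix I9 I9 F) (-x, -y) (c, d) = (h : Matrix I9 I9 F) (x, y) (-c, -d) := fun x y => by
    have := CZ_entry hh x y (-c) (-d)
    simpa using this
  have e' : ∀ x y, (h : Matrix I9 I9 F) (-x, -y) (-c, -d) = (h : Matrix I9 I9 F) (x, y) (c, d) := fun x y =>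
    CZ_entry hh x y c d
  have n0 : (-0 : Fin 3) = 0 := rfl
  have n1 : (-1 : Fin 3) = 2 := rfl
  have n2 : (-2 : Fin 3) = 1 := rfl
  have a00 := e 0 0
  have a01 := e 0 1; have a10 := e 1 0; have a11 := e 1 1; have a12 := e 1 2
  have b01 := e' 0 1; have b10 := e' 1 0; have b11 := e' 1 1; have b12 := e' 1 2
  rw [n0] at a00
  rw [n0, n1] at a01 a10 b01 b10
  rw [n1] at a11 b11
  rw [n1, n2] at a12 b12
  simp only [Fin.sum_univ_three, Fin.sum_univ_four]
  simp only [r4, Matrix.cons_val_zero, Matrix.cons_val_one, Matrix.cons_val, n0, n1, n2, a01, a10, a11,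
    a12, b01, b10, b11, b12]
  rw [a00]
  ring

theorem mZm_one : mZm (1 : GL I9 F) = 1 := by
  ext a b
  fin_cases a <;> fin_cases b <;>
    simp [mZm, r4, Matrix.one_apply, show (-1 : Fin 3) = 2 from rfl, show (-2 : Fin 3) = 1 from rfl]

/-- The action on the negative eigenspace. -/
def mZ (H : Subgroup (GL I9 F)) : CZ H →* GL (Fin 4) F :=
  MonoidHom.toHomUnits
    { toFun := fun g => mZm g.1
      map_one' := mZm_one
      map_mul' := fun _ h => mZm_mul (mem_CZ.1 h.2).2 }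

theorem mZ_val (H : Subgroup (GL I9 F)) (g : CZ H) :
    (mZ H g : Matrix (Fin 4) (Fin 4) F) = mZm g.1 := rfl

theorem mZ_ker {H : Subgroup (GL I9 F)} {g : CZ H} (h : mZ H g = 1) : g.1 ∈ KZ H := by
  obtain ⟨hg, hc⟩ := mem_CZ.1 g.2
  refine ⟨hg, hc, ?_⟩
  set G : Matrix I9 I9 F := (g.1 : Matrix I9 I9 F) with hG
  set D : Matrix I9 I9 F := G - 1 with hD
  suffices ∀ a b c d, D (a, b) (c, d) = D (a, b) (-c, -d) by
    have e : D * (1 - (kr gJ gJ : GL I9 F).val) = 0 := by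
      ext ⟨a, b⟩ ⟨c, d⟩
      rw [Matrix.mul_sub, Matrix.mul_one, Matrix.sub_apply, mul_z_apply, this, sub_self, Matrix.zero_apply]
    rwa [hD, Matrix.sub_mul, Matrix.one_mul, sub_eq_zero] at e
  have hsym : ∀ a b c d, D (-a, -b) (-c, -d) = D (a, b) (c, d) := fun a b c d => by
    simp only [hD, hG, Matrix.sub_apply, CZ_entry hc, Matrix.one_apply, Prod.mk.injEq, neg_inj]
  have hM : ∀ a b, D (r4 a) (r4 b) = D (r4 a) (-(r4 b).1, -(r4 b).2) := fun a b => by
    have := congrArg (fun x : GL (Fin 4) F => (x : Matrix (Fin 4) (Fin 4) F) a b) h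
    simp only [mZ_val, Units.val_one] at this
    rw [← mZm_one, mZm, mZm] at this
    simp only [Matrix.of_apply, Units.val_one, ← hG] at this
    simp only [hD, Matrix.sub_apply]
    linear_combination this
  have rep : ∀ a b : Fin 3, (a = 0 ∧ b = 0) ∨ ∃ k, (a, b) = r4 k ∨ (-a, -b) = r4 k := by decide
  intro a b c d
  rcases rep c d with ⟨rfl, rfl⟩ | ⟨k, hk⟩
  · rfl
  rcases rep a b with ⟨rfl, rfl⟩ | ⟨l, hl⟩
  · have := hsym 0 0 c d
    simpa using this.symm
  have base : ∀ l a b, (a, b) = r4 l → D (a, b) (c, d) = D (a, b) (-c, -d) := fun l a b hl => by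
    rcases hk with hk | hk
    · have := hM l k
      rwa [← hl, ← hk] at this
    · have := hM l k
      rw [← hl, ← hk] at this
      simpa using this.symm
  rcases hl with hl | hl
  · exact base l a b hl
  · have h1 := base l _ _ hl
    have h2 := hsym a b c d
    have h3 := hsym a b (-c) (-d)
    simp only [neg_neg] at h3
    rw [← h2, ← h3]
    exact h1.symm

theorem dgl_comm_z (d : I9 → Fˣ) (hd : ∀ i k, d (-i, -k) = d (i, k)) :
    dgl d * kr gJ gJ = kr gJ gJ * dgl d := by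
  apply Units.ext
  ext ⟨i, k⟩ ⟨j, l⟩
  simp only [Units.val_mul, mul_z_apply, z_mul_apply, dgl, Matrix.diagonal_apply, Prod.mk.injEq]
  by_cases h : i = -j ∧ k = -l
  · rw [if_pos h, if_pos (by simp [h.1, h.2]), hd]
  · rw [if_neg h, if_neg (fun e => h ⟨by rw [← e.1, neg_neg], by rw [← e.2, neg_neg]⟩)]

/-- The generators of the action come from the base group. -/
theorem W4_lift {H : Subgroup (GL I9 F)} (O : Ovr κ H) {w : GL (Fin 4) F} (hw : w ∈ W4 κ) :
    ∃ y : CZ H, mZ H y = w ∧ y.1 ∈ Base κ := by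
  obtain ⟨hh, hh', hq, hq', hd1, hd2⟩ := base_gens κ
  have hJh : gh κ 0 * gJ = gJ * gh κ 0 :=
    (S24_props κ (Subgroup.subset_closure (by simp) : gh κ 0 ∈ S24 κ)).1
  have hJq : gq κ * gJ = gJ * gq κ :=
    (S24_props κ (Subgroup.subset_closure (by simp) : gq κ ∈ S24 κ)).1
  have mk : ∀ (g : GL I9 F) (w : GL (Fin 4) F), g ∈ Base κ → g * kr gJ gJ = kr gJ gJ * g →
      mZm g = (w : Matrix (Fin 4) (Fin 4) F) → ∃ y : CZ H, mZ H y = w ∧ y.1 ∈ Base κ :=
    fun g w hg hc e => ⟨⟨g, mem_CZ.2 ⟨O.base hg, hc⟩⟩, Units.ext e, hg⟩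
  induction hw using Subgroup.closure_induction with
  | mem x hx =>
    rcases hx with ⟨k, rfl⟩ | rfl | rfl
    · have hone : ∀ (g : GL I9 F) (d : I9 → Fˣ), g = dgl d → (∀ a, d (r4 a) = κ.w ^ eh4 k a) →
          mZm g = (gh4 κ k : Matrix (Fin 4) (Fin 4) F) := by
        rintro g d rfl hd
        ext a b
        have hne : ∀ a b : Fin 4, r4 a ≠ (-(r4 b).1, -(r4 b).2) := by decide
        have hinj : ∀ a b : Fin 4, r4 a = r4 b → a = b := by decide
        by_cases h : a = b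
        · subst h; simp [mZm, dgl, gh4, hd, hne]
        · simp [mZm, dgl, gh4, h, hne, show ¬ r4 a = r4 b from fun e => h (hinj a b e)]
      have eL : ∀ j, kr (gh κ j) 1 = dgl fun p : I9 => if p.1 = j then κ.w else 1 := fun j => by
        apply Units.ext
        ext ⟨a, b⟩ ⟨c, e⟩
        rw [kr_val]
        simp only [gh, dgl, Units.val_one, Matrix.diagonal_apply, Matrix.one_apply, Prod.mk.injEq]
        by_cases hi : a = c <;> by_cases hj : b = e <;> simp [hi, hj]
      have eR : ∀ j, kr 1 (gh κ j) = dgl fun p : I9 => if p.2 = j then κ.w else 1 := fun j => by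
        apply Units.ext
        ext ⟨a, b⟩ ⟨c, e⟩
        rw [kr_val]
        simp only [gh, dgl, Units.val_one, Matrix.diagonal_apply, Matrix.one_apply, Prod.mk.injEq]
        by_cases hi : a = c <;> by_cases hj : b = e <;> simp [hi, hj]
      fin_cases k
      · exact mk _ _ (hh 0) (by rw [kr_mul, kr_mul, hJh, one_mul, mul_one])
          (hone _ _ (eL 0) (fun a => by fin_cases a <;> simp [r4, eh4]))
      · exact mk _ _ (hh' 0) (by rw [kr_mul, kr_mul, hJh, one_mul, mul_one])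
          (hone _ _ (eR 0) (fun a => by fin_cases a <;> simp [r4, eh4]))
      · exact mk _ _ hd2 (dgl_comm_z _ fun i k => by simp)
          (hone _ _ rfl (fun a => by fin_cases a <;> simp [r4, eh4]))
      · exact mk _ _ hd1 (dgl_comm_z _ fun i k => by simp [← neg_add_rev, add_comm k])
          (hone _ _ rfl (fun a => by fin_cases a <;> simp [r4, eh4]))
    · refine mk _ _ hq' (by rw [kr_mul, kr_mul, hJq, one_mul, mul_one]) ?_
      have hω := κ.cube
      have rel := κ.rel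
      ext a b
      fin_cases a <;> fin_cases b <;>
        simp [mZm, r4, kr_val, gq, gA4, qc, ev4, eA4, evs, Matrix.one_apply,
          show (-1 : Fin 3) = 2 from rfl, show (-2 : Fin 3) = 1 from rfl] <;> field_simp <;> grind
    · refine mk _ _ hq (by rw [kr_mul, kr_mul, hJq, one_mul, mul_one]) ?_
      have hω := κ.cube
      have rel := κ.rel
      ext a b
      fin_cases a <;> fin_cases b <;>
        simp [mZm, r4, kr_val, gq, gB4, qc, ev4, eB4, evs, Matrix.one_apply,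
          show (-1 : Fin 3) = 2 from rfl, show (-2 : Fin 3) = 1 from rfl] <;> field_simp <;> grind
  | one => exact ⟨1, map_one _, one_mem _⟩
  | mul a b _ _ ha hb =>
    obtain ⟨x, rfl, hx⟩ := ha
    obtain ⟨y, rfl, hy⟩ := hb
    exact ⟨x * y, map_mul _ _ _, mul_mem hx hy⟩
  | inv a _ ha =>
    obtain ⟨x, rfl, hx⟩ := ha
    exact ⟨x⁻¹, map_inv _ _, inv_mem hx⟩

theorem W4_le_range {H : Subgroup (GL I9 F)} (O : Ovr κ H) : W4 κ ≤ (mZ H).range := fun w hw => by
  obtain ⟨y, hy, -⟩ := W4_lift κ O hw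
  exact ⟨y, hy⟩

/-- The negative eigenspace of z in nine coordinates. -/
def zv (u : Fin 4 → F) : I9 → F := fun p =>
  ∑ a, u a * ((if p = r4 a then 1 else 0) - (if p = (-(r4 a).1, -(r4 a).2) then 1 else 0))

theorem app_mZ {g : GL I9 F} (hg : g * kr gJ gJ = kr gJ gJ * g) (u : Fin 4 → F) :
    app g (zv u) = zv (mZm g *ᵥ u) := by
  have hl : ∀ p, app g (zv u) p = ∑ a, u a *
      ((g : Matrix I9 I9 F) p (r4 a) - (g : Matrix I9 I9 F) p (-(r4 a).1, -(r4 a).2)) := fun p => by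
    simp only [app_apply, Matrix.mulVec, dotProduct, zv, Finset.mul_sum]
    rw [Finset.sum_comm]
    refine Finset.sum_congr rfl fun a _ => ?_
    simp [mul_sub, Finset.sum_sub_distrib, mul_ite]
    ring
  have hne : ∀ a b : Fin 4, r4 a ≠ (-(r4 b).1, -(r4 b).2) := by decide
  have hinj : ∀ a b : Fin 4, r4 a = r4 b → a = b := by decide
  have hr : ∀ (w : Fin 4 → F) b, zv w (r4 b) = w b := fun w b => by
    rw [zv, Finset.sum_eq_single b (fun a _ ha => by
      rw [if_neg (fun e => ha (hinj _ _ e).symm), if_neg (hne b a)]; simp) (by simp)]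
    simp [hne b b]
  have hneg : ∀ (w : Fin 4 → F) p, zv w (-p.1, -p.2) = -zv w p := fun w p => by
    simp only [zv, ← Finset.sum_neg_distrib]
    refine Finset.sum_congr rfl fun a _ => ?_
    have e1 : ((-p.1, -p.2) = r4 a) ↔ p = (-(r4 a).1, -(r4 a).2) := by
      constructor <;> intro e
      · rw [← e]; simp
      · rw [e]; simp
    have e2 : ((-p.1, -p.2) = (-(r4 a).1, -(r4 a).2)) ↔ p = r4 a := by
      simp [Prod.ext_iff]
    simp only [e1, e2]
    ring
  have hg' : ∀ p, app g (zv u) (-p.1, -p.2) = -app g (zv u) p := fun p => by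
    rw [hl, hl, ← Finset.sum_neg_distrib]
    refine Finset.sum_congr rfl fun a _ => ?_
    have e1 := CZ_entry hg p.1 p.2 (-(r4 a).1) (-(r4 a).2)
    have e2 := CZ_entry hg p.1 p.2 (r4 a).1 (r4 a).2
    simp only [neg_neg, Prod.mk.eta] at e1 e2
    rw [e1, e2]; ring
  funext p
  have rep : ∀ p : I9, p = (0, 0) ∨ ∃ b, p = r4 b ∨ p = (-(r4 b).1, -(r4 b).2) := by decide
  rcases rep p with rfl | ⟨b, rfl | rfl⟩
  · rw [hl, show zv (mZm g *ᵥ u) (0, 0) = 0 by simp [zv, r4, Fin.sum_univ_four]]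
    refine Finset.sum_eq_zero fun a _ => ?_
    have e := CZ_entry hg 0 0 (r4 a).1 (r4 a).2
    rw [show (-0 : Fin 3) = 0 from rfl] at e
    rw [e, sub_self, mul_zero]
  · rw [hl, hr]
    simp only [Matrix.mulVec, dotProduct, mZm, Matrix.of_apply]
    exact Finset.sum_congr rfl fun a _ => mul_comm _ _
  · rw [hg', hneg, hr, hl]
    simp only [Matrix.mulVec, dotProduct, mZm, Matrix.of_apply]
    rw [neg_inj]
    exact Finset.sum_congr rfl fun a _ => mul_comm _ _

/-- The image preserves the form. -/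
theorem mZ_iso {H : Subgroup (GL I9 F)} (O : Ovr κ H) : (mZ H).range ≤ IGrp κ.p := by
  rintro _ ⟨g, rfl⟩ x y
  have fac : ∀ u v : Fin 4 → F, hq κ.p (zv u) (zv v) = 2 * hq κ.p u v := fun u v => by
    simp [hq, zv, r4, Fintype.sum_prod_type, Fin.sum_univ_three, Fin.sum_univ_four,
      show (-1 : Fin 3) = 2 from rfl, show (-2 : Fin 3) = 1 from rfl, zero_pow κ.p0,
      Unitary.neg_pow_q κ.card]
    ring
  have := O.noTv.iso (mem_CZ.1 g.2).1 (zv x) (zv y)
  rw [app_mZ (mem_CZ.1 g.2).2, app_mZ (mem_CZ.1 g.2).2, fac, fac] at this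
  exact mul_left_cancel₀ κ.two this

/-- The image contains no transvection. -/
theorem mZ_noTv {H : Subgroup (GL I9 F)} (O : Ovr κ H) : NoTv κ (mZ H).range := by
  classical
  refine ⟨mZ_iso κ O, fun v0 φ0 h00 hm => ?_⟩
  by_contra hne0
  have hsu := spread4 κ (mZ_iso κ O) (W4_le_range κ O) h00 hne0 hm
  haveI := κ.charP
  haveI := κ.fact
  have h2 := κ.two
  have h2p : (2 : F) ^ κ.p = 2 := map_ofNat (frobenius F κ.p) 2
  have hhalf : (-(2 : F)⁻¹) ^ κ.p = -(2 : F)⁻¹ := by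
    rw [Unitary.neg_pow_q κ.card, _root_.inv_pow, h2p]
  obtain ⟨b, hb⟩ := Unitary.exists_norm_eq κ.card hhalf
  rw [pow_succ'] at hb
  obtain ⟨δ, hδ0, hδ⟩ := Unitary.exists_skew κ.card
  set vb : Fin 4 → F := ![1, 0, b, -b] with hvb
  have hvv : Cfsg.hermForm 4 F κ.p vb vb = 0 := by
    simp [Cfsg.hermForm, Fin.sum_univ_four, hvb, zero_pow κ.p0, Unitary.neg_pow_q κ.card]
    rw [hb]; field_simp; ring
  obtain ⟨g, hg⟩ := hsu (tvm_mem_su κ (g := Unitary.glTransvection κ.card vb hvv δ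
    (by rw [hδ, add_neg_cancel])) hvv (by rw [hδ, add_neg_cancel]) rfl)
  have hgv : mZm g.1 = 1 + Matrix.of fun a c => δ * (vb a * vb c ^ κ.p) := by
    rw [show mZm g.1 = Cfsg.unitaryTransvection 4 κ.p vb δ from congrArg Units.val hg]
    ext a c
    simp [Cfsg.unitaryTransvection, Matrix.vecMulVec_apply]
  obtain ⟨hgH, hgz⟩ := mem_CZ.1 g.2
  set G : Matrix I9 I9 F := (g.1 : Matrix I9 I9 F) with hG
  have hT : ∀ a c, G (r4 a) (r4 c) - G (r4 a) (-(r4 c).1, -(r4 c).2) =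
      (1 : Matrix (Fin 4) (Fin 4) F) a c + δ * (vb a * vb c ^ κ.p) := by
    intro a c
    have := congrFun (congrFun hgv a) c
    rw [mZm, Matrix.of_apply, ← hG] at this
    rw [this, Matrix.add_apply, Matrix.of_apply]
  have hj1 : kr 1 gJ ∈ H := O.base (kr_gJ_mem_base κ).2
  have hj1z : (kr 1 gJ : GL I9 F) * kr gJ gJ = kr gJ gJ * kr 1 gJ := by rw [kr_mul, kr_mul, one_mul, mul_one]
  set j : CZ H := ⟨kr 1 gJ, mem_CZ.2 ⟨hj1, hj1z⟩⟩ with hj
  have hcomm : mZ H ⁅g, j⁆ = 1 := by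
    rw [map_commutatorElement, commutatorElement_eq_one_iff_mul_comm]
    apply Units.ext
    rw [Units.val_mul, Units.val_mul, mZ_val, mZ_val, hgv]
    ext a c
    fin_cases a <;> fin_cases c <;>
      simp [mZm, hj, r4, kr_val, gJ, Matrix.mul_apply, Fin.sum_univ_four, 
        hvb, zero_pow κ.p0, Unitary.neg_pow_q κ.card,
        Matrix.one_apply, show (-1 : Fin 3) = 2 from rfl, show (-2 : Fin 3) = 1 from rfl]
  have hgJ : g.1 * kr 1 gJ = kr 1 gJ * g.1 := by
    have e : (⁅g, j⁆ : CZ H).1 = ⁅g.1, kr 1 gJ⁆ := rfl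
    rcases KZ_eq κ O (e ▸ mZ_ker hcomm) with h1 | h1
    · exact commutatorElement_eq_one_iff_mul_comm.1 h1
    · exfalso
      have e2 : g.1 * kr 1 gJ * g.1⁻¹ = kr gJ (gE κ) * kr 1 gJ := by
        rw [← h1, commutatorElement_def]; group
      have := congrArg (fun x : GL I9 F => Matrix.trace (x : Matrix I9 I9 F)) e2
      simp only [Units.val_mul] at this
      rw [Matrix.trace_mul_comm, ← Matrix.mul_assoc, ← Units.val_mul, inv_mul_cancel, Units.val_one,
        Matrix.one_mul, ← Units.val_mul (kr gJ (gE κ)), kr_mul] at this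
      simp [Matrix.trace, Matrix.diag, Fintype.sum_prod_type, Fin.sum_univ_three, kr_val, gJ, gE_val,
        Matrix.mul_apply, Matrix.one_apply] at this
      rw [show (Finset.univ.filter fun x : I9 => x.2 + x.2 = 0).card = 3 from rfl] at this
      push_cast at this
      exact mul_ne_zero κ.two κ.three (by first | linear_combination this | linear_combination -this)
  have hgC : g.1 ∈ CJ H := mem_CJ.2 ⟨hgH, hgJ⟩
  set M := mWm g.1 with hM
  set lam : F := M 1 1 - M 1 2 with hlam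
  have eJ : ∀ a b c d, G (a, -b) (c, -d) = G (a, b) (c, d) := fun a b c d => CJ_entry hgJ a c b d
  have eZ : ∀ a b c d, G (-a, -b) (-c, -d) = G (a, b) (c, d) := CZ_entry hgz
  set w : Fin 3 → F := ![1, b, b] with hw
  set U1 : Matrix (Fin 3) (Fin 3) F := Matrix.of fun a c => δ * (w a * w c ^ κ.p) with hU1
  have hMform : M = 1 + U1 + (lam - 1) • Pm := by
    have n0 : (-0 : Fin 3) = 0 := rfl
    have n1 : (-1 : Fin 3) = 2 := rfl
    have n2 : (-2 : Fin 3) = 1 := rfl
    have t00 := hT 0 0; have t02 := hT 0 2; have t03 := hT 0 3; have t20 := hT 2 0; have t30 := hT 3 0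
    have t22 := hT 2 2; have t23 := hT 2 3; have t32 := hT 3 2; have t33 := hT 3 3
    simp [r4, n0, n1, n2, Matrix.one_apply, hvb, zero_pow κ.p0, Unitary.neg_pow_q κ.card]
      at t00 t02 t03 t20 t30 t22 t23 t32 t33
    have J1 := eJ 0 1 1 1; have J2 := eJ 0 1 1 2; have J3 := eJ 1 1 0 1; have J4 := eJ 1 1 0 2
    have J5 := eJ 0 1 2 1; have J6 := eJ 0 1 2 2; have J7 := eJ 2 1 0 1; have J8 := eJ 2 1 0 2
    have J9 := eJ 1 1 2 1; have J10 := eJ 1 1 2 2; have J11 := eJ 2 1 1 1; have J12 := eJ 2 1 1 2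
    have J13 := eJ 2 1 2 1; have J14 := eJ 2 1 2 2; have J15 := eJ 1 1 1 1; have J16 := eJ 1 1 1 2
    have J17 := eJ 1 2 0 1; have J18 := eJ 1 2 0 2; have J19 := eJ 0 2 1 1; have J20 := eJ 0 2 1 2
    have Z1 := eZ 0 1 1 1; have Z2 := eZ 0 1 1 2; have Z3 := eZ 1 1 0 1; have Z4 := eZ 1 1 0 2
    have Z5 := eZ 1 1 1 1; have Z6 := eZ 1 1 1 2; have Z7 := eZ 1 1 2 1; have Z8 := eZ 1 1 2 2
    have Z9 := eZ 0 1 2 1; have Z10 := eZ 0 1 2 2; have Z11 := eZ 1 2 0 1; have Z12 := eZ 1 2 0 2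
    simp only [n0, n1, n2] at J1 J2 J3 J4 J5 J6 J7 J8 J9 J10 J11 J12 J13 J14 J15 J16 J17 J18 J19 J20 Z1 Z2 Z3 Z4 Z5 Z6 Z7 Z8 Z9 Z10 Z11 Z12
    ext a c
    fin_cases a <;> fin_cases c <;>
      simp [hlam, hM, mWm, hU1, hw, Pm, gJ, ← hG, Matrix.one_apply, Matrix.vecMulVec_apply] <;> grind
  have hP := (proj_rules κ).2.1
  have u1P : U1 * Pm = 0 := by
    ext a c; fin_cases a <;> fin_cases c <;>
      simp [hU1, hw, Pm, gJ, Matrix.mul_apply, Fin.sum_univ_three, Matrix.one_apply, Matrix.vecMulVec_apply]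
  have Pu1 : (Pm : Matrix (Fin 3) (Fin 3) F) * U1 = 0 := by
    ext a c; fin_cases a <;> fin_cases c <;>
      simp [hU1, hw, Pm, gJ, Matrix.mul_apply, Fin.sum_univ_three, Matrix.one_apply, Matrix.vecMulVec_apply]
  have hww : hq κ.p w w = 0 := by
    simp [hq, hw, Fin.sum_univ_three]
    rw [hb]; field_simp; ring
  have u11 : U1 * U1 = 0 := by
    ext a c
    rw [hU1, Matrix.mul_apply, Matrix.zero_apply]
    calc ∑ k, δ * (w a * w k ^ κ.p) * (δ * (w k * w c ^ κ.p))
        = δ * δ * w a * w c ^ κ.p * hq κ.p w w := by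
          rw [hq, Finset.mul_sum]; exact Finset.sum_congr rfl fun k _ => by ring
      _ = 0 := by rw [hww, mul_zero]
  have hpow : ∀ n : ℕ, M ^ n = 1 + (n : F) • U1 + (lam ^ n - 1) • Pm := by
    intro n
    induction n with
    | zero => simp
    | succ n ih =>
      rw [pow_succ, ih, hMform]
      simp only [Matrix.mul_add, Matrix.add_mul, Matrix.smul_mul, Matrix.mul_smul, u11, u1P, Pu1, hP,
        Matrix.one_mul, Matrix.mul_one, smul_zero, smul_smul, add_zero, zero_add]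
      push_cast
      match_scalars <;> ring
  have hdet : IsUnit M := by
    rw [hM, ← mW_val H ⟨g.1, hgC⟩]
    exact Units.isUnit _
  have hlam0 : lam ≠ 0 := fun e => by
    have hz : M * Pm = 0 := by
      rw [hMform, e, Matrix.add_mul, Matrix.add_mul, Matrix.one_mul, u1P, Matrix.smul_mul, hP]
      module
    have := congrFun (congrFun ((IsUnit.mul_right_eq_zero hdet).1 hz) 1) 1
    simp [Pm, gJ, h2] at this
  set n := Fintype.card F - 1 with hn
  have hlamn : lam ^ n = 1 := FiniteField.pow_card_sub_one_eq_one lam hlam0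
  have hncast : (n : F) = -1 := by
    rw [hn, Nat.cast_sub Fintype.card_pos, Nat.cast_one, show ((Fintype.card F : ℕ) : F) = 0 by
      rw [κ.card, Nat.cast_pow, CharP.cast_eq_zero, zero_pow two_ne_zero], zero_sub]
  let φ : (Fin 3 → F) →ₗ[F] F :=
    { toFun := fun x => -δ * hq κ.p x w
      map_add' := fun x y => by rw [(hq_isHerm κ).add_left, mul_add]
      map_smul' := fun a x => by simp [(hq_isHerm κ).smul_left]; ring }
  have h01 : φ w = 0 := by show -δ * hq κ.p w w = 0; rw [hww, mul_zero]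
  have hmem : tv w φ ∈ (mW H).range := by
    refine ⟨⟨g.1, hgC⟩ ^ n, ?_⟩
    apply Units.ext
    rw [map_pow, Units.val_pow_eq_pow_val, mW_val, ← hM, hpow, hlamn, sub_self, zero_smul, add_zero,
      hncast, tv_val h01, tmat]
    congr 1
    ext a c
    simp [hU1, Matrix.vecMulVec_apply, φ, hq, Pi.single_apply, ite_mul]
    ring
  have := congrFun ((tv_eq_one_iff h01).1 ((mW_noTv κ O).notv _ _ h01 hmem) (Pi.single 0 1)) 0
  simp [φ, hq, hw, Pi.single_apply, ite_mul, hδ0] at this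

/-- The centraliser of z lies in the base group. -/
theorem CZ_le_base {H : Subgroup (GL I9 F)} (O : Ovr κ H) {g : GL I9 F} (hg : g ∈ H)
    (hc : g * kr gJ gJ = kr gJ gJ * g) : g ∈ Base κ := by
  set G : CZ H := ⟨g, mem_CZ.2 ⟨hg, hc⟩⟩
  obtain ⟨w, hw, c, hcw⟩ := mem_W4 κ (mZ_noTv κ O) (W4_le_range κ O) (a := mZ H G) ⟨G, rfl⟩
  obtain ⟨y, hy, hyB⟩ := W4_lift κ O hw
  set z0 : GL I9 F := dgl fun _ => c with hz0
  have hzv : (z0 : Matrix I9 I9 F) = (c : F) • 1 := by
    rw [Matrix.smul_one_eq_diagonal]; simp [hz0, dgl]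
  have hwI : w ∈ IGrp κ.p := mZ_iso κ O (W4_le_range κ O hw)
  have hcc : (c : F) * (c : F) ^ κ.p = 1 := by
    have hg' := mZ_iso κ O ⟨G, rfl⟩ (Pi.single 0 1) (Pi.single 0 1)
    have happ : ∀ u, app (mZ H G) u = (c : F) • app w u := fun u => by
      rw [app_apply, app_apply, hcw, Matrix.smul_mulVec]
    have H4 := hq_isHerm (ι := Fin 4) κ
    rw [happ, H4.smul_left, H4.smul_right, hwI, hq_single] at hg'
    simpa using hg'
  have hzS : z0 ∈ Cfsg.Geo.scalars I9 F ⊓ IGrp κ.p :=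
    Subgroup.mem_inf.2 ⟨(Cfsg.Geo.mem_scalars_iff z0).2 ⟨c, hzv⟩, scalar_iso κ hzv hcc⟩
  set x := z0 * y.1 with hx
  have hxB : x ∈ Base κ := mul_mem (Subgroup.mem_sup_right hzS) hyB
  have hxC : x ∈ CZ H := by
    refine mem_CZ.2 ⟨O.base hxB, ?_⟩
    have h2 : Commute z0 (kr gJ gJ) := by
      apply Units.ext
      rw [Units.val_mul, Units.val_mul, hzv]
      simp
    exact (h2.mul_left (mem_CZ.1 y.2).2).eq
  have hxm : mZ H ⟨x, hxC⟩ = mZ H G := by
    apply Units.ext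
    rw [hcw, ← hy, mZ_val, mZ_val]
    show mZm x = _
    ext a b
    simp [mZm, hx, hzv]
    ring
  have hk : mZ H (⟨x, hxC⟩⁻¹ * G) = 1 := by rw [map_mul, map_inv, hxm, inv_mul_cancel]
  have e : (⟨x, hxC⟩⁻¹ * G : CZ H).1 = x⁻¹ * g := rfl
  have hb : x⁻¹ * g ∈ Base κ := by
    rcases KZ_eq κ O (e ▸ mZ_ker hk) with h1 | h1
    · rw [h1]; exact one_mem _
    · rw [h1, kr_eq]
      exact mul_mem (kr_gJ_mem_base κ).1 (S24_props κ (Q8_le κ (gE_mem_Q8 κ))).2.2
  simpa using mul_mem hxB hb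

end Cfsg.Agent.C6NineOdd
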