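/-
Normal subgroups of odd order of a proper overgroup lie in the standard group modulo scalars.
Main results: `OddN`, `OddN.le_R9`.
-/
import Cfsg.Agent.Lib.C6NineOdd.CentZ
import Cfsg.Agent.Lib.C6NineOdd.RNine

set_option autoImplicit false
set_option linter.unusedSectionVars false
set_option linter.unusedSimpArgs false

namespace Cfsg.Agent.C6NineOdd

open Matrix Cfsg.Agent.Transvect
open scoped Matrix Kronecker commutatorElement

variable {F : Type*} [Field F] [Fintype F] (κ : Fld F)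

/-- A normal subgroup of odd order. -/
structure OddN (H O : Subgroup (GL I9 F)) : Prop where
  le : O ≤ H
  odd : ¬ 2 ∣ Nat.card O
  normal : ∀ h ∈ H, ∀ x ∈ O, h * x * h⁻¹ ∈ O

variable {κ}

theorem OddN.ord {H O : Subgroup (GL I9 F)} (N : OddN H O) {x : GL I9 F} (hx : x ∈ O) :
    ¬ 2 ∣ orderOf x := fun h =>
  N.odd (h.trans (Subgroup.orderOf_mk x hx ▸ orderOf_dvd_natCard (⟨x, hx⟩ : O)))

theorem OddN.sq_one {H O : Subgroup (GL I9 F)} (N : OddN H O) {x : GL I9 F} (hx : x ∈ O)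
    (h : x ^ 2 = 1) : x = 1 := by
  rcases (Nat.dvd_prime Nat.prime_two).1 (orderOf_dvd_of_pow_eq_one h) with e | e
  · exact orderOf_eq_one_iff.1 e
  · exact absurd (dvd_of_eq e.symm) (N.ord hx)

theorem OddN.of_sq {H O : Subgroup (GL I9 F)} (N : OddN H O) {x : GL I9 F} (hx : x ∈ O)
    {S : Subgroup (GL I9 F)} (h : x * x ∈ S) : x ∈ S := by
  obtain ⟨k, hk⟩ : ∃ k, orderOf x = 2 * k + 1 := ⟨orderOf x / 2, by have := N.ord hx; omega⟩
  have e : x = (x * x) ^ (k + 1) := by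
    rw [← pow_two, ← pow_mul, show 2 * (k + 1) = orderOf x + 1 by omega, pow_succ, pow_orderOf_eq_one,
      one_mul]
  rw [e]
  exact pow_mem h _

/-- An involution with only scalar fixed points inverts modulo scalars. -/
theorem OddN.inv_mod {H O : Subgroup (GL I9 F)} (N : OddN H O) (D : Subgroup (GL I9 F)) (hD : D ≤ O)
    {t : GL I9 F} (ht : t * t = 1) (htD : ∀ x ∈ D, t * x * t⁻¹ ∈ D)
    (hfix : ∀ x ∈ D, t * x = x * t → x ∈ Cfsg.Geo.scalars I9 F) :
    ∀ x ∈ D, t * x * t⁻¹ * x ∈ Cfsg.Geo.scalars I9 F := by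
  set π := QuotientGroup.mk' (Cfsg.Geo.scalars I9 F) with hπ
  set D' := D.map π
  let φ : D' →* D' := MonoidHom.mk' (fun y => ⟨π t * y.1 * (π t)⁻¹, by
      obtain ⟨x, hx, e⟩ := y.2
      exact ⟨t * x * t⁻¹, htD x hx, by rw [map_mul, map_mul, map_inv, e]⟩⟩) fun a b => Subtype.ext (by
      show π t * (a.1 * b.1) * (π t)⁻¹ = π t * a.1 * (π t)⁻¹ * (π t * b.1 * (π t)⁻¹)
      group)
  have hsc : ∀ {c : GL I9 F}, c ∈ Cfsg.Geo.scalars I9 F → ∀ y, c * y = y * c := fun {c} hc y => by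
    obtain ⟨a, ha⟩ := (Cfsg.Geo.mem_scalars_iff c).1 hc
    exact Units.ext (by simp [ha])
  have hfpf : MonoidHom.FixedPointFree φ := by
    rintro ⟨_, x, hx, rfl⟩ h
    have e : π t * π x * (π t)⁻¹ = π x := congrArg Subtype.val h
    set c := t * x * t⁻¹ * x⁻¹ with hc
    have hcS : c ∈ Cfsg.Geo.scalars I9 F := by
      rw [← QuotientGroup.eq_one_iff, ← QuotientGroup.mk'_apply, ← hπ, hc, map_mul, map_mul, map_mul,
        map_inv, map_inv, e, mul_inv_cancel]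
    have hcD : c ∈ D := mul_mem (htD x hx) (inv_mem hx)
    have htx : t * x * t⁻¹ = c * x := by rw [hc]; group
    have h2 : c ^ 2 = 1 := by
      have : t * (t * x * t⁻¹) * t⁻¹ = x := by
        rw [show t * (t * x * t⁻¹) * t⁻¹ = (t * t) * x * (t * t)⁻¹ by group, ht]; simp
      rw [htx, ← mul_assoc, ← hsc hcS t, show c * t * x * t⁻¹ = c * (t * x * t⁻¹) by group, htx,
        ← mul_assoc, mul_eq_right] at this
      rw [pow_two, this]
    rw [N.sq_one (hD hcD) h2, one_mul, mul_inv_eq_iff_eq_mul] at htx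
    exact Subtype.ext ((QuotientGroup.eq_one_iff x).2 (hfix x hx htx))
  have hinv : Function.Involutive φ := fun y => Subtype.ext (by
    show π t * (π t * y.1 * (π t)⁻¹) * (π t)⁻¹ = y.1
    rw [show π t * (π t * y.1 * (π t)⁻¹) * (π t)⁻¹ = (π t * π t) * y.1 * (π t * π t)⁻¹ by group,
      ← map_mul, ht]
    simp)
  intro x hx
  have e : π t * π x * (π t)⁻¹ = (π x)⁻¹ :=
    congrArg Subtype.val (congrFun (hfpf.coe_eq_inv_of_involutive hinv) ⟨π x, x, hx, rfl⟩)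
  rw [← QuotientGroup.eq_one_iff, ← QuotientGroup.mk'_apply, ← hπ, map_mul, map_mul, map_mul, map_inv, e,
    inv_mul_cancel]

theorem swE_scalars {g : GL I9 F} (hg : g ∈ Cfsg.Geo.scalars I9 F) : swE g ∈ Cfsg.Geo.scalars I9 F := by
  obtain ⟨c, hc⟩ := (Cfsg.Geo.mem_scalars_iff g).1 hg
  refine (Cfsg.Geo.mem_scalars_iff _).2 ⟨c, ?_⟩
  ext p q
  rw [swE_val, hc, Matrix.smul_apply, Matrix.smul_apply, Matrix.one_apply, Matrix.one_apply]
  by_cases h : p = q
  · simp [h]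
  · simp [h, fun e => h (Prod.swap_injective e)]

theorem OddN.swap {H O : Subgroup (GL I9 F)} (N : OddN H O) : OddN (swH H) (swH O) := by
  refine ⟨Subgroup.map_mono N.le, ?_, fun h hh x hx => ?_⟩
  · rw [swH, ← Nat.card_congr (O.equivMapOfInjective (swE (F := F)).toMonoidHom swE.injective).toEquiv]
    exact N.odd
  · rw [mem_swH] at hh hx ⊢
    rw [map_mul, map_mul, map_inv]
    exact N.normal _ hh _ hx

variable (κ)

/-- The centraliser of one involution in a normal subgroup of odd order. -/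
theorem OddN.cent_J {H O : Subgroup (GL I9 F)} (Ov : Ovr κ H) (N : OddN H O) {x : GL I9 F} (hx : x ∈ O)
    (hc : x * kr 1 gJ = kr 1 gJ * x) : ∃ n : GL (Fin 3) F, x = kr n 1 := by
  obtain ⟨z0, hz0, w, -, s, hs, hxz⟩ := CJ_form κ Ov (mem_CJ.2 ⟨N.le hx, hc⟩)
  obtain ⟨c, hcv⟩ := (Cfsg.Geo.mem_scalars_iff z0).1 (Subgroup.mem_inf.1 hz0).1
  set n : GL (Fin 3) F := dgl (fun _ : Fin 3 => c) * w with hn
  have hxn : x = kr n s := by
    rw [hxz]
    apply Units.ext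
    ext p q
    rw [Units.val_mul, hcv, Matrix.smul_mul, Matrix.one_mul, Matrix.smul_apply, kr_val, kr_val, hn,
      Units.val_mul, smul_eq_mul]
    simp [dgl, mul_assoc]
  have hA := Ablk_gens κ (Ov.swap κ) 0
  have hN := Ablk_noTv κ (Ov.swap κ) 0
  have ts : ∀ t ∈ S24 κ, kr 1 t ∈ O → t = 1 := by
    intro t ht htO
    have hcen : ∀ y ∈ Q8g κ, t * y = y * t := by
      intro y hy
      set d := ⁅t, y⁆ with hd
      have hdQ : d ∈ Q8g κ := comm_Q8 κ ht hy
      have hdO : kr 1 d ∈ O := by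
        have hyH : krR y ∈ H := Ov.base (S24_props κ (Q8_le κ hy)).2.2
        show krR ⁅t, y⁆ ∈ O
        rw [map_commutatorElement, commutatorElement_def, mul_assoc, mul_assoc, ← mul_assoc (krR y)]
        exact mul_mem htO (N.normal _ hyH _ (inv_mem htO))
      have hd4 : d ^ 4 = 1 := by
        have e2 : ∀ a ∈ Q8g κ, a * a = 1 ∨ a * a = gE κ → a ^ 4 = 1 := fun a _ h => by
          rw [show 4 = 2 * 2 from rfl, pow_mul, pow_two a]
          rcases h with h | h <;> rw [h]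
          · exact one_pow _
          · rw [pow_two, gE_sq]
        have key : ∀ a ∈ Q8g κ, a ∈ Q8g κ ∧ (a * a = 1 ∨ a * a = gE κ) := by
          intro a ha
          induction ha using Subgroup.closure_induction with
          | mem a ha =>
            obtain ⟨k, rfl⟩ := ha
            exact ⟨Subgroup.subset_closure ⟨k, rfl⟩, Or.inr (wk_sq κ k)⟩
          | one => exact ⟨one_mem _, Or.inl (mul_one _)⟩
          | mul a b _ _ ha hb =>
            refine ⟨mul_mem ha.1 hb.1, ?_⟩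
            have hab : a * b * (a * b) = ⁅a, b⁆ * (b * b) * (a * a) ∨
                a * b * (a * b) = ⁅a, b⁆ * (a * a) * (b * b) := by
              right
              have hE : ∀ u ∈ Q8g κ, gE κ * u = u * gE κ := fun u hu => gE_central κ (Q8_le κ hu)
              have hbb : Commute (b * b) a := by
                rcases hb.2 with e | e <;> rw [e]
                · exact Commute.one_left a
                · exact hE a ha.1
              have hcc : Commute ⁅a, b⁆ a := by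
                rcases comm_pm κ ha.1 hb.1 with e | e <;> rw [e]
                · exact Commute.one_left a
                · exact hE a ha.1
              have e1 : b * a = ⁅a, b⁆⁻¹ * (a * b) := by rw [commutatorElement_def]; group
              have hci : ⁅a, b⁆⁻¹ = ⁅a, b⁆ := by
                rcases comm_pm κ ha.1 hb.1 with e | e <;> rw [e]
                · exact inv_one
                · exact gE_inv κ
              calc a * b * (a * b) = a * (b * a) * b := by group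
                _ = a * ⁅a, b⁆ * (a * b) * b := by rw [e1, hci]; group
                _ = _ := by rw [← hcc.eq]; group
            rcases hab with e | e <;> rw [e] <;>
              rcases comm_pm κ ha.1 hb.1 with c | c <;> rcases ha.2 with p | p <;> rcases hb.2 with q | q <;>
              simp [c, p, q, gE_sq]
          | inv a _ ha =>
            refine ⟨inv_mem ha.1, ?_⟩
            rcases ha.2 with e | e
            · exact Or.inl (by rw [← _root_.mul_inv_rev, e, inv_one])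
            · exact Or.inr (by rw [← _root_.mul_inv_rev, e, gE_inv])
        exact e2 _ hdQ (key _ hdQ).2
      have h1 : (kr 1 d : GL I9 F) ^ 2 = 1 := N.sq_one (pow_mem hdO 2) (by
        rw [← pow_mul]
        show krR d ^ 4 = 1
        rw [← map_pow, hd4, map_one])
      have hd1 : d = 1 := krR_injective (by rw [map_one]; exact N.sq_one hdO h1)
      exact commutatorElement_eq_one_iff_mul_comm.1 hd1
    rcases central_pm κ hN hA.1 hA.2 ht hcen with rfl | rfl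
    · rfl
    · refine krR_injective ?_
      rw [map_one]
      refine N.sq_one htO ?_
      show krR (gE κ) ^ 2 = 1
      rw [← map_pow, pow_two, gE_sq, map_one]
  have hsc : ∀ y ∈ S24 κ, s * y = y * s := by
    intro y hy
    have hyH : kr 1 y ∈ H := Ov.base (S24_props κ hy).2.2
    have hm : ⁅x, kr 1 y⁆ ∈ O := by
      rw [commutatorElement_def, mul_assoc, mul_assoc, ← mul_assoc (kr 1 y)]
      exact mul_mem hx (N.normal _ hyH _ (inv_mem hx))
    have e : ⁅x, kr 1 y⁆ = kr 1 ⁅s, y⁆ := by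
      rw [hxn, commutatorElement_def, commutatorElement_def,
        show (kr n s)⁻¹ = kr n⁻¹ s⁻¹ from Units.ext rfl,
        show (kr (1 : GL (Fin 3) F) y)⁻¹ = kr 1⁻¹ y⁻¹ from Units.ext rfl, kr_mul, kr_mul, kr_mul]
      simp
    refine commutatorElement_eq_one_iff_mul_comm.1 (ts _ ?_ (e ▸ hm))
    rw [commutatorElement_def]
    exact mul_mem (mul_mem (mul_mem hs hy) (inv_mem hs)) (inv_mem hy)
  rcases central_pm κ hN hA.1 hA.2 hs (fun y hy => hsc y (Q8_le κ hy)) with rfl | rfl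
  · exact ⟨n, hxn⟩
  · exfalso
    obtain ⟨k, hk⟩ : ∃ k, orderOf x = 2 * k + 1 := ⟨orderOf x / 2, by have := N.ord hx; omega⟩
    have hp : ∀ m : ℕ, (kr n (gE κ) : GL I9 F) ^ m = kr (n ^ m) (gE κ ^ m) := by
      intro m
      induction m with
      | zero => rw [pow_zero, pow_zero, pow_zero, kr_one]
      | succ m ih => rw [pow_succ, ih, kr_mul, pow_succ, pow_succ]
    have h1 := pow_orderOf_eq_one x
    rw [hk, hxn, hp, pow_succ (gE κ), pow_mul (gE κ), pow_two (gE κ), gE_sq, one_pow, one_mul] at h1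
    have e1 := congrArg (fun g : GL I9 F => (g : Matrix I9 I9 F) (0, 0) (0, 0)) h1
    have e2 := congrArg (fun g : GL I9 F => (g : Matrix I9 I9 F) (0, 1) (0, 2)) h1
    simp [kr_val, gE_val, gJ] at e1 e2
    rw [e2] at e1
    simp at e1

/-- The part centralising both z and one involution is scalar. -/
theorem OddN.cent_JZ {H O : Subgroup (GL I9 F)} (Ov : Ovr κ H) (N : OddN H O) {x : GL I9 F} (hx : x ∈ O)
    (hc : x * kr 1 gJ = kr 1 gJ * x) (hz : x * kr gJ gJ = kr gJ gJ * x) : x ∈ Cfsg.Geo.scalars I9 F := by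
  obtain ⟨n, rfl⟩ := N.cent_J κ Ov hx hc
  have hn : n * gJ = gJ * n := by
    apply Units.ext
    ext i j
    have := congrArg (fun g : GL I9 F => (g : Matrix I9 I9 F) (i, 0) (j, 0)) hz
    simp only [kr_mul, kr_val, one_mul, mul_one] at this
    simpa [gJ] using this
  have hx' : kr 1 n ∈ swH O := mem_swH.2 (by rw [swE_kr]; exact hx)
  obtain ⟨m, hm⟩ := (N.swap).cent_J κ (Ov.swap κ) hx' (by rw [kr_mul, kr_mul, hn])
  have e : ∀ k l, (n : Matrix (Fin 3) (Fin 3) F) k l = if k = l then (m : Matrix (Fin 3) (Fin 3) F) 0 0 else 0 := by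
    intro k l
    have := congrArg (fun g : GL I9 F => (g : Matrix I9 I9 F) (0, k) (0, l)) hm
    simp [kr_val, Matrix.one_apply] at this
    exact this
  have hc0 : (m : Matrix (Fin 3) (Fin 3) F) 0 0 ≠ 0 := fun h0 => by
    have : ((n : Matrix (Fin 3) (Fin 3) F) * ((n⁻¹ : GL (Fin 3) F) : Matrix (Fin 3) (Fin 3) F)) 0 0 = 1 := by
      rw [← Units.val_mul, mul_inv_cancel, Units.val_one, Matrix.one_apply_eq]
    simp [Matrix.mul_apply, e, h0] at this
  refine (Cfsg.Geo.mem_scalars_iff _).2 ⟨Units.mk0 _ hc0, ?_⟩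
  ext ⟨i, k⟩ ⟨j, l⟩
  rw [kr_val, e]
  simp only [Units.val_one, Matrix.smul_apply, Matrix.one_apply, Units.val_mk0, Prod.mk.injEq, smul_eq_mul]
  by_cases h1 : i = j <;> by_cases h2 : k = l <;> simp [h1, h2]

/-- The image of the involution of one factor on the negative eigenspace. -/
def eJ4 : EM4 := ![![(-1, 0), 0, 0, 0], ![0, (1, 0), 0, 0], ![0, 0, 0, (1, 0)], ![0, 0, (1, 0), 0]]

/-- Conjugation. -/
def ecj (G G' : EM4) : EM4 := emul4 (emul4 G eJ4) G'

/-- The frame homology. -/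
def eH (k : Fin 4) : EM4 := ediag4 (eh4 k)

/-- Its inverse. -/
def eH' (k : Fin 4) : EM4 := ediag4 fun i => 2 * eh4 k i

/-- A multiple of the identity. -/
def eFive : EM4 := fun p q => if p = q then (-6561, 0) else 0

set_option maxRecDepth 100000 in
theorem five_fact :
    emul4 (emul4 (emul4 (emul4
      (ecj (emul4 (emul4 (eH 0) eB4) (eH 3)) (emul4 (eH' 3) (emul4 eB4' (eH' 0))))
      (ecj (emul4 (emul4 (eH 1) eA4) (eH 2)) (emul4 (eH' 2) (emul4 eA4' (eH' 1)))))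
      (ecj (emul4 (emul4 (emul4 (eH 2) eA4) eB4) (eH 3)) (emul4 (eH' 3) (emul4 eB4' (emul4 eA4' (eH' 2))))))
      (ecj (emul4 (emul4 (emul4 eA4 (eH 2)) eB4) (eH 3)) (emul4 (eH' 3) (emul4 eB4' (emul4 (eH' 2) eA4')))))
      (ecj (emul4 (emul4 (emul4 eB4 (eH 3)) eA4) (eH 2)) (emul4 (eH' 2) (emul4 eA4' (emul4 (eH' 3) eB4'))))
      = eFive := by
  decide +kernel

/-- A representation by integer matrices up to scalars. -/
def Rep (g : GL (Fin 4) F) (G G' : EM4) : Prop :=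
  ∃ a b : F, (g : Matrix (Fin 4) (Fin 4) F) = a • ev4 κ G ∧
    ((g⁻¹ : GL (Fin 4) F) : Matrix (Fin 4) (Fin 4) F) = b • ev4 κ G'

theorem Rep.mul {g h : GL (Fin 4) F} {G G' K K' : EM4} (hg : Rep κ g G G') (hh : Rep κ h K K') :
    Rep κ (g * h) (emul4 G K) (emul4 K' G') := by
  obtain ⟨a, b, e, e'⟩ := hg
  obtain ⟨c, d, f, f'⟩ := hh
  refine ⟨a * c, d * b, ?_, ?_⟩
  · rw [Units.val_mul, e, f, ev4_mul, Matrix.smul_mul, Matrix.mul_smul, smul_smul]
  · rw [_root_.mul_inv_rev, Units.val_mul, e', f', ev4_mul, Matrix.smul_mul, Matrix.mul_smul, smul_smul]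

theorem rep_A : Rep κ (gA4 κ) eA4 eA4' := ⟨_, _, rfl, rfl⟩
theorem rep_B : Rep κ (gB4 κ) eB4 eB4' := ⟨_, _, rfl, rfl⟩

theorem rep_h (k : Fin 4) : Rep κ (gh4 κ k) (eH k) (eH' k) := by
  refine ⟨1, 1, by rw [one_smul, eH, gh4_val], ?_⟩
  rw [one_smul, gh4, dgl_inv]
  ext p q
  by_cases h : p = q
  · subst h
    simp only [dgl, ev4, eH', ediag4, Matrix.diagonal_apply_eq, Matrix.of_apply, if_true, evs_pow,
      Pi.inv_apply, Units.val_inv_eq_inv_val, Units.val_pow_eq_pow_val, Fld.w_val]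
    exact inv_eq_of_mul_eq_one_right (by rw [mul_comm, inv_pow κ])
  · simp [dgl, ev4, eH', ediag4, h, evs_zero]

/-- The centraliser of z in a normal subgroup of odd order is scalar. -/
theorem OddN.cent_Z {H O : Subgroup (GL I9 F)} (Ov : Ovr κ H) (N : OddN H O) {x : GL I9 F} (hx : x ∈ O)
    (hz : x * kr gJ gJ = kr gJ gJ * x) : x ∈ Cfsg.Geo.scalars I9 F := by
  have hj1 : kr 1 gJ ∈ H := Ov.base (kr_gJ_mem_base κ).2
  have hj1z : (kr 1 gJ : GL I9 F) * kr gJ gJ = kr gJ gJ * kr 1 gJ := by rw [kr_mul, kr_mul, one_mul, mul_one]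
  set D : Subgroup (GL I9 F) := O ⊓ Subgroup.centralizer {kr gJ gJ} with hD
  have hDmem : ∀ {y}, y ∈ D ↔ y ∈ O ∧ y * kr gJ gJ = kr gJ gJ * y := fun {y} => by
    rw [hD, Subgroup.mem_inf, Subgroup.mem_centralizer_singleton_iff]
  set j : CZ H := ⟨kr 1 gJ, mem_CZ.2 ⟨hj1, hj1z⟩⟩ with hj
  set π := QuotientGroup.mk' (Cfsg.Geo.scalars I9 F) with hπ
  -- every conjugate inverts
  have inv : ∀ (g : GL (Fin 4) F), g ∈ W4 κ → ∃ r : CZ H, mZ H r = g * mZ H j * g⁻¹ ∧
      π r.1 * π x * (π r.1)⁻¹ = (π x)⁻¹ := by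
    intro g hg
    obtain ⟨y, hy, -⟩ := W4_lift κ Ov hg
    refine ⟨y * j * y⁻¹, by rw [map_mul, map_mul, map_inv, hy], ?_⟩
    obtain ⟨hyH, hyz⟩ := mem_CZ.1 y.2
    obtain ⟨hrH, hrz⟩ := mem_CZ.1 (y * j * y⁻¹).2
    have hr : (y * j * y⁻¹ : CZ H).1 = y.1 * kr 1 gJ * y.1⁻¹ := rfl
    rw [hr] at hrH hrz ⊢
    have hC : Commute y.1 (kr gJ gJ) := hyz
    have := N.inv_mod D inf_le_left (t := y.1 * kr 1 gJ * y.1⁻¹) (by
        rw [show y.1 * kr 1 gJ * y.1⁻¹ * (y.1 * kr 1 gJ * y.1⁻¹) = y.1 * (kr 1 gJ * kr 1 gJ) * y.1⁻¹ by group,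
          kr_mul, one_mul, gJ_sq, kr_one, mul_one, mul_inv_cancel])
      (fun u hu => by
        obtain ⟨hu1, hu2⟩ := hDmem.1 hu
        exact hDmem.2 ⟨N.normal _ hrH _ hu1,
          (((show Commute _ (kr gJ gJ) from hrz).mul_left hu2).mul_left
            (show Commute _ (kr gJ gJ) from hrz).inv_left).eq⟩)
      (fun u hu htu => by
        obtain ⟨hu1, hu2⟩ := hDmem.1 hu
        set u' := y.1⁻¹ * u * y.1 with hu'
        have h1 : u' ∈ O := by simpa using N.normal _ (inv_mem hyH) _ hu1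
        have h2 : u' * kr 1 gJ = kr 1 gJ * u' := by
          calc u' * kr 1 gJ = y.1⁻¹ * (u * (y.1 * kr 1 gJ * y.1⁻¹)) * y.1 := by rw [hu']; group
            _ = y.1⁻¹ * (y.1 * kr 1 gJ * y.1⁻¹ * u) * y.1 := by rw [htu]
            _ = kr 1 gJ * u' := by rw [hu']; group
        have h3 : u' * kr gJ gJ = kr gJ gJ * u' := ((hC.inv_left.mul_left hu2).mul_left hC).eq
        have h4 := N.cent_JZ κ Ov h1 h2 h3
        have h5 := (inferInstance : (Cfsg.Geo.scalars I9 F).Normal).conj_mem _ h4 y.1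
        rwa [show y.1 * u' * y.1⁻¹ = u by rw [hu']; group] at h5)
      x (hDmem.2 ⟨hx, hz⟩)
    rw [← QuotientGroup.eq_one_iff, ← QuotientGroup.mk'_apply, ← hπ] at this
    simp only [map_mul, map_inv] at this ⊢
    exact eq_inv_of_mul_eq_one_left this
  obtain ⟨r1, e1, i1⟩ := inv _ (mul_mem (mul_mem (gh4_mem κ 0) (gB4_mem κ)) (gh4_mem κ 3))
  obtain ⟨r2, e2, i2⟩ := inv _ (mul_mem (mul_mem (gh4_mem κ 1) (gA4_mem κ)) (gh4_mem κ 2))
  obtain ⟨r3, e3, i3⟩ := inv _ (mul_mem (mul_mem (mul_mem (gh4_mem κ 2) (gA4_mem κ)) (gB4_mem κ)) (gh4_mem κ 3))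
  obtain ⟨r4, e4, i4⟩ := inv _ (mul_mem (mul_mem (mul_mem (gA4_mem κ) (gh4_mem κ 2)) (gB4_mem κ)) (gh4_mem κ 3))
  obtain ⟨r5, e5, i5⟩ := inv _ (mul_mem (mul_mem (mul_mem (gB4_mem κ) (gh4_mem κ 3)) (gA4_mem κ)) (gh4_mem κ 2))
  set P : CZ H := r1 * r2 * r3 * r4 * r5 with hP
  have hPs : ∃ c : F, (mZ H P : Matrix (Fin 4) (Fin 4) F) = c • 1 := by
    have hJ : (mZ H j : Matrix (Fin 4) (Fin 4) F) = ev4 κ eJ4 := by
      ext a b
      fin_cases a <;> fin_cases b <;>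
        simp [mZ_val, mZm, hj, C6NineOdd.r4, kr_val, gJ, ev4, eJ4, evs, Matrix.one_apply,
          show (-1 : Fin 3) = 2 from rfl, show (-2 : Fin 3) = 1 from rfl]
    have cj : ∀ {g : GL (Fin 4) F} {G G' : EM4}, Rep κ g G G' →
        ∃ c : F, ((g * mZ H j * g⁻¹ : GL (Fin 4) F) : Matrix (Fin 4) (Fin 4) F) = c • ev4 κ (ecj G G') := by
      rintro g G G' ⟨a, b, e, e'⟩
      refine ⟨a * b, ?_⟩
      rw [Units.val_mul, Units.val_mul, e, e', hJ, ecj, ev4_mul, ev4_mul, Matrix.smul_mul, Matrix.mul_smul,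
        Matrix.smul_mul, smul_smul, mul_comm b]
    obtain ⟨c1, f1⟩ := cj (((rep_h κ 0).mul κ (rep_B κ)).mul κ (rep_h κ 3))
    obtain ⟨c2, f2⟩ := cj (((rep_h κ 1).mul κ (rep_A κ)).mul κ (rep_h κ 2))
    obtain ⟨c3, f3⟩ := cj ((((rep_h κ 2).mul κ (rep_A κ)).mul κ (rep_B κ)).mul κ (rep_h κ 3))
    obtain ⟨c4', f4⟩ := cj ((((rep_A κ).mul κ (rep_h κ 2)).mul κ (rep_B κ)).mul κ (rep_h κ 3))
    obtain ⟨c5, f5⟩ := cj ((((rep_B κ).mul κ (rep_h κ 3)).mul κ (rep_A κ)).mul κ (rep_h κ 2))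
    have hF : ev4 κ eFive = (-6561 : F) • 1 := by
      ext p q
      by_cases h : p = q
      · subst h; simp [ev4, eFive, evs]
      · simp [ev4, eFive, h, evs]
    refine ⟨c5 * (c4' * (c3 * (c2 * c1))) * (-6561), ?_⟩
    have hf := congrArg (ev4 κ) five_fact
    rw [hF] at hf
    simp only [ev4_mul] at hf
    simp only [hP, map_mul, Units.val_mul, e1, e2, e3, e4, e5] at *
    simp only [f1, f2, f3, f4, f5, Matrix.smul_mul, Matrix.mul_smul, smul_smul, ev4_mul]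
    rw [hf, smul_smul]
  obtain ⟨c, hc⟩ := hPs
  have hxC : x ∈ CZ H := mem_CZ.2 ⟨N.le hx, hz⟩
  have hcomm : mZ H ⁅P, ⟨x, hxC⟩⁆ = 1 := by
    rw [map_commutatorElement, commutatorElement_eq_one_iff_mul_comm]
    apply Units.ext
    rw [Units.val_mul, Units.val_mul, hc]
    simp
  have hPO : ⁅P.1, x⁆ ∈ O := by
    rw [commutatorElement_def]
    exact mul_mem (N.normal _ (mem_CZ.1 P.2).1 _ hx) (inv_mem hx)
  have h1 : ⁅P.1, x⁆ = 1 := by
    have e : (⁅P, ⟨x, hxC⟩⁆ : CZ H).1 = ⁅P.1, x⁆ := rfl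
    rcases KZ_eq κ Ov (e ▸ mZ_ker hcomm) with h | h
    · exact h
    · exact N.sq_one hPO (by rw [h, pow_two]; exact mz_sq κ)
  have hP5 : π P.1 * π x * (π P.1)⁻¹ = (π x)⁻¹ := by
    have cinv : ∀ {a : GL I9 F ⧸ Cfsg.Geo.scalars I9 F}, a * π x * a⁻¹ = (π x)⁻¹ → a * (π x)⁻¹ * a⁻¹ = π x :=
      fun {a} h => by
        rw [show a * (π x)⁻¹ * a⁻¹ = (a * π x * a⁻¹)⁻¹ by group, h, inv_inv]
    have hv : π P.1 = π r1.1 * π r2.1 * π r3.1 * π r4.1 * π r5.1 := by
      simp only [hP, Subgroup.coe_mul, map_mul]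
    rw [hv]
    calc π r1.1 * π r2.1 * π r3.1 * π r4.1 * π r5.1 * π x * (π r1.1 * π r2.1 * π r3.1 * π r4.1 * π r5.1)⁻¹
        = π r1.1 * (π r2.1 * (π r3.1 * (π r4.1 * (π r5.1 * π x * (π r5.1)⁻¹) * (π r4.1)⁻¹) * (π r3.1)⁻¹) *
            (π r2.1)⁻¹) * (π r1.1)⁻¹ := by group
      _ = (π x)⁻¹ := by rw [i5, cinv i4, i3, cinv i2, i1]
  have h2 : π P.1 * π x = π x * π P.1 := by
    rw [← map_mul, ← map_mul, commutatorElement_eq_one_iff_mul_comm.1 h1]
  rw [h2, mul_inv_cancel_right, ← mul_eq_one_iff_eq_inv, ← map_mul] at hP5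
  exact N.of_sq hx ((QuotientGroup.eq_one_iff _).1 hP5)

theorem gJ_X : (gJ : GL (Fin 3) F) * gX * gJ = gX⁻¹ := by
  apply Units.ext
  rw [Units.val_mul, Units.val_mul]
  ext a b
  fin_cases a <;> fin_cases b <;> simp [gJ, gX, Matrix.mul_apply, Fin.sum_univ_three]

theorem gJ_Z : (gJ : GL (Fin 3) F) * gZ κ * gJ = (gZ κ)⁻¹ := by
  apply Units.ext
  rw [gZ, dgl_inv, Units.val_mul, Units.val_mul]
  have hω := κ.cube
  ext a b
  fin_cases a <;> fin_cases b <;>
    simp [gJ, dgl, Matrix.mul_apply, Fin.sum_univ_three, Fld.w_val, κ.inv] <;> grind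

/-- The centraliser of one involution lies in the standard group modulo scalars. -/
theorem OddN.cent_J_le {H O : Subgroup (GL I9 F)} (Ov : Ovr κ H) (N : OddN H O) {x : GL I9 F} (hx : x ∈ O)
    (hc : x * kr 1 gJ = kr 1 gJ * x) : x ∈ R9 κ ⊔ Cfsg.Geo.scalars I9 F := by
  obtain ⟨hXR, hZR, hX'R, hZ'R⟩ := mem_R9_gens κ
  set D : Subgroup (GL I9 F) := O ⊓ Subgroup.centralizer {kr 1 gJ} with hD
  have hDmem : ∀ {y}, y ∈ D ↔ y ∈ O ∧ y * kr 1 gJ = kr 1 gJ * y := fun {y} => by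
    rw [hD, Subgroup.mem_inf, Subgroup.mem_centralizer_singleton_iff]
  set π := QuotientGroup.mk' (Cfsg.Geo.scalars I9 F) with hπ
  have hJH : kr gJ (1 : GL (Fin 3) F) ∈ H := Ov.base (kr_gJ_mem_base κ).1
  have inv : ∀ w : GL (Fin 3) F, kr w 1 ∈ H →
      π (kr (w * gJ * w⁻¹) 1) * π x * (π (kr (w * gJ * w⁻¹) 1))⁻¹ = (π x)⁻¹ := by
    intro w hw
    set t : GL I9 F := kr (w * gJ * w⁻¹) 1 with ht
    have hte : t = kr w 1 * kr gJ 1 * (kr w 1)⁻¹ := by
      show krL (w * gJ * w⁻¹) = krL w * krL gJ * (krL w)⁻¹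
      rw [map_mul, map_mul, map_inv]
    have htH : t ∈ H := hte ▸ mul_mem (mul_mem hw hJH) (inv_mem hw)
    have ht2 : t * t = 1 := by
      rw [ht, kr_mul, one_mul, show w * gJ * w⁻¹ * (w * gJ * w⁻¹) = w * (gJ * gJ) * w⁻¹ by group, gJ_sq,
        mul_one, mul_inv_cancel, kr_one]
    have htJ : Commute t (kr 1 gJ) := krL_commute _ _
    have hwJ : Commute (kr w 1 : GL I9 F) (kr 1 gJ) := krL_commute _ _
    have := N.inv_mod D inf_le_left ht2 (fun u hu => by
        obtain ⟨hu1, hu2⟩ := hDmem.1 hu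
        exact hDmem.2 ⟨N.normal _ htH _ hu1, ((htJ.mul_left hu2).mul_left htJ.inv_left).eq⟩)
      (fun u hu htu => by
        obtain ⟨hu1, hu2⟩ := hDmem.1 hu
        set u' := (kr w 1)⁻¹ * u * kr w 1 with hu'
        have h1 : u' ∈ O := by simpa using N.normal _ (inv_mem hw) _ hu1
        have h2 : u' * kr 1 gJ = kr 1 gJ * u' := ((hwJ.inv_left.mul_left hu2).mul_left hwJ).eq
        have h3 : u' * kr gJ 1 = kr gJ 1 * u' := by
          calc u' * kr gJ 1 = (kr w 1)⁻¹ * (u * (kr w 1 * kr gJ 1 * (kr w 1)⁻¹)) * kr w 1 := by rw [hu']; group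
            _ = (kr w 1)⁻¹ * (kr w 1 * kr gJ 1 * (kr w 1)⁻¹ * u) * kr w 1 := by rw [← hte, htu]
            _ = kr gJ 1 * u' := by rw [hu']; group
        have h4 : u' * kr gJ gJ = kr gJ gJ * u' := by
          have : (kr gJ gJ : GL I9 F) = kr gJ 1 * kr 1 gJ := kr_eq gJ gJ
          rw [this]
          exact ((show Commute u' _ from h3).mul_right h2).eq
        have h5 := (inferInstance : (Cfsg.Geo.scalars I9 F).Normal).conj_mem _ (N.cent_JZ κ Ov h1 h2 h4) (kr w 1)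
        rwa [show kr w 1 * u' * (kr w 1)⁻¹ = u by rw [hu']; group] at h5)
      x (hDmem.2 ⟨hx, hc⟩)
    rw [← QuotientGroup.eq_one_iff, ← QuotientGroup.mk'_apply, ← hπ] at this
    simp only [map_mul, map_inv] at this ⊢
    exact eq_inv_of_mul_eq_one_left this
  have cm : ∀ w : GL (Fin 3) F, kr w 1 ∈ R9 κ → gJ * w * gJ = w⁻¹ → w ^ 3 = 1 →
      ∃ k : ℕ, x * kr w 1 * x⁻¹ = gw κ ^ k * kr w 1 := by
    intro w hwR hJw h3
    have a := inv 1 (by rw [kr_one]; exact one_mem _)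
    have b := inv w (Ov.base (R9_le_base κ hwR))
    rw [one_mul, inv_one, mul_one] at a
    have e : gJ * (w * gJ * w⁻¹) = w := by
      rw [← mul_assoc, ← mul_assoc, hJw]
      have : w ^ 3 = w * w * w := by rw [pow_succ, pow_two]
      rw [this] at h3
      rw [show w⁻¹ = w * w from inv_eq_of_mul_eq_one_right (by rw [← mul_assoc]; exact h3),
        show w * w * (w * w) = (w * w * w) * w by group, h3, one_mul]
    have hcom : π (kr w 1) * π x * (π (kr w 1))⁻¹ = π x := by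
      conv_lhs => rw [← e]
      rw [show kr (gJ * (w * gJ * w⁻¹)) (1 : GL (Fin 3) F) = kr gJ 1 * kr (w * gJ * w⁻¹) 1 by
        rw [kr_mul, one_mul], map_mul, show π (kr gJ 1) * π (kr (w * gJ * w⁻¹) 1) * π x *
          (π (kr gJ 1) * π (kr (w * gJ * w⁻¹) 1))⁻¹ = π (kr gJ 1) * (π (kr (w * gJ * w⁻¹) 1) * π x *
          (π (kr (w * gJ * w⁻¹) 1))⁻¹) * (π (kr gJ 1))⁻¹ by group, b,
        show π (kr gJ 1) * (π x)⁻¹ * (π (kr gJ 1))⁻¹ = (π (kr gJ 1) * π x * (π (kr gJ 1))⁻¹)⁻¹ by group,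
        a, inv_inv]
    set c := x * kr w 1 * x⁻¹ * (kr w 1)⁻¹ with hcdef
    have hcS : c ∈ Cfsg.Geo.scalars I9 F := by
      rw [← QuotientGroup.eq_one_iff, ← QuotientGroup.mk'_apply, ← hπ, hcdef, map_mul, map_mul, map_mul,
        map_inv, map_inv]
      rw [mul_inv_eq_iff_eq_mul] at hcom
      rw [← hcom]
      group
    have hconj : x * kr w 1 * x⁻¹ = c * kr w 1 := by rw [hcdef]; group
    have hcc : Commute c (kr w 1) := by
      obtain ⟨d, hd⟩ := (Cfsg.Geo.mem_scalars_iff c).1 hcS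
      exact Units.ext (by simp [hd])
    have hc3 : c ^ 3 = 1 := by
      have := congrArg (· ^ 3) hconj
      simp only [conj_pow, R9_cube κ hwR, mul_one, mul_inv_cancel, hcc.mul_pow] at this
      exact this.symm
    obtain ⟨k, hk⟩ := mem_powers_iff_mem_zpowers.2 (scalar_Zw κ hcS hc3)
    exact ⟨k, by rw [hconj, ← hk]⟩
  have hX3 : (gX : GL (Fin 3) F) ^ 3 = 1 := gX_cube
  obtain ⟨a, ha⟩ := cm gX hXR gJ_X hX3
  obtain ⟨b, hb⟩ := cm (gZ κ) hZR (gJ_Z κ) (gZ_cube κ)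
  obtain ⟨n, hn⟩ := N.cent_J κ Ov hx hc
  set p := krL (gX : GL (Fin 3) F) with hp
  set q := krL (gZ κ) with hq
  have hgc := gw_central κ
  have hqp : q * p * q⁻¹ = gw κ * p := by
    rw [mul_inv_eq_iff_eq_mul, mul_assoc, hp, hq, ← map_mul, ← map_mul, gXZ_comm, map_mul krL (gZ κ * gX)]
    show _ = gw κ * (krL (gZ κ * gX) * kr (dgl fun _ => κ.w ^ 2) 1)
    rw [krL_wdgl, ← gw_pow, ← ((hgc (krL (gZ κ * gX))).pow_left 2).eq, ← mul_assoc, ← pow_succ', gw_cube,
      one_mul]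
  have hpq : p * q * p⁻¹ = gw κ ^ 2 * q := by
    rw [mul_inv_eq_iff_eq_mul, mul_assoc, hp, hq, ← map_mul, ← map_mul, gXZ_comm, map_mul]
    show krL (gZ κ * gX) * kr (dgl fun _ => κ.w ^ 2) 1 = _
    rw [krL_wdgl, ← gw_pow]
    exact ((hgc (krL (gZ κ * gX))).pow_left 2).eq.symm
  have hshift : ∀ {g y : GL I9 F} {e : ℕ}, g * y * g⁻¹ = gw κ ^ e * y → ∀ i : ℕ,
      g ^ i * y * (g ^ i)⁻¹ = gw κ ^ (e * i) * y := by
    intro g y e h i
    induction i with
    | zero => simp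
    | succ i ih =>
      calc g ^ (i + 1) * y * (g ^ (i + 1))⁻¹ = g ^ i * (g * y * g⁻¹) * (g ^ i)⁻¹ := by
            rw [pow_succ]; group
        _ = g ^ i * gw κ ^ e * y * (g ^ i)⁻¹ := by rw [h]; group
        _ = gw κ ^ e * (g ^ i * y * (g ^ i)⁻¹) := by rw [← ((hgc (g ^ i)).pow_left e).eq]; group
        _ = gw κ ^ (e * (i + 1)) * y := by
            rw [ih, ← mul_assoc, ← pow_add, show e * (i + 1) = e + e * i by ring]
  set r := q ^ a * p ^ (2 * b) with hr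
  have hrR : r ∈ R9 κ := mul_mem (pow_mem hZR a) (pow_mem hXR (2 * b))
  have hrp : r * p * r⁻¹ = gw κ ^ a * p := by
    rw [hr, show q ^ a * p ^ (2 * b) * p * (q ^ a * p ^ (2 * b))⁻¹ = q ^ a * p * (q ^ a)⁻¹ by group,
      hshift (e := 1) (by rw [pow_one]; exact hqp) a, one_mul]
  have hrq : r * q * r⁻¹ = gw κ ^ b * q := by
    rw [hr, show q ^ a * p ^ (2 * b) * q * (q ^ a * p ^ (2 * b))⁻¹ =
      q ^ a * (p ^ (2 * b) * q * (p ^ (2 * b))⁻¹) * (q ^ a)⁻¹ by group, hshift hpq,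
      show 2 * (2 * b) = 3 * b + b by ring, pow_add, pow_mul, gw_cube, one_pow, one_mul, ← mul_assoc,
      ← ((hgc (q ^ a)).pow_left b).eq]
    group
  have hs : r⁻¹ * x ∈ Cfsg.Geo.scalars I9 F := by
    refine R9_centralizer κ ?_
    have key : ∀ (y : GL I9 F) (k : ℕ), r * y * r⁻¹ = gw κ ^ k * y → x * y * x⁻¹ = gw κ ^ k * y →
        r⁻¹ * x * y = y * (r⁻¹ * x) := fun y k h1 h2 => by
      rw [← h1, mul_inv_eq_iff_eq_mul] at h2
      rw [mul_assoc, h2]; group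
    have hR : ∀ B : GL (Fin 3) F, r⁻¹ * x * kr 1 B = kr 1 B * (r⁻¹ * x) := fun B => by
      rw [hn, hr, hp, hq, ← map_pow, ← map_pow, ← map_mul, ← map_inv]
      show krL _ * krL n * krR B = krR B * (krL _ * krL n)
      rw [← map_mul]
      exact krL_commute _ _
    rintro y (rfl | rfl | rfl | rfl)
    · exact key _ a hrp ha
    · exact key _ b hrq hb
    · exact hR _
    · exact hR _
  rw [show x = r * (r⁻¹ * x) by group]
  exact mul_mem (Subgroup.mem_sup_left hrR) (Subgroup.mem_sup_right hs)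

theorem swE_R9 {x : GL I9 F} (hx : x ∈ R9 κ) : swE x ∈ R9 κ := by
  obtain ⟨h1, h2, h3, h4⟩ := mem_R9_gens κ
  refine ((Subgroup.closure_le ((R9 κ).comap (swE (F := F)).toMonoidHom)).2 ?_ :
    R9 κ ≤ _) hx
  rintro y (rfl | rfl | rfl | rfl)
  all_goals
    show swE (kr _ _) ∈ R9 κ
    rw [swE_kr]
    assumption

theorem OddN.cent_J2_le {H O : Subgroup (GL I9 F)} (Ov : Ovr κ H) (N : OddN H O) {x : GL I9 F} (hx : x ∈ O)
    (hc : x * kr gJ 1 = kr gJ 1 * x) : x ∈ R9 κ ⊔ Cfsg.Geo.scalars I9 F := by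
  have h := (N.swap).cent_J_le κ (Ov.swap κ) (mem_swH.2 (by rw [swE_swE]; exact hx) : swE x ∈ swH O) (by
    rw [← swE_kr (gJ : GL (Fin 3) F) 1, ← map_mul, ← map_mul, hc])
  obtain ⟨r, hr, c, hc', e⟩ := Subgroup.mem_sup_of_normal_right.1 h
  rw [← swE_swE x, ← e, map_mul]
  exact mul_mem (Subgroup.mem_sup_left (swE_R9 κ hr)) (Subgroup.mem_sup_right (swE_scalars hc'))

end Cfsg.Agent.C6NineOdd
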