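/-
A proper overgroup of the known normalising elements normalises the standard group.
Main results: `Ovr.le_norm`.
-/
import Cfsg.Agent.Lib.C6NineOdd.OddCore
import Cfsg.Agent.Lib.Coprime.Generation
import Cfsg.Agent.Lib.ZStar.Glauberman
import Cfsg.Agent.Lib.ZStar.Unique

set_option autoImplicit false
set_option linter.unusedSectionVars false
set_option linter.unusedSimpArgs false

namespace Cfsg.Agent.C6NineOdd

open Matrix Cfsg.Agent.Transvect
open scoped Matrix Kronecker commutatorElement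

universe u

variable {F : Type u} [Field F] [Fintype F] (κ : Fld F)

theorem trace_z : Matrix.trace ((kr gJ gJ : GL I9 F) : Matrix I9 I9 F) = 1 := by
  simp [Matrix.trace, Matrix.diag, Fintype.sum_prod_type, Fin.sum_univ_three, kr_val, gJ]
  rw [show (Finset.univ.filter fun x : Fin 3 => x + x = 0).card = 1 from rfl, Nat.cast_one]

theorem z_sq : (kr gJ gJ : GL I9 F) * kr gJ gJ = 1 := by rw [kr_mul, gJ_sq, kr_one]

/-- A normal subgroup of odd order lies in the standard group modulo scalars. -/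
theorem OddN.le_R9 {H O : Subgroup (GL I9 F)} (Ov : Ovr κ H) (N : OddN H O) :
    O ≤ R9 κ ⊔ Cfsg.Geo.scalars I9 F := by
  classical
  haveI : Fact (Nat.Prime 2) := ⟨Nat.prime_two⟩
  set a : GL I9 F := kr 1 gJ with ha
  set b : GL I9 F := kr gJ 1 with hb
  have hab : a * b = b * a := by rw [ha, hb, kr_mul, kr_mul, one_mul, mul_one]
  have ha2 : a ^ 2 = 1 := by rw [pow_two, ha, kr_mul, one_mul, gJ_sq, kr_one]
  have hb2 : b ^ 2 = 1 := by rw [pow_two, hb, kr_mul, one_mul, gJ_sq, kr_one]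
  obtain ⟨hbH, haH⟩ : b ∈ H ∧ a ∈ H :=
    ⟨Ov.base (kr_gJ_mem_base κ).1, Ov.base (kr_gJ_mem_base κ).2⟩
  set A := Subgroup.closure ({a, b} : Set (GL I9 F)) with hA
  haveI : IsMulCommutative A := by
    refine Subgroup.isMulCommutative_closure ?_
    rintro x hx y hy
    rcases hx with rfl | rfl <;> rcases hy with rfl | rfl
    exacts [rfl, hab, hab.symm, rfl]
  have hAH : A ≤ H := (Subgroup.closure_le _).2 (by rintro x (rfl | rfl); exacts [haH, hbH])
  have hA2 : ∀ x ∈ A, x ^ 2 = 1 := by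
    intro x hx
    refine And.right (show x ∈ A ∧ x ^ 2 = 1 from ?_)
    induction hx using Subgroup.closure_induction with
    | mem x hx =>
      refine ⟨Subgroup.subset_closure hx, ?_⟩
      rcases hx with rfl | rfl <;> assumption
    | one => exact ⟨one_mem _, one_pow _⟩
    | mul x y _ _ hx hy =>
      refine ⟨mul_mem hx.1 hy.1, ?_⟩
      rw [(show Commute x y from setLike_mul_comm hx.1 hy.1).mul_pow, hx.2, hy.2, one_mul]
    | inv x _ hx => exact ⟨inv_mem hx.1, by rw [_root_.inv_pow, hx.2, inv_one]⟩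
  have hnorm : A ≤ Subgroup.normalizer (O : Set (GL I9 F)) := fun h hh =>
    Subgroup.mem_normalizer_iff.2 fun y => ⟨N.normal h (hAH hh) y, fun hy => by
      simpa [mul_assoc] using N.normal h⁻¹ (inv_mem (hAH hh)) _ hy⟩
  have hcop : (Nat.card A).Coprime (Nat.card O) := by
    have hp : IsPGroup 2 A := fun x => ⟨1, Subtype.ext (by simpa using hA2 x x.2)⟩
    obtain ⟨k, hk⟩ := IsPGroup.iff_card.1 hp
    rw [hk]
    exact Nat.Coprime.pow_left k ((Nat.Prime.coprime_iff_not_dvd Nat.prime_two).2 N.odd)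
  refine Coprime.le_of_pair hnorm hcop Nat.prime_two (Subgroup.subset_closure (Set.mem_insert _ _))
    (Subgroup.subset_closure (by simp : b ∈ ({a, b} : Set (GL I9 F)))) (by rw [ha2]; exact one_mem _)
    (by rw [hb2]; exact one_mem _) ?_
  rintro i j hij x ⟨hx, hc⟩
  have hc' : x * (a ^ i * b ^ j) = a ^ i * b ^ j * x := Subgroup.mem_centralizer_singleton_iff.1 hc
  have red : ∀ (y : GL I9 F) (n : ℕ), y ^ 2 = 1 → y ^ n = y ^ (n % 2) := fun y n hy => by
    conv_lhs => rw [← Nat.div_add_mod n 2, pow_add, pow_mul, hy, one_pow, one_mul]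
  rw [red a i ha2, red b j hb2] at hc'
  rcases Nat.mod_two_eq_zero_or_one i with hi | hi <;> rcases Nat.mod_two_eq_zero_or_one j with hj | hj
  · exact absurd ⟨Nat.dvd_of_mod_eq_zero hi, Nat.dvd_of_mod_eq_zero hj⟩ hij
  · rw [hi, hj, pow_zero, pow_one, one_mul] at hc'
    exact N.cent_J2_le κ Ov hx hc'
  · rw [hi, hj, pow_zero, pow_one, mul_one] at hc'
    exact N.cent_J_le κ Ov hx hc'
  · rw [hi, hj, pow_one, pow_one, show a * b = kr gJ gJ by rw [ha, hb, kr_mul, one_mul, mul_one]] at hc'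
    exact Subgroup.mem_sup_right (N.cent_Z κ Ov hx hc')

/-- Proper overgroups normalise the standard group. -/
theorem Ovr.le_norm {H : Subgroup (GL I9 F)} (Ov : Ovr κ H) :
    H ≤ Cfsg.Geo.subgroupNormalizer (R9 κ) := by
  classical
  set z : GL I9 F := kr gJ gJ with hz
  have hzB : z ∈ Base κ := by
    rw [hz, kr_eq]
    exact mul_mem (kr_gJ_mem_base κ).1 (kr_gJ_mem_base κ).2
  have hzH : z ∈ H := Ov.base hzB
  have hzne : z ≠ 1 := fun e => by
    have := congrArg (fun g : GL I9 F => Matrix.trace (g : Matrix I9 I9 F)) e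
    simp only [hz, trace_z, Units.val_one, Matrix.trace_one] at this
    simp at this
    exact pow_ne_zero 3 κ.two (by linear_combination -this)
  have hzm : ((z : GL I9 F) : Matrix I9 I9 F) ≠ -1 := fun e => by
    have := congrFun (congrFun e (0, 0)) (0, 0)
    simp [hz, kr_val, gJ] at this
    exact κ.two (by linear_combination this)
  -- isolation
  have hiso : Cfsg.IsIsolatedInvolution (⟨z, hzH⟩ : H) := by
    refine ⟨?_, fun g hc => ?_⟩
    · haveI : Fact (Nat.Prime 2) := ⟨Nat.prime_two⟩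
      refine orderOf_eq_prime (Subtype.ext ?_) fun e => hzne (congrArg Subtype.val e)
      show z ^ 2 = 1
      rw [pow_two]; exact z_sq
    · apply Subtype.ext
      show g.1 * z * g.1⁻¹ = z
      set w := g.1 * z * g.1⁻¹ with hw
      have hwH : w ∈ H := mul_mem (mul_mem g.2 hzH) (inv_mem g.2)
      have hwz : w * z = z * w := (congrArg Subtype.val hc.eq).symm
      have hwN := base_le_norm κ (CZ_le_base κ Ov hwH hwz)
      have hw2 : w * w = 1 := by
        rw [hw, show g.1 * z * g.1⁻¹ * (g.1 * z * g.1⁻¹) = g.1 * (z * z) * g.1⁻¹ by group, hz, z_sq,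
          mul_one, mul_inv_cancel]
      have htr : Matrix.trace (w : Matrix I9 I9 F) = 1 := by
        rw [hw, Units.val_mul, Units.val_mul, Matrix.trace_mul_comm, ← Matrix.mul_assoc, ← Units.val_mul,
          inv_mul_cancel, Units.val_one, Matrix.one_mul, hz, trace_z]
      refine invol_unique κ hwN (base_le_norm κ hzB) hw2 z_sq htr trace_z (fun e => hzm ?_) hzm hwz
      have e' : z = g.1⁻¹ * w * g.1 := by rw [hw]; group
      rw [e', Units.val_mul, Units.val_mul, e, Matrix.mul_neg, Matrix.mul_one, Matrix.neg_mul, ← Units.val_mul,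
        inv_mul_cancel, Units.val_one]
  set O : Subgroup (GL I9 F) := (Cfsg.pPrimeCore 2 H).map H.subtype with hO
  have hN : OddN H O := by
    refine ⟨Subgroup.map_subtype_le _, ?_, ?_⟩
    · rw [hO, Subgroup.card_map_of_injective H.subtype_injective]
      exact (Nat.Prime.coprime_iff_not_dvd Nat.prime_two).1 (Cores.coprime_card_pPrimeCore 2).symm
    · rintro h hh _ ⟨y, hy, rfl⟩
      exact ⟨⟨h, hh⟩ * y * ⟨h, hh⟩⁻¹, (Cores.pPrimeCore_normal 2 H).conj_mem y hy _, rfl⟩
  have hcomm : ∀ g ∈ H, z * g * z⁻¹ * g⁻¹ ∈ O := fun g hg =>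
    ⟨_, ZStar.zStar_of_brauerSuzuki ZStar.uniqueInvolution hiso ⟨g, hg⟩, rfl⟩
  have hgen : ∀ x ∈ ({kr gX 1, kr (gZ κ) 1, kr 1 gX, kr 1 (gZ κ)} : Set (GL I9 F)),
      x ∈ O := by
    intro x hx
    have hxR : x ∈ R9 κ := Subgroup.subset_closure hx
    have h3 := R9_cube κ hxR
    have hzi : z⁻¹ = z := inv_eq_of_mul_eq_one_right z_sq
    have hinv : z * x * z⁻¹ = x⁻¹ := by
      rw [hzi, hz]
      rcases hx with rfl | rfl | rfl | rfl
      · show _ = (krL gX)⁻¹; rw [← map_inv, kr_mul, kr_mul, mul_one, gJ_X, gJ_sq]; rfl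
      · show _ = (krL (gZ κ))⁻¹; rw [← map_inv, kr_mul, kr_mul, mul_one, gJ_Z, gJ_sq]; rfl
      · show _ = (krR gX)⁻¹; rw [← map_inv, kr_mul, kr_mul, mul_one, gJ_X, gJ_sq]; rfl
      · show _ = (krR (gZ κ))⁻¹; rw [← map_inv, kr_mul, kr_mul, mul_one, gJ_Z, gJ_sq]; rfl
    have h := hcomm x (Ov.base (R9_le_base κ hxR))
    rw [hinv] at h
    have e : x = x⁻¹ * x⁻¹ := by
      rw [← _root_.mul_inv_rev, eq_inv_iff_mul_eq_one, ← mul_assoc, ← pow_two, ← pow_succ]
      exact h3
    rwa [e]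
  intro g hg
  refine mem_normalizer_of_gens κ fun x hx => ?_
  obtain ⟨r, hr, c, hc, e⟩ := Subgroup.mem_sup_of_normal_right.1
    (hN.le_R9 κ Ov (hN.normal g hg x (hgen x hx)))
  obtain ⟨d, hd⟩ := (Cfsg.Geo.mem_scalars_iff c).1 hc
  have hcc : Commute r c := Units.ext (by simp [hd])
  have h3 : c ^ 3 = 1 := by
    have := congrArg (· ^ 3) e
    simp only [hcc.mul_pow, R9_cube κ hr, one_mul, conj_pow, R9_cube κ (Subgroup.subset_closure hx),
      mul_one, mul_inv_cancel] at this
    exact this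
  rw [← e]
  exact mul_mem hr (Zw_le_R9 κ (scalar_Zw κ hc h3))

end Cfsg.Agent.C6NineOdd
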